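import Mathlib

/-!
# Counting a partition into self-normalising or index-two members
-/

set_option autoImplicit false
set_option linter.unusedSectionVars false
set_option linter.style.haveILetI false

namespace CfsgLib.MinNonCA

open Subgroup

variable {K : Type*} [Group K] [Finite K]

/-- The non-trivial elements of the conjugates of `A`. -/
def spread (A : Subgroup K) : Set K := {k | k ≠ 1 ∧ ∃ g : K, g⁻¹ * k * g ∈ A}

variable {S : Set (Subgroup K)}
  (uniq : ∀ A ∈ S, ∀ B ∈ S, ∀ k : K, k ≠ 1 → k ∈ A → k ∈ B → A = B)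
  (conj : ∀ A ∈ S, ∀ g : K, A.map (MulAut.conj g).toMonoidHom ∈ S)

include uniq conj

theorem ncard_spread {A : Subgroup K} (hA : A ∈ S) :
    (spread A).ncard * Nat.card (normalizer (A : Set K)) = Nat.card K * (Nat.card A - 1) := by
  classical
  choose g₀ hg₀ using fun d : spread A => d.2.2
  have hN : ∀ (d : spread A) (g : K), g⁻¹ * (d : K) * g ∈ A →
      g⁻¹ * g₀ d ∈ normalizer (A : Set K) := by
    intro d g hg
    set n := g⁻¹ * g₀ d with hn
    have he : n * ((g₀ d)⁻¹ * (d : K) * g₀ d) * n⁻¹ = g⁻¹ * (d : K) * g := by rw [hn]; group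
    have hmap : A.map (MulAut.conj n).toMonoidHom = A :=
      uniq _ (conj A hA n) A hA _
        (fun e => d.2.1 (conj_eq_one_iff (a := g⁻¹) |>.1 (by rwa [inv_inv])))
        ⟨_, hg₀ d, he⟩ hg
    refine mem_normalizer_fintype fun a ha => ?_
    rw [SetLike.mem_coe, ← hmap]
    exact ⟨a, ha, rfl⟩
  let δ : K × {a : A // a ≠ 1} → spread A := fun p =>
    ⟨p.1 * (p.2 : A) * p.1⁻¹, fun e => p.2.2 (Subtype.ext (conj_eq_one_iff.1 e)), p.1,
      by simp [mul_assoc]⟩
  let f : K × {a : A // a ≠ 1} → spread A × normalizer (A : Set K) := fun p =>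
    (δ p, ⟨p.1⁻¹ * g₀ (δ p), hN (δ p) p.1 (by simp [δ, mul_assoc])⟩)
  have hf : Function.Bijective f := by
    constructor
    · rintro ⟨g, a⟩ ⟨g', a'⟩ e
      obtain ⟨e1, e2⟩ := Prod.mk.inj e
      have e2' := congrArg Subtype.val e2
      simp only [e1] at e2'
      have hgg : g = g' := inv_injective (mul_right_cancel e2')
      subst hgg
      have e1' := congrArg Subtype.val e1
      exact Prod.ext rfl (Subtype.ext (Subtype.ext (mul_left_cancel (mul_right_cancel e1'))))
    · rintro ⟨d, n, hn⟩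
      have ha : (g₀ d * n⁻¹)⁻¹ * (d : K) * (g₀ d * n⁻¹) ∈ A := by
        rw [show (g₀ d * n⁻¹)⁻¹ * (d : K) * (g₀ d * n⁻¹) =
          n * ((g₀ d)⁻¹ * (d : K) * g₀ d) * n⁻¹ by group]
        exact (mem_normalizer_iff.1 hn _).1 (hg₀ d)
      have hne : (⟨_, ha⟩ : A) ≠ 1 := fun e => d.2.1
        (conj_eq_one_iff (a := (g₀ d * n⁻¹)⁻¹) |>.1
          (by rw [inv_inv]; exact congrArg Subtype.val e))
      refine ⟨(g₀ d * n⁻¹, ⟨⟨_, ha⟩, hne⟩), ?_⟩
      have hd : δ (g₀ d * n⁻¹, ⟨⟨_, ha⟩, hne⟩) = d := Subtype.ext (by simp [δ, mul_assoc])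
      refine Prod.ext hd (Subtype.ext ?_)
      show (g₀ d * n⁻¹)⁻¹ * g₀ (δ _) = n
      rw [hd]
      group
  have h := Nat.card_congr (Equiv.ofBijective f hf)
  rw [Nat.card_prod, Nat.card_prod, Nat.card_coe_set_eq] at h
  have hA1 : Nat.card {a : A // a ≠ 1} = Nat.card A - 1 := by
    haveI : Fintype A := Fintype.ofFinite A
    rw [Nat.card_eq_fintype_card, Fintype.card_subtype_compl, Fintype.card_subtype_eq,
      Nat.card_eq_fintype_card]
  rw [hA1] at h
  exact h.symm

theorem spread_disjoint {A B : Subgroup K} (hA : A ∈ S) (hB : B ∈ S) {k : K} (hkB : k ∈ B)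
    (hk : k ≠ 1) (hkA : k ∉ spread A) : Disjoint (spread A) (spread B) := by
  rw [Set.disjoint_left]
  rintro y ⟨hy, g, hg⟩ ⟨-, g', hg'⟩
  have h : A.map (MulAut.conj g).toMonoidHom = B.map (MulAut.conj g').toMonoidHom :=
    uniq _ (conj A hA g) _ (conj B hB g') y hy
      ⟨_, hg, by simp [mul_assoc]⟩ ⟨_, hg', by simp [mul_assoc]⟩
  obtain ⟨a, ha, hak⟩ : g' * k * g'⁻¹ ∈ A.map (MulAut.conj g).toMonoidHom :=
    h ▸ ⟨k, hkB, rfl⟩
  refine hkA ⟨hk, g'⁻¹ * g, ?_⟩
  rw [show (g'⁻¹ * g)⁻¹ * k * (g'⁻¹ * g) = g⁻¹ * (g' * k * g'⁻¹) * g by group, ← hak]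
  simpa [mul_assoc] using ha

/-- No non-trivial group has such a partition. -/
theorem count_false (hK : Nontrivial K) (cover : ∀ k : K, k ≠ 1 → ∃ A ∈ S, k ∈ A)
    (three : ∀ A ∈ S, 3 ≤ Nat.card A) (proper : ∀ A ∈ S, A ≠ ⊤)
    (norm : ∀ A ∈ S, normalizer (A : Set K) = A ∨
      Nat.card (normalizer (A : Set K)) = 2 * Nat.card A) : False := by
  classical
  set h := Nat.card K
  have hle : ∀ D : Set K, (1 : K) ∉ D → D.ncard ≤ h - 1 := by
    intro D hD
    have := Set.ncard_le_ncard (s := D) (t := {(1 : K)}ᶜ)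
      (fun y hy (e : y = 1) => hD (e ▸ hy)) (Set.toFinite _)
    rwa [Set.ncard_compl, Set.ncard_singleton] at this
  have hone : ∀ A : Subgroup K, (1 : K) ∉ spread A := fun A hA => hA.1 rfl
  have next_ : ∀ D : Set K, (1 : K) ∉ D → D.ncard + 1 < h → ∃ k, k ≠ 1 ∧ k ∉ D := by
    intro D hD hlt
    by_contra hall
    push Not at hall
    have := Set.ncard_le_ncard (s := {(1 : K)}ᶜ) (t := D) (fun y hy => hall y hy) (Set.toFinite _)
    rw [Set.ncard_compl, Set.ncard_singleton] at this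
    omega
  have hbig : ∀ A ∈ S, 2 * Nat.card A ≤ h := by
    intro A hA
    obtain ⟨j, hj⟩ := card_subgroup_dvd_card A
    rcases j with _ | _ | j
    · exact absurd hj (by rw [mul_zero]; exact Nat.card_pos.ne')
    · exact absurd (eq_top_of_card_eq A (by simpa using hj.symm)) (proper A hA)
    · rw [show h = Nat.card A * (j + 1 + 1) from hj]
      nlinarith
  have hthird : ∀ A ∈ S, h ≤ 3 * (spread A).ncard := by
    intro A hA
    have e := ncard_spread uniq conj hA
    have hN : Nat.card (normalizer (A : Set K)) ≤ 2 * Nat.card A := by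
      rcases norm A hA with e' | e'
      · rw [e']; omega
      · omega
    have h3 := three A hA
    obtain ⟨a, ha⟩ : ∃ a, Nat.card A = a + 3 := ⟨Nat.card A - 3, by omega⟩
    rw [ha, show a + 3 - 1 = a + 2 by omega] at e
    rw [ha] at hN
    by_contra hlt
    have h1 : (spread A).ncard * Nat.card (normalizer (A : Set K)) ≤
        (spread A).ncard * (2 * (a + 3)) := Nat.mul_le_mul_left _ hN
    nlinarith
  obtain ⟨k, hk⟩ := exists_ne (1 : K)
  obtain ⟨A₀, hA₀, -⟩ := cover k hk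
  by_cases hself : ∃ A ∈ S, normalizer (A : Set K) = A
  · obtain ⟨A, hA, hAn⟩ := hself
    have e := ncard_spread uniq conj hA
    rw [hAn] at e
    have h3 := three A hA
    have h2 := hbig A hA
    obtain ⟨a, ha⟩ : ∃ a, Nat.card A = a + 3 := ⟨Nat.card A - 3, by omega⟩
    rw [ha, show a + 3 - 1 = a + 2 by omega] at e
    rw [ha] at h2
    have hA2 : 2 * h ≤ 3 * (spread A).ncard := by
      by_contra hlt
      nlinarith
    have hlt : (spread A).ncard + 1 < h := by
      by_contra hge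
      nlinarith
    obtain ⟨y, hy, hyA⟩ := next_ _ (hone A) hlt
    obtain ⟨B, hB, hyB⟩ := cover y hy
    have hd := spread_disjoint uniq conj hA hB hyB hy hyA
    have := hle (spread A ∪ spread B) (by simp [hone])
    rw [Set.ncard_union_eq hd (Set.toFinite _) (Set.toFinite _)] at this
    have := hthird B hB
    have : 0 < h := Nat.card_pos
    omega
  push Not at hself
  have htwo : ∀ A ∈ S, 2 * (spread A).ncard * Nat.card A = h * (Nat.card A - 1) := by
    intro A hA
    have e := ncard_spread uniq conj hA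
    rw [(norm A hA).resolve_left (hself A hA)] at e
    rw [← e]; ring
  obtain ⟨a, ha⟩ : ∃ a, Nat.card A₀ = a + 3 := ⟨Nat.card A₀ - 3, by have := three A₀ hA₀; omega⟩
  have e₀ := htwo A₀ hA₀
  rw [ha, show a + 3 - 1 = a + 2 by omega] at e₀
  have h₀ := hbig A₀ hA₀
  rw [ha] at h₀
  have hlt : (spread A₀).ncard + 1 < h := by
    by_contra hge
    nlinarith
  obtain ⟨y, hy, hyA⟩ := next_ _ (hone A₀) hlt
  obtain ⟨B, hB, hyB⟩ := cover y hy
  obtain ⟨b, hb⟩ : ∃ b, Nat.card B = b + 3 := ⟨Nat.card B - 3, by have := three B hB; omega⟩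
  have e₁ := htwo B hB
  rw [hb, show b + 3 - 1 = b + 2 by omega] at e₁
  have h₁ := hbig B hB
  rw [hb] at h₁
  have hd := spread_disjoint uniq conj hA₀ hB hyB hy hyA
  have hlt2 : (spread A₀ ∪ spread B).ncard + 1 < h := by
    rw [Set.ncard_union_eq hd (Set.toFinite _) (Set.toFinite _)]
    have p1 : 2 * (spread A₀).ncard + 2 ≤ h :=
      Nat.le_of_mul_le_mul_right (c := a + 3) (by nlinarith) (by omega)
    have p2 : 2 * (spread B).ncard + 2 ≤ h :=
      Nat.le_of_mul_le_mul_right (c := b + 3) (by nlinarith) (by omega)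
    omega
  obtain ⟨z, hz, hzD⟩ := next_ _ (by simp [hone]) hlt2
  rw [Set.mem_union, not_or] at hzD
  obtain ⟨C, hC, hzC⟩ := cover z hz
  have hd1 := spread_disjoint uniq conj hA₀ hC hzC hz hzD.1
  have hd2 := spread_disjoint uniq conj hB hC hzC hz hzD.2
  have := hle (spread A₀ ∪ spread B ∪ spread C) (by simp [hone])
  rw [Set.ncard_union_eq (Disjoint.union_left hd1 hd2) (Set.toFinite _) (Set.toFinite _),
    Set.ncard_union_eq hd (Set.toFinite _) (Set.toFinite _)] at this
  have := hthird A₀ hA₀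
  have := hthird B hB
  have := hthird C hC
  have : 0 < h := Nat.card_pos
  omega

end CfsgLib.MinNonCA
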