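import Cfsg.Agent.MinNonCA.PSLFacts
import Cfsg.Agent.PSLBinary.Sylow
import Cfsg.Agent.Classical.PSLTwoTorus

/-!
# Borel subgroups, two-subgroups and subfield subgroups of `PSL₂(q)`
-/

set_option autoImplicit false
set_option linter.unusedSectionVars false
set_option linter.style.haveILetI false

namespace CfsgLib.MinNonCA.PSL

open Subgroup Matrix
open CfsgLib.SL2C
open CfsgLib.Linear.SmallSub (proj P2)
open CfsgLib.Linear.FourGroups (proj_surj proj_eq_one)
open CfsgLib.PSLBinary (uu pm upper)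

variable {F : Type} [Field F] [Fintype F]

theorem two_or_odd : (2 : F) = 0 ∨ Odd (Fintype.card F) := by
  by_cases h : ringChar F = 2
  · left
    haveI := ringChar.of_eq h
    exact CharTwo.two_eq_zero
  · exact Or.inr (Nat.odd_iff.2 (FiniteField.odd_card_of_char_ne_two h))

theorem even_card (h : (2 : F) = 0) : Fintype.card F % 2 = 0 := by
  refine FiniteField.even_card_iff_char_two.1 ?_
  haveI : CharP F 2 := (CharP.charP_iff_prime_eq_zero Nat.prime_two).2 (by exact_mod_cast h)
  exact ringChar.eq F 2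

theorem two_ne_zero_of_odd (hodd : Odd (Fintype.card F)) : (2 : F) ≠ 0 := fun h => by
  have := even_card h
  rw [Nat.odd_iff] at hodd
  omega

/-- `PSL₂(3)` and `PSL₂(5)` have abelian centralisers. -/
theorem ca_three_five (h : Fintype.card F = 3 ∨ Fintype.card F = 5) : CA (P2 F) := by
  intro g a b ha hb hab
  by_contra hg
  have hg1 : g ≠ 1 := fun e => hg (e ▸ one_mem _)
  by_cases hgg : g * g = 1
  · obtain ⟨U, m, -, -, -, -, hm2, hC, -, -⟩ :=
      invol_shape (by rcases h with h | h <;> rw [h] <;> decide) hgg hg1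
    have hm : 2 * m = 4 := by
      rcases h with h | h <;> rw [h] at hm2 <;> norm_num at hm2 <;> omega
    haveI : Fact (Nat.Prime 2) := ⟨Nat.prime_two⟩
    have h4 : Nat.card (centralizer ({g} : Set (P2 F))) = 2 ^ 2 := by rw [hC, hm]; norm_num
    exact hab ((IsPGroup.isMulCommutative_of_card_eq_prime_sq h4).is_comm.comm
      ⟨a, mem_centralizer_singleton_iff.2 ha.eq⟩ ⟨b, mem_centralizer_singleton_iff.2 hb.eq⟩ |>
      congrArg Subtype.val)
  · exact hab (commute_cent (Or.inr hgg) hg1 ha hb)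

/-- A regular diagonal element, for `q ≥ 7` and for even `q ≥ 4`. -/
theorem exists_diag' (h : 7 ≤ Fintype.card F ∨ ((2 : F) = 0 ∧ 4 ≤ Fintype.card F)) :
    ∃ β : Fˣ, proj (dg β) * proj (dg β) ≠ 1 ∧ β * β ≠ 1 := by
  classical
  rcases h with h | ⟨h2, h4⟩
  · exact exists_diag h
  obtain ⟨β, hβ⟩ := IsCyclic.exists_generator (α := Fˣ)
  have hord : orderOf β = Fintype.card F - 1 := by
    rw [orderOf_eq_card_of_forall_mem_zpowers hβ, Nat.card_eq_fintype_card, Fintype.card_units]
  have hodd : (Fintype.card F - 1) % 2 = 1 := by have := even_card h2; omega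
  refine ⟨β, fun e => ?_, fun e => ?_⟩
  · rw [← map_mul, ← map_mul, proj_eq_one, dg_mem_center_iff, show β * β * (β * β) = β ^ 2 ^ 2 by
      simp [pow_succ, mul_assoc]] at e
    obtain ⟨i, hi, hd⟩ := (Nat.dvd_prime_pow Nat.prime_two).1 (orderOf_dvd_of_pow_eq_one e)
    rw [hord] at hd
    interval_cases i <;> omega
  · have := Nat.le_of_dvd (by norm_num) (orderOf_dvd_of_pow_eq_one
      (show β ^ 2 = 1 by rw [pow_two]; exact e))
    omega

theorem proj_dg (β : Fˣ) : proj (dg β) = pm (β : F) 0 0 ((β⁻¹ : Fˣ) : F) (by simp) := rfl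

theorem diag_upper (β : Fˣ) (s : F) :
    proj (dg β) * uu s * (proj (dg β))⁻¹ = uu ((β : F) * β * s) := by
  rw [proj_dg, uu, PSLBinary.pm_mul, PSLBinary.pm_inv, PSLBinary.pm_mul, uu]
  have h1 : (β : F) * ((β⁻¹ : Fˣ) : F) = 1 := by simp
  refine PSLBinary.pm_congr ?_ ?_ ?_ ?_
  · linear_combination h1
  · ring
  · ring
  · linear_combination h1

theorem normalizer_upper_ne_top (h4 : 4 ≤ Fintype.card F) :
    normalizer (upper F : Set (P2 F)) ≠ ⊤ := fun e => by
  obtain ⟨hs, hns⟩ := simple_psl h4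
  haveI := normalizer_eq_top_iff.1 e
  rcases (inferInstance : (upper F).Normal).eq_bot_or_eq_top with e' | e'
  · have h1 : uu (1 : F) ∈ upper F := ⟨1, rfl⟩
    rw [e', mem_bot, PSLBinary.uu_eq_one_iff] at h1
    exact one_ne_zero h1
  · exact hns (Group.isSolvable_of_comm fun a b =>
      (upper_commute (e' ▸ mem_top a) (e' ▸ mem_top b)).eq)

/-- A unipotent element is moved in a proper subgroup containing its unipotent group. -/
theorem upper_moved (h4 : 4 ≤ Fintype.card F) {g : P2 F} (c : P2 F) (hg : g ≠ 1)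
    (hcg : c * g * c⁻¹ ∈ upper F) :
    ∃ Y : Subgroup (P2 F), Y ≠ ⊤ ∧ (∀ y, c * y * c⁻¹ ∈ upper F → y ∈ Y) ∧
      ∃ n ∈ Y, ¬ Commute n g := by
  obtain ⟨b₀, hb0, hb₀⟩ := CfsgLib.Linear.Small.exists_sq_ne_one (F := F) h4
  obtain ⟨β, rfl⟩ : ∃ β : Fˣ, (β : F) = b₀ := ⟨Units.mk0 b₀ hb0, rfl⟩
  have hβ : β ^ 2 ≠ 1 := fun e => hb₀ (by rw [← Units.val_pow_eq_pow_val, e, Units.val_one])
  refine ⟨(normalizer (upper F : Set (P2 F))).comap (MulAut.conj c).toMonoidHom, fun e => ?_,
    fun y hy => le_normalizer hy, ?_⟩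
  · refine normalizer_upper_ne_top h4 (eq_top_iff.2 fun x _ => ?_)
    rw [← map_comap_eq_self_of_surjective (f := (MulAut.conj c).toMonoidHom)
      (MulAut.conj c).surjective (normalizer (upper F : Set (P2 F))), e]
    exact ⟨(MulAut.conj c).symm x, mem_top _, (MulAut.conj c).apply_symm_apply x⟩
  obtain ⟨s, hs⟩ := hcg
  have hs0 : s ≠ 0 := fun e => hg (by rw [e, PSLBinary.uu_zero, eq_comm, conj_eq_one_iff] at hs; exact hs)
  set d := proj (dg β)
  have hd : d * uu s * d⁻¹ ∈ upper F := by rw [diag_upper]; exact ⟨_, rfl⟩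
  have hdN : d ∈ normalizer (upper F : Set (P2 F)) := by
    refine mem_normalizer_fintype fun x hx => ?_
    exact upper_conj_mem (u := uu s) ⟨s, rfl⟩ (fun e => hs0 (PSLBinary.uu_eq_one_iff.1 e)) hd hx
  refine ⟨c⁻¹ * d * c, ?_, fun e => ?_⟩
  · rw [mem_comap, MulEquiv.coe_toMonoidHom, MulAut.conj_apply]
    simpa [mul_assoc] using hdN
  · have h1 := e.map (MulAut.conj c).toMonoidHom
    simp only [MulEquiv.coe_toMonoidHom, MulAut.conj_apply, ← hs] at h1
    rw [show c * (c⁻¹ * d * c) * c⁻¹ = d by group] at h1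
    have h2 : d * uu s * d⁻¹ = uu s := by rw [h1.eq, mul_inv_cancel_right]
    rw [diag_upper] at h2
    have h3 := PSLBinary.uu_injective h2
    refine hβ (Units.ext ?_)
    rw [Units.val_pow_eq_pow_val, pow_two, Units.val_one]
    exact (mul_eq_right₀ hs0).1 h3

/-- With `16 ∣ q² - 1` there is a non-abelian `2`-subgroup. -/
theorem exists_two_nonabelian (hodd : Odd (Fintype.card F)) (h16 : 16 ∣ Fintype.card F ^ 2 - 1) :
    ∃ K : Subgroup (P2 F), IsPGroup 2 K ∧ ∃ a ∈ K, ∃ b ∈ K, ¬ Commute a b := by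
  haveI : Fact (Nat.Prime 2) := ⟨Nat.prime_two⟩
  obtain ⟨v, hv, hv1⟩ := exists_invol (F := F) hodd
  obtain ⟨U, m, hvU, hUc, hcyc, hm, hm2, hC, -, hout⟩ := invol_shape hodd hv hv1
  have h4 : 4 ∣ m := by
    have hr : Fintype.card F % 16 = 1 ∨ Fintype.card F % 16 = 7 ∨ Fintype.card F % 16 = 9 ∨
        Fintype.card F % 16 = 15 := by
      have hsq : Fintype.card F ^ 2 % 16 = 1 := by
        have : 1 ≤ Fintype.card F ^ 2 := Nat.one_le_pow _ _ Fintype.card_pos
        omega
      rw [Nat.pow_mod] at hsq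
      have hlt : Fintype.card F % 16 < 16 := Nat.mod_lt _ (by norm_num)
      interval_cases Fintype.card F % 16 <;> simp at hsq <;> omega
    split_ifs at hm2 with hq <;> omega
  obtain ⟨n, hn, hnU⟩ : ∃ n, Commute n v ∧ n ∉ U := by
    by_contra hall
    push Not at hall
    have := Nat.card_mono (Set.toFinite (U : Set (P2 F)))
      (s := (centralizer ({v} : Set (P2 F)) : Set (P2 F)))
      fun y hy => hall y (mem_centralizer_singleton_iff.1 hy)
    change Nat.card (centralizer ({v} : Set (P2 F))) ≤ Nat.card U at this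
    have : 0 < Nat.card U := Nat.card_pos
    omega
  haveI := hcyc
  obtain ⟨z, hgen⟩ := hcyc.exists_generator
  have hzo : orderOf (z : P2 F) = m := by
    rw [Subgroup.orderOf_coe, orderOf_eq_card_of_forall_mem_zpowers hgen, hm]
  set y := (z : P2 F) ^ (m / 4)
  have hm0 : 0 < m := hm ▸ Nat.card_pos
  have hyo : orderOf y = 4 := by
    rw [orderOf_pow' _ (by omega), hzo, Nat.gcd_eq_right (Nat.div_dvd_of_dvd h4),
      Nat.div_div_self h4 hm0.ne']
  have hyU : y ∈ U := pow_mem z.2 _
  obtain ⟨hnn, hinv⟩ := hout n hn hnU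
  have hY : IsPGroup 2 (zpowers y) := IsPGroup.of_card (n := 2) (by rw [Nat.card_zpowers, hyo]; rfl)
  have hN : IsPGroup 2 (zpowers n) := IsPGroup.of_card (n := 1) (by
    rw [Nat.card_zpowers, pow_one]
    exact orderOf_eq_prime (by rw [pow_two, hnn]) fun e => hnU (e ▸ one_mem U))
  have hnorm : zpowers n ≤ normalizer (zpowers y : Set (P2 F)) := by
    rw [zpowers_le]
    refine mem_normalizer_fintype fun x hx => ?_
    rw [SetLike.mem_coe, hinv x (zpowers_le.2 hyU hx)]
    exact inv_mem hx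
  refine ⟨zpowers n ⊔ zpowers y, hN.to_sup_of_normal_right' hY hnorm, n,
    mem_sup_left (mem_zpowers n), y, mem_sup_right (mem_zpowers y), fun e => ?_⟩
  have h1 := hinv y hyU
  rw [e.eq, mul_inv_cancel_right, eq_inv_iff_mul_eq_one] at h1
  have := Nat.le_of_dvd two_pos (orderOf_dvd_of_pow_eq_one (show y ^ 2 = 1 by rw [pow_two, h1]))
  omega

/-- Subfields give subgroups. -/
theorem exists_embedding {K : Type} [Field K] [Fintype K] (ι : K →+* F) :
    ∃ f : P2 K →* P2 F, Function.Injective f := by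
  set ψ : SL K →* SL F := Matrix.SpecialLinearGroup.map ι
  have hψi : Function.Injective ψ := fun A B e => by
    ext i j
    exact ι.injective (congrFun (congrFun (congrArg Subtype.val e) i) j)
  have hneg : ψ (negOne K) = negOne F := by
    apply mt_injective
    rw [mt_negOne]
    show (mt (negOne K)).map ι = -1
    rw [mt_negOne]
    ext i j
    fin_cases i <;> fin_cases j <;> simp
  have hker : (proj.comp ψ).ker = center (SL K) := by
    ext A
    rw [MonoidHom.mem_ker, MonoidHom.comp_apply, proj_eq_one]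
    refine ⟨fun h => ?_, fun h => ?_⟩
    · rcases center_cases h with e | e
      · rw [hψi (e.trans ψ.map_one.symm)]; exact one_mem _
      · rw [hψi (e.trans hneg.symm)]; exact negOne_mem_center
    · rcases center_cases h with e | e
      · rw [e, map_one]; exact one_mem _
      · rw [e, hneg]; exact negOne_mem_center
  refine ⟨QuotientGroup.lift (center (SL K)) (proj.comp ψ) hker.ge, fun x y => ?_⟩
  obtain ⟨A, rfl⟩ := QuotientGroup.mk_surjective x
  obtain ⟨B, rfl⟩ := QuotientGroup.mk_surjective y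
  intro e
  simp only [QuotientGroup.lift_mk] at e
  refine QuotientGroup.eq.2 (hker ▸ ?_)
  rw [MonoidHom.mem_ker, map_mul, map_inv, e, inv_mul_cancel]

/-- Commutators of upper triangular elements are unipotent. -/
theorem normalizer_upper_comm {g h : P2 F} (hg : g ∈ normalizer (upper F : Set (P2 F)))
    (hh : h ∈ normalizer (upper F : Set (P2 F))) : g * h * g⁻¹ * h⁻¹ ∈ upper F := by
  have key : ∀ x ∈ normalizer (upper F : Set (P2 F)),
      ∃ (a b d : F) (e : a * d - b * 0 = 1), x = pm a b 0 d e := by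
    intro x hx
    obtain ⟨a, b, c, d, e, rfl⟩ := PSLBinary.exists_pm x
    obtain ⟨t, ht⟩ := (mem_normalizer_iff.1 hx (uu 1)).1 ⟨1, rfl⟩
    obtain rfl := lower_zero one_ne_zero ht.symm
    exact ⟨a, b, d, e, rfl⟩
  obtain ⟨a, b, d, e, rfl⟩ := key g hg
  obtain ⟨a', b', d', e', rfl⟩ := key h hh
  have mk : ∀ {A B C D : F} {H : A * D - B * C = 1}, C = 0 → A = D → pm A B C D H ∈ upper F := by
    intro A B C D H hC hAD
    subst hC
    exact ⟨_, (PSLBinary.pm_eq_uu hAD).symm⟩
  rw [PSLBinary.pm_inv, PSLBinary.pm_inv, PSLBinary.pm_mul, PSLBinary.pm_mul, PSLBinary.pm_mul]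
  exact mk (by ring) (by ring)

end CfsgLib.MinNonCA.PSL
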