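import Cfsg.Agent.MinNonCA.Basic

/-!
# Lifting through central extensions
-/

set_option autoImplicit false
set_option linter.unusedSectionVars false

namespace CfsgLib.MinNonCA

open Subgroup

universe u

variable {G : Type u} [Group G]

theorem exists_lift [Finite G] {X : Type*} [Group X] (π : G →* X) (hπ : Function.Surjective π)
    {p : ℕ} (hp : p.Prime) {v : X} {k : ℕ} (hv : v ^ p ^ k = 1) :
    ∃ a, π a = v ∧ ∃ j, a ^ p ^ j = 1 := by
  obtain ⟨g, rfl⟩ := hπ v
  obtain ⟨e, r, hr, hgr⟩ := Nat.exists_eq_pow_mul_and_not_dvd (orderOf_pos g).ne' p hp.ne_one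
  have hcop : r.Coprime (orderOf (π g)) :=
    ((hp.coprime_iff_not_dvd.2 hr).symm.pow_right k).coprime_dvd_right
      (orderOf_dvd_of_pow_eq_one hv)
  obtain ⟨s, hs⟩ := exists_pow_eq_self_of_coprime hcop
  refine ⟨(g ^ r) ^ s, by rw [map_pow, map_pow, hs], e, ?_⟩
  rw [← pow_mul, ← pow_mul, show r * (s * p ^ e) = p ^ e * r * s by ring, pow_mul, ← hgr,
    pow_orderOf_eq_one, one_pow]

/-- Elements of coprime orders commuting modulo the centre commute. -/
theorem commute_of_coprime {a b : G} {n l : ℕ} (ha : a ^ n = 1) (hb : b ^ l = 1)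
    (h : n.Coprime l) (hz : a * b * a⁻¹ * b⁻¹ ∈ center G) : Commute a b := by
  set z := a * b * a⁻¹ * b⁻¹ with hzdef
  have hab : a * b * a⁻¹ = z * b := by rw [hzdef]; group
  have hi : ∀ i : ℕ, a ^ i * b * (a ^ i)⁻¹ = z ^ i * b := by
    intro i
    induction i with
    | zero => simp
    | succ i ih =>
      rw [pow_succ', show a * a ^ i * b * (a * a ^ i)⁻¹ = a * (a ^ i * b * (a ^ i)⁻¹) * a⁻¹ by group,
        ih, show a * (z ^ i * b) * a⁻¹ = a * z ^ i * b * a⁻¹ by group,
        (mem_center_iff.1 (pow_mem hz i) a), mul_assoc (z ^ i), mul_assoc (z ^ i), hab, ← mul_assoc,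
        ← pow_succ]
  have h1 : z ^ n = 1 := by
    have := hi n
    rwa [ha, one_mul, inv_one, mul_one, eq_comm, mul_eq_right] at this
  have h2 : z ^ l = 1 := by
    have e : (a * b * a⁻¹) ^ l = 1 := by rw [conj_pow, hb, mul_one, mul_inv_cancel]
    rwa [hab, Commute.mul_pow (commute_of_mem_center hz b).symm, hb, mul_one] at e
  rw [commute_iff_comm]
  exact orderOf_eq_one_iff.1 (Nat.eq_one_of_dvd_coprimes h (orderOf_dvd_of_pow_eq_one h1)
    (orderOf_dvd_of_pow_eq_one h2))

/-- Lifts of elements of a cyclic group through a central extension commute. -/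
theorem commute_of_cyclic {X : Type*} [Group X] (π : G →* X) (hπ : Function.Surjective π)
    (hc : π.ker ≤ center G) {T : Subgroup X} (hT : IsCyclic T) {a b : G} (ha : π a ∈ T)
    (hb : π b ∈ T) : Commute a b := by
  obtain ⟨⟨w, hw⟩, hgen⟩ := hT.exists_generator
  obtain ⟨w, rfl⟩ := hπ w
  have key : ∀ {c : G}, π c ∈ T → ∃ z ∈ center G, ∃ i : ℤ, c = z * w ^ i := by
    intro c hc'
    obtain ⟨i, hi⟩ := mem_zpowers_iff.1 (hgen ⟨π c, hc'⟩)
    have hi' : π w ^ i = π c := congrArg Subtype.val hi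
    refine ⟨c * (w ^ i)⁻¹, hc ?_, i, by group⟩
    rw [MonoidHom.mem_ker, map_mul, map_inv, map_zpow, hi', mul_inv_cancel]
  obtain ⟨z, hz, i, rfl⟩ := key ha
  obtain ⟨z', hz', j, rfl⟩ := key hb
  exact ((commute_of_mem_center hz' _).mul_right
    ((commute_of_mem_center hz _).symm.mul_left ((Commute.refl w).zpow_zpow i j)))

end CfsgLib.MinNonCA
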