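import Cfsg.Agent.MinNonCA.Bad
import Cfsg.Agent.MinNonCA.Count
import Cfsg.Agent.MinNonCA.PSLMore
import Cfsg.Agent.MinNonCA.SimpleLift

/-!
# The minimal groups which are not perfect have abelian centralisers
-/

set_option autoImplicit false
set_option linter.unusedSectionVars false
set_option linter.style.haveILetI false

namespace CfsgLib.MinNonCA

open Subgroup
open CfsgLib.SL2C
open CfsgLib.Linear.SmallSub (proj P2)
open CfsgLib.PSLBinary (uu upper)

universe u

/-- The admissible orders of the field. -/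
def GoodOrder (F : Type) [Field F] [Fintype F] : Prop :=
  ((2 : F) = 0 ∧ 4 ≤ Fintype.card F) ∨ (Odd (Fintype.card F) ∧ 7 ≤ Fintype.card F)

theorem GoodOrder.four {F : Type} [Field F] [Fintype F] (h : GoodOrder F) :
    4 ≤ Fintype.card F := by
  rcases h with ⟨-, h⟩ | ⟨-, h⟩ <;> omega

/-- Centralisers in `PSL₂(q)` lie in a unipotent group or contain a maximal torus. -/
theorem PSL.member_cases {F : Type} [Field F] [Fintype F] (hq : GoodOrder F) {g : P2 F}
    (hg : g ≠ 1) :
    (∃ c, ∀ y, Commute y g → c * y * c⁻¹ ∈ upper F) ∨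
      ∃ T : Subgroup (P2 F), g ∈ T ∧ PSL.Torus T ∧ (∀ y ∈ T, Commute y g) ∧
        ∀ y, Commute y g → y ∉ T → ∃ z ∈ T, ¬ Commute y z := by
  have key : ((2 : F) = 0 ∨ g * g ≠ 1) →
      (∃ c, ∀ y, Commute y g → c * y * c⁻¹ ∈ upper F) ∨
        ∃ T : Subgroup (P2 F), g ∈ T ∧ PSL.Torus T ∧ (∀ y ∈ T, Commute y g) ∧
          ∀ y, Commute y g → y ∉ T → ∃ z ∈ T, ¬ Commute y z := fun h => by
    rcases PSL.cent_cases h hg with ⟨c, hc⟩ | ⟨-, hT⟩
    · exact Or.inl ⟨c, fun y hy => (hc y).1 hy⟩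
    · exact Or.inr ⟨centralizer ({g} : Set (P2 F)), mem_centralizer_singleton_iff.2 rfl, hT,
        fun y hy => mem_centralizer_singleton_iff.1 hy,
        fun y hy hn => absurd (mem_centralizer_singleton_iff.2 hy.eq) hn⟩
  rcases hq with ⟨h2, -⟩ | ⟨hodd, h7⟩
  · exact key (Or.inl h2)
  by_cases hgg : g * g = 1
  · obtain ⟨U, hgU, hUc, hT, -, hout⟩ := PSL.invol_half hodd h7 hgg hg
    exact Or.inr ⟨U, hgU, hT, hUc, fun y hy hyU => (hout y hy hyU).2⟩
  · exact key (Or.inr hgg)

namespace Bad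

variable {G : Type u} [Group G] [Finite G] (D : Bad G)

theorem not_all : ¬ ∀ m : D.M, Commute (m : G) D.x := fun h => D.hx (mem_center_iff.2 fun g => by
  obtain ⟨m, hm, i, rfl⟩ := D.gen g
  exact ((h ⟨m, hm⟩).mul_left ((Commute.refl D.x).zpow_left i)).eq)

theorem closed {y m : D.M} (hy : (y : G) ∉ center G) (hyx : Commute (y : G) D.x)
    (hm : Commute (m : G) y) : Commute (m : G) D.x :=
  D.cent y.2 hy hm hyx.symm

variable {F : Type} [Field F] [Fintype F] (φ : D.M →* P2 F) (hφ : Function.Surjective φ)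
  (hker : ∀ m : D.M, φ m = 1 ↔ (m : G) ∈ center G)

include hker

theorem quot_mem_center {u v : D.M} (h : φ u = φ v) : (u : G)⁻¹ * v ∈ center G :=
  (hker (u⁻¹ * v)).1 (by rw [map_mul, map_inv, h, inv_mul_cancel])

theorem commute_congr {u v : D.M} (h : φ u = φ v) {g : G} (hu : Commute (u : G) g) :
    Commute (v : G) g := by
  have := hu.mul_left (commute_of_mem_center (D.quot_mem_center φ hker h) g).symm
  rwa [mul_inv_cancel_left] at this

include hφ

/-- The centraliser of `x` in `M` is self-normalising. -/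
theorem self_norm (h4 : 4 ≤ Fintype.card F) {m : D.M}
    (hm : ∀ h : D.M, Commute (h : G) D.x → Commute ((m * h * m⁻¹ : D.M) : G) D.x) :
    Commute (m : G) D.x := by
  set H := D.M ⊓ centralizer ({D.x} : Set G)
  obtain ⟨h, hh, k, hk, hhx, hkx, hhk⟩ := D.exists_pair
  have hhH : h ∈ H := ⟨hh, mem_centralizer_singleton_iff.2 hhx.eq⟩
  have hkH : k ∈ H := ⟨hk, mem_centralizer_singleton_iff.2 hkx.eq⟩
  set Y := normalizer (H : Set G)
  have hY : Y ≠ ⊤ := fun e => by
    haveI := normalizer_eq_top_iff.1 e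
    haveI := (simple_psl (F := F) h4).1
    haveI : ((H.subgroupOf D.M).map φ).Normal := Subgroup.Normal.map inferInstance _ hφ
    rcases (inferInstance : ((H.subgroupOf D.M).map φ).Normal).eq_bot_or_eq_top with e' | e'
    · have hm : φ ⟨h, hh⟩ ∈ (H.subgroupOf D.M).map φ := mem_map_of_mem φ hhH
      rw [e', mem_bot, hker] at hm
      exact hhk (commute_of_mem_center hm k).symm
    · refine D.not_all fun m => ?_
      obtain ⟨u, hu, hum⟩ : φ m ∈ (H.subgroupOf D.M).map φ := e' ▸ mem_top _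
      exact D.commute_congr φ hker hum (mem_centralizer_singleton_iff.1 hu.2)
  have hxY : D.x ∈ Y := mem_normalizer_fintype fun n hn => by
    rw [SetLike.mem_coe, ← (show Commute n D.x from mem_centralizer_singleton_iff.1 hn.2).eq,
      mul_inv_cancel_right]
    exact hn
  have hmY : (m : G) ∈ Y := mem_normalizer_fintype fun n hn =>
    ⟨D.normal.conj_mem n hn.1 m,
      mem_centralizer_singleton_iff.2 (hm ⟨n, hn.1⟩ (mem_centralizer_singleton_iff.1 hn.2)).eq⟩
  exact D.central hY hxY (le_normalizer hhH) (le_normalizer hkH) hhx hkx hhk hmY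

/-- The elements fixed by `x` modulo the centre centralise it. -/
theorem fixed (h4 : 4 ≤ Fintype.card F) {m : D.M}
    (hm : φ (MulAut.conjNormal D.x m) = φ m) : Commute (m : G) D.x := by
  refine D.self_norm φ hφ hker h4 fun h hh => ?_
  have hz : (m : G)⁻¹ * (D.x * m * D.x⁻¹) ∈ center G := by
    have := D.quot_mem_center φ hker hm.symm
    rwa [MulAut.conjNormal_apply] at this
  set z := (m : G)⁻¹ * (D.x * m * D.x⁻¹) with hzdef
  have h1 : (m : G) * D.x * (m : G)⁻¹ = z⁻¹ * D.x := by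
    have h2 : D.x * (m : G) = m * z * D.x := by rw [hzdef]; group
    calc (m : G) * D.x * (m : G)⁻¹ = (m : G) * D.x * (D.x * m)⁻¹ * D.x := by group
      _ = (m : G) * D.x * (m * z * D.x)⁻¹ * D.x := by rw [h2]
      _ = (m : G) * (z⁻¹ * (m : G)⁻¹) * D.x := by group
      _ = z⁻¹ * D.x := by
        rw [← mul_assoc (m : G), mem_center_iff.1 (inv_mem hz) (m : G), mul_inv_cancel_right]
  have h2 := hh.map (MulAut.conj (m : G)).toMonoidHom
  simp only [MulEquiv.coe_toMonoidHom, MulAut.conj_apply] at h2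
  rw [h1] at h2
  have h3 := h2.mul_right (commute_of_mem_center hz ((m : G) * (h : G) * (m : G)⁻¹))
  rw [mem_center_iff.1 hz (z⁻¹ * D.x), mul_inv_cancel_left] at h3
  simpa using h3

/-- No element of `H` normalises and moves a member in a unipotent group. -/
theorem no_moving (hq : GoodOrder F) {y n : D.M} (hy : (y : G) ∉ center G)
    (hyx : Commute (y : G) D.x) (hU : ∀ z, Commute z (φ y) → z ∈ upper F)
    (hnx : Commute (n : G) D.x)
    (hnA : ∀ k : D.M, Commute (k : G) y → Commute ((n * k * n⁻¹ : D.M) : G) y)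
    (hny : ¬ Commute (n : G) y) : False := by
  have h4 := hq.four
  set A := D.M ⊓ centralizer ({(y : G)} : Set G)
  have hyA : (y : G) ∈ A := ⟨y.2, mem_centralizer_singleton_iff.2 rfl⟩
  have hA : ∀ {k : G}, k ∈ A → Commute k y := fun hk => mem_centralizer_singleton_iff.1 hk.2
  have hnorm : ∀ {m : D.M}, (∀ k : D.M, Commute (k : G) y → Commute ((m * k * m⁻¹ : D.M) : G) y) →
      (m : G) ∈ normalizer (A : Set G) := fun {m} hm => mem_normalizer_fintype fun k hk =>
    ⟨D.normal.conj_mem k hk.1 m, mem_centralizer_singleton_iff.2 (hm ⟨k, hk.1⟩ (hA hk)).eq⟩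
  have hAtop : normalizer (A : Set G) ≠ ⊤ := fun e => hy (by
    haveI := normalizer_eq_top_iff.1 e
    haveI : Group.IsSolvable (A.subgroupOf D.M) := Group.isSolvable_of_comm fun u v =>
      Subtype.ext (Subtype.ext (D.cent y.2 hy (hA u.2) (hA v.2)).eq)
    exact D.mem_center.1 (D.ca.radical D.ns (A.subgroupOf D.M) inferInstance
      (show y ∈ A.subgroupOf D.M from hyA)))
  have hxA : D.x ∈ normalizer (A : Set G) := mem_normalizer_fintype fun k hk => by
    rw [SetLike.mem_coe, ← (D.closed (m := ⟨k, hk.1⟩) hy hyx (hA hk)).eq, mul_inv_cancel_right]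
    exact hk
  have stepA : ∀ {m : D.M}, (∀ k : D.M, Commute (k : G) y → Commute ((m * k * m⁻¹ : D.M) : G) y) →
      Commute (m : G) D.x := fun hm =>
    D.central hAtop hxA (hnorm hnA) (le_normalizer hyA) hnx hyx hny (hnorm hm)
  have stepB : ∀ {u : D.M}, φ u ∈ upper F → Commute (u : G) D.x := fun {u} hu => stepA fun k hk => by
    refine D.commute_congr φ hker ?_ hk
    have hkU : φ k ∈ upper F := hU _ ((show Commute k y from Subtype.ext hk.eq).map φ)
    rw [map_mul, map_mul, map_inv, (PSL.upper_commute hu hkU).eq, mul_inv_cancel_right]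
  set U₀ := ((upper F).comap φ).map D.M.subtype
  have hyU : φ y ∈ upper F := hU _ (Commute.refl _)
  have hyU₀ : (y : G) ∈ U₀ := ⟨y, hyU, rfl⟩
  have hUtop : normalizer (U₀ : Set G) ≠ ⊤ := fun e => hy (by
    haveI hn := normalizer_eq_top_iff.1 e
    haveI : ((upper F).comap φ).Normal := ⟨fun u hu m => by
      obtain ⟨v, hv, hvu⟩ := hn.conj_mem _ ⟨u, hu, rfl⟩ (m : G)
      rwa [show v = m * u * m⁻¹ from Subtype.ext hvu] at hv⟩
    haveI : Group.IsSolvable ((upper F).comap φ) := by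
      set f := φ.subgroupComap (upper F)
      haveI : Group.IsSolvable f.ker := Group.isSolvable_of_comm fun u v =>
        Subtype.ext (Subtype.ext (Subtype.ext (mem_center_iff.1
          ((hker _).1 (congrArg Subtype.val (MonoidHom.mem_ker.1 v.2))) _)))
      haveI : Group.IsSolvable (upper F) :=
        Group.isSolvable_of_comm fun u v => Subtype.ext (PSL.upper_commute u.2 v.2).eq
      exact Group.isSolvable_of_ker_le_range f.ker.subtype f (by rw [range_subtype])
    exact D.mem_center.1 (D.ca.radical D.ns ((upper F).comap φ) inferInstance hyU))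
  have hxU : D.x ∈ normalizer (U₀ : Set G) := mem_normalizer_fintype fun k hk => by
    obtain ⟨u, hu, rfl⟩ := hk
    refine ⟨u, hu, ?_⟩
    show (u : G) = D.x * u * D.x⁻¹
    rw [← (stepB hu).eq, mul_inv_cancel_right]
  have hnormU : ∀ {m : D.M}, (∀ z ∈ upper F, φ m * z * (φ m)⁻¹ ∈ upper F) →
      (m : G) ∈ normalizer (U₀ : Set G) := fun {m} hm => mem_normalizer_fintype fun k hk => by
    obtain ⟨u, hu, rfl⟩ := hk
    refine ⟨m * u * m⁻¹, ?_, by simp⟩
    show φ (m * u * m⁻¹) ∈ upper F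
    rw [map_mul, map_mul, map_inv]
    exact hm _ hu
  have hg1 : φ y ≠ 1 := fun e => hy ((hker y).1 e)
  have hnU : ∀ z ∈ upper F, φ n * z * (φ n)⁻¹ ∈ upper F := fun z hz =>
    PSL.upper_conj_mem hyU hg1 (by
      rw [← map_inv, ← map_mul, ← map_mul]
      exact hU _ ((show Commute (n * y * n⁻¹) y from Subtype.ext (hnA y (Commute.refl _)).eq).map φ)) hz
  have stepC : ∀ {m : D.M}, (∀ z ∈ upper F, φ m * z * (φ m)⁻¹ ∈ upper F) → Commute (m : G) D.x :=
    fun hm => D.central hUtop hxU (hnormU hnU) (le_normalizer hyU₀) hnx hyx hny (hnormU hm)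
  -- the automorphism induced by `x`
  let σ : D.M ≃* D.M := MulAut.conjNormal D.x
  have hσker : φ.ker ≤ (φ.comp σ.toMonoidHom).ker := fun m hm => by
    rw [MonoidHom.mem_ker, MonoidHom.comp_apply, hker, MulEquiv.coe_toMonoidHom,
      MulAut.conjNormal_apply]
    exact (inferInstance : (center G).Normal).conj_mem _ ((hker m).1 hm) D.x
  let ψ₀ := φ.liftOfSurjective hφ ⟨φ.comp σ.toMonoidHom, hσker⟩
  have hψ₀ : ∀ m, ψ₀ (φ m) = φ (σ m) := fun m =>
    MonoidHom.liftOfRightInverse_comp_apply φ _ (Function.rightInverse_surjInv hφ) ⟨_, hσker⟩ m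
  have hψs : Function.Surjective ψ₀ := fun z => by
    obtain ⟨m, rfl⟩ := hφ z
    exact ⟨φ (σ.symm m), by rw [hψ₀, MulEquiv.apply_symm_apply]⟩
  let ψ : P2 F ≃* P2 F := MulEquiv.ofBijective ψ₀ (Finite.surjective_iff_bijective.1 hψs)
  have hfix : ∀ m : D.M, Commute (m : G) D.x → ψ (φ m) = φ m := fun m hm => by
    show ψ₀ (φ m) = φ m
    rw [hψ₀]
    congr 1
    apply Subtype.ext
    rw [MulAut.conjNormal_apply, ← hm.eq, mul_inv_cancel_right]
  obtain ⟨β, hβ2, hβ⟩ := PSL.exists_diag' (F := F) (by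
    rcases hq with h | ⟨-, h⟩
    · exact Or.inr h
    · exact Or.inl h)
  refine D.not_all fun m => D.fixed φ hφ hker h4 ?_
  show φ (σ m) = φ m
  rw [← hψ₀]
  refine PSL.rigid hβ hβ2 ψ (fun t => ?_) ?_ (φ m)
  · obtain ⟨u, hu⟩ := hφ (uu t)
    rw [← hu]
    exact hfix u (stepB (by rw [hu]; exact ⟨t, rfl⟩))
  · obtain ⟨d, hd⟩ := hφ (proj (dg β))
    rw [← hd]
    refine hfix d (stepC fun z hz => ?_)
    rw [hd]
    refine PSL.upper_conj_mem (u := uu 1) ⟨1, rfl⟩
      (fun e => one_ne_zero (PSLBinary.uu_eq_one_iff.1 e)) ?_ hz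
    rw [PSL.diag_upper]
    exact ⟨_, rfl⟩

/-- In characteristic two, members in unipotent groups have at least three elements. -/
theorem even_three (h2 : (2 : F) = 0) (h4 : 4 ≤ Fintype.card F) {y : D.M}
    (hy : (y : G) ∉ center G) (hyx : Commute (y : G) D.x) (hU : ∀ z, Commute z (φ y) → z ∈ upper F)
    (hsn : ∀ n : D.M, Commute (n : G) D.x →
      (∀ k : D.M, Commute (k : G) y → Commute ((n * k * n⁻¹ : D.M) : G) y) → Commute (n : G) y) :
    ∃ k : D.M, Commute (k : G) y ∧ φ k ≠ 1 ∧ φ k ≠ φ y := by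
  classical
  by_contra hno
  push Not at hno
  obtain ⟨s₀, hs₀⟩ := hU (φ y) (Commute.refl _)
  have hg1 : φ y ≠ 1 := fun e => hy ((hker y).1 e)
  obtain ⟨s, hs, hs'⟩ : ∃ s : F, s ≠ 0 ∧ s ≠ s₀ := by
    by_contra hall
    push Not at hall
    have : (Finset.univ : Finset F) ⊆ {0, s₀} := fun s _ => by
      by_cases hs : s = 0
      · simp [hs]
      · simp [hall s hs]
    have := (Finset.card_le_card this).trans (Finset.card_insert_le _ _)
    simp at this
    omega
  obtain ⟨u, hu⟩ := hφ (uu s)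
  have hsq : uu s * uu s = (1 : P2 F) := by
    rw [PSLBinary.uu_mul, ← two_mul, h2, zero_mul, PSLBinary.uu_zero]
  have hgsq : φ y * φ y = 1 := by
    rw [← hs₀, PSLBinary.uu_mul, ← two_mul, h2, zero_mul, PSLBinary.uu_zero]
  have hφu : Commute (φ u) (φ y) := PSL.upper_commute (hu ▸ ⟨s, rfl⟩) ⟨s₀, hs₀⟩
  have hnotA : ¬ Commute (u : G) y := fun e => by
    by_cases h1 : φ u = 1
    · rw [hu] at h1
      exact hs (PSLBinary.uu_eq_one_iff.1 h1)
    · have := hno u e h1
      rw [hu, ← hs₀] at this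
      exact hs' (PSLBinary.uu_injective this)
  have hnormA : ∀ k : D.M, Commute (k : G) y → Commute ((u * k * u⁻¹ : D.M) : G) y := fun k hk => by
    refine D.commute_congr φ hker ?_ hk
    rw [map_mul, map_mul, map_inv, (PSL.upper_commute (hu ▸ ⟨s, rfl⟩)
      (hU _ ((show Commute k y from Subtype.ext hk.eq).map φ))).eq, mul_inv_cancel_right]
  set w : D.M := u * MulAut.conjNormal D.x u⁻¹ with hw
  have hwG : (w : G) = u * D.x * (u : G)⁻¹ * D.x⁻¹ := by
    rw [hw, Subgroup.coe_mul, MulAut.conjNormal_apply]; simp [mul_assoc]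
  have hε : (u : G) * y * (u : G)⁻¹ * (y : G)⁻¹ ∈ center G := by
    refine (hker (u * y * u⁻¹ * y⁻¹)).1 ?_
    rw [map_mul, map_mul, map_mul, map_inv, map_inv]
    exact commute_iff_comm.1 hφu
  have hwy : Commute (w : G) y := by
    rw [hwG]
    refine Commute.mul_left ?_ hyx.symm.inv_left
    have h1 := hyx.symm.map (MulAut.conj (u : G)).toMonoidHom
    simp only [MulEquiv.coe_toMonoidHom, MulAut.conj_apply] at h1
    have h2 := h1.mul_right
      (commute_of_mem_center (inv_mem hε) ((u : G) * D.x * (u : G)⁻¹))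
    rw [mem_center_iff.1 (inv_mem hε) ((u : G) * y * (u : G)⁻¹), mul_inv_rev, inv_inv,
      show (y : G) * ((u : G) * y * (u : G)⁻¹)⁻¹ * ((u : G) * y * (u : G)⁻¹) = y by group] at h2
    exact h2
  have hwx : Commute (w : G) D.x := D.closed hy hyx hwy
  have hux : ∀ k : ℕ, (u : G) * D.x ^ k * (u : G)⁻¹ = (w : G) ^ k * D.x ^ k := fun k => by
    rw [← conj_pow, show (u : G) * D.x * (u : G)⁻¹ = (w : G) * D.x by rw [hwG]; group, hwx.mul_pow]
  by_cases hw1 : φ w = 1
  · refine hnotA (hsn u (D.fixed φ hφ hker h4 ?_) hnormA)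
    rw [hw, map_mul, map_inv, map_inv, mul_inv_eq_one] at hw1
    exact hw1.symm
  have hwg := hno w hwy hw1
  have hwr : (w : G) ^ D.r = 1 := by
    have h1 := hux D.r
    rw [mem_center_iff.1 D.hxr, mul_inv_cancel_right] at h1
    exact right_eq_mul.1 h1
  have hr2 : D.r = 2 := by
    have h1 : φ y ^ D.r = 1 := by
      rw [← hwg, ← map_pow, show w ^ D.r = 1 from Subtype.ext (by simpa using hwr), map_one]
    have h3 : orderOf (φ y) = 2 :=
      orderOf_eq_prime (by rw [pow_two, hgsq]) hg1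
    rcases (Nat.dvd_prime D.hr).1 (h3 ▸ orderOf_dvd_of_pow_eq_one h1) with e | e
    · norm_num at e
    · exact e.symm
  rw [hr2, pow_two] at hwr
  have hu2 : (u : G) * u ∈ center G := (hker (u * u)).1 (by rw [map_mul, hu, hsq])
  have huw : Commute (u : G) w := by
    have h0 : (u : G) * D.x * (u : G)⁻¹ = (w : G) * D.x := by rw [hwG]; group
    have h1 : (u : G) * ((u : G) * D.x * (u : G)⁻¹) * (u : G)⁻¹ = D.x := by
      calc (u : G) * ((u : G) * D.x * (u : G)⁻¹) * (u : G)⁻¹
          = ((u : G) * u) * D.x * ((u : G) * u)⁻¹ := by group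
        _ = D.x := by rw [← mem_center_iff.1 hu2 D.x, mul_inv_cancel_right]
    rw [h0, show (u : G) * (w * D.x) * (u : G)⁻¹ =
      (u : G) * w * (u : G)⁻¹ * ((u : G) * D.x * (u : G)⁻¹) by group, h0, ← mul_assoc,
      mul_eq_right] at h1
    have h2 : (u : G) * w * (u : G)⁻¹ = (w : G)⁻¹ := eq_inv_of_mul_eq_one_left h1
    rw [← eq_inv_of_mul_eq_one_left hwr] at h2
    exact mul_inv_eq_iff_eq_mul.1 h2
  exact hnotA (D.cent w.2 (fun e => hw1 ((hker w).2 e)) huw hwy.symm)

/-- The counting contradiction. -/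
theorem false_psl (hq : GoodOrder F) : False := by
  classical
  have h4 := hq.four
  set K := ((centralizer ({D.x} : Set G)).subgroupOf D.M).map φ
  have hmemK : ∀ {h : D.M}, Commute (h : G) D.x → φ h ∈ K := fun hh =>
    mem_map_of_mem _ (mem_centralizer_singleton_iff.2 hh.eq)
  have hlift : ∀ k : K, ∃ h : D.M, Commute (h : G) D.x ∧ φ h = k := fun k => by
    obtain ⟨h, hh, hk⟩ := k.2
    exact ⟨h, mem_centralizer_singleton_iff.1 hh, hk⟩
  let mem : D.M → Subgroup K := fun y =>
    (((centralizer ({(y : G)} : Set G)).subgroupOf D.M).map φ).subgroupOf K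
  have hiff : ∀ {y h : D.M} {k : K}, φ h = k → (k ∈ mem y ↔ Commute (h : G) y) := by
    intro y h k hk
    constructor
    · rintro ⟨v, hv, hvk⟩
      exact D.commute_congr φ hker (hvk.trans hk.symm) (mem_centralizer_singleton_iff.1 hv)
    · intro hc
      exact ⟨h, mem_centralizer_singleton_iff.2 hc.eq, hk⟩
  let S : Set (Subgroup K) :=
    {A | ∃ y : D.M, Commute (y : G) D.x ∧ (y : G) ∉ center G ∧ A = mem y}
  have hnc : ∀ {h : D.M}, φ h ≠ 1 → (h : G) ∉ center G := fun hh e => hh ((hker _).2 e)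
  have hne : ∀ {k : K} {h : D.M}, k ≠ 1 → φ h = k → (h : G) ∉ center G := fun hk e =>
    hnc (fun e' => hk (Subtype.ext (e ▸ e')))
  have uniq : ∀ A ∈ S, ∀ B ∈ S, ∀ k : K, k ≠ 1 → k ∈ A → k ∈ B → A = B := by
    rintro A ⟨y, hyx, hy, rfl⟩ B ⟨y', hy'x, hy', rfl⟩ k hk hkA hkB
    obtain ⟨h, hh, hhk⟩ := hlift k
    have h1 := (hiff hhk).1 hkA
    have h2 := (hiff hhk).1 hkB
    have hm := hne hk hhk
    ext j
    obtain ⟨v, hv, hvj⟩ := hlift j
    rw [hiff hvj, hiff hvj]
    exact ⟨fun hc => D.cent h.2 hm (D.cent y.2 hy hc h1) h2.symm,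
      fun hc => D.cent h.2 hm (D.cent y'.2 hy' hc h2) h1.symm⟩
  have conj : ∀ A ∈ S, ∀ g : K, A.map (MulAut.conj g).toMonoidHom ∈ S := by
    rintro A ⟨y, hyx, hy, rfl⟩ g
    obtain ⟨h, hh, hhg⟩ := hlift g
    refine ⟨h * y * h⁻¹, by simpa using (hh.mul_left hyx).mul_left hh.inv_left, fun e => hy ?_, ?_⟩
    · have h1 := (inferInstance : (center G).Normal).conj_mem _ e (h : G)⁻¹
      simpa [mul_assoc] using h1
    ext j
    obtain ⟨v, hv, hvj⟩ := hlift j
    have hj : φ (h⁻¹ * v * h) = ((MulAut.conj g).symm j : K) := by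
      simp [hhg, hvj]
    rw [mem_map_equiv, hiff hvj, hiff hj]
    constructor <;> intro hc
    · simpa [mul_assoc] using hc.map (MulAut.conj (h : G)).toMonoidHom
    · simpa [mul_assoc] using hc.map (MulAut.conj (h : G)⁻¹).toMonoidHom
  obtain ⟨a, ha, b, hb, hax, hbx, hab⟩ := D.exists_pair
  have hac : φ ⟨a, ha⟩ ≠ 1 := fun e =>
    hab (commute_of_mem_center ((hker _).1 e) b).symm
  haveI : Nontrivial K :=
    ⟨⟨⟨φ ⟨a, ha⟩, hmemK (h := ⟨a, ha⟩) hax⟩, 1, fun e => hac (congrArg Subtype.val e)⟩⟩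
  have cover : ∀ k : K, k ≠ 1 → ∃ A ∈ S, k ∈ A := fun k hk => by
    obtain ⟨h, hh, hhk⟩ := hlift k
    exact ⟨mem h, ⟨h, hh, hne hk hhk, rfl⟩, (hiff hhk).2 (Commute.refl _)⟩
  have proper : ∀ A ∈ S, A ≠ ⊤ := by
    rintro A ⟨y, hyx, hy, rfl⟩ e
    refine hab (D.cent y.2 hy ?_ ?_)
    · exact (hiff (h := ⟨a, ha⟩) (k := ⟨_, hmemK hax⟩) rfl).1 (e ▸ mem_top _)
    · exact (hiff (h := ⟨b, hb⟩) (k := ⟨_, hmemK hbx⟩) rfl).1 (e ▸ mem_top _)
  suffices key : ∀ A ∈ S, 3 ≤ Nat.card A ∧ (normalizer (A : Set K) = A ∨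
      Nat.card (normalizer (A : Set K)) = 2 * Nat.card A) from
    count_false uniq conj inferInstance cover (fun A hA => (key A hA).1) proper
      (fun A hA => (key A hA).2)
  rintro A ⟨y, hyx, hy, rfl⟩
  have hg1 : φ y ≠ 1 := fun e => hy ((hker y).1 e)
  let g : K := ⟨φ y, hmemK hyx⟩
  have hgA : g ∈ mem y := (hiff (h := y) rfl).2 (Commute.refl _)
  rcases PSL.member_cases hq hg1 with ⟨c, hc⟩ | ⟨T, hgT, hT, hTc, hTout⟩
  · -- the unipotent type
    set φ' := (MulAut.conj c).toMonoidHom.comp φ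
    have hφ' : Function.Surjective φ' := (MulAut.conj c).surjective.comp hφ
    have hker' : ∀ m : D.M, φ' m = 1 ↔ (m : G) ∈ center G := fun m =>
      (map_eq_one_iff _ (MulAut.conj c).injective).trans (hker m)
    have hU : ∀ z, Commute z (φ' y) → z ∈ upper F := fun z hz => by
      have h1 : Commute ((MulAut.conj c).symm z) (φ y) := by
        have := hz.map (MulAut.conj c).symm.toMonoidHom
        simpa [φ', mul_assoc] using this
      simpa [mul_assoc] using hc _ h1
    have hsn : ∀ n : D.M, Commute (n : G) D.x →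
        (∀ k : D.M, Commute (k : G) y → Commute ((n * k * n⁻¹ : D.M) : G) y) →
        Commute (n : G) y := fun n hnx hnA => by_contra fun hny =>
      D.no_moving φ' hφ' hker' hq hy hyx hU hnx hnA hny
    refine ⟨?_, Or.inl (le_antisymm (fun k hk => ?_) le_normalizer)⟩
    · obtain ⟨k₃, h31, h32⟩ : ∃ k : K, k ∈ mem y ∧ k ≠ 1 ∧ k ≠ g := by
        rcases hq with ⟨h2, h4'⟩ | ⟨hodd, -⟩
        · obtain ⟨k, hk, hk1, hk2⟩ := D.even_three φ' hφ' hker' h2 h4' hy hyx hU hsn
          have hkx := D.closed hy hyx hk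
          refine ⟨⟨φ k, hmemK hkx⟩, (hiff (h := k) rfl).2 hk,
            fun e => hk1 ?_, fun e => hk2 ?_⟩
          · show MulAut.conj c (φ k) = 1
            rw [show φ k = 1 from congrArg Subtype.val e, map_one]
          · exact congrArg (MulAut.conj c) (congrArg Subtype.val e)
        · refine ⟨g⁻¹, inv_mem hgA, fun e => hg1 ?_, fun e => hg1 ?_⟩
          · exact congrArg Subtype.val (inv_eq_one.1 e)
          · have e' : (φ' y)⁻¹ = φ' y := by
              show (MulAut.conj c (φ y))⁻¹ = MulAut.conj c (φ y)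
              rw [← map_inv, show (φ y)⁻¹ = φ y from congrArg Subtype.val e]
            obtain ⟨s, hs⟩ := hU _ (Commute.refl _)
            rw [← hs, PSLBinary.uu_inv] at e'
            have h0 : (2 : F) * s = 0 := by linear_combination -PSLBinary.uu_injective e'
            have hs0 := (mul_eq_zero.1 h0).resolve_left (PSL.two_ne_zero_of_odd hodd)
            rw [hs0, PSLBinary.uu_zero] at hs
            exact (map_eq_one_iff _ (MulAut.conj c).injective).1 hs.symm
      obtain ⟨hk31, hk3g⟩ := h32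
      let t : Finset (mem y) := {1, ⟨g, hgA⟩, ⟨k₃, h31⟩}
      have ht : t.card = 3 := Finset.card_eq_three.2 ⟨1, _, _,
        fun e => hg1 (congrArg (fun z : mem y => ((z : K) : P2 F)) e).symm,
        fun e => hk31 (congrArg Subtype.val e).symm,
        fun e => hk3g (congrArg Subtype.val e).symm, rfl⟩
      haveI : Fintype (mem y) := Fintype.ofFinite _
      rw [Nat.card_eq_fintype_card]
      exact ht ▸ Finset.card_le_univ t
    · obtain ⟨n, hnx, hnk⟩ := hlift k
      refine (hiff hnk).2 (hsn n hnx fun j hj => ?_)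
      have hjx := D.closed hy hyx hj
      refine (hiff (k := k * ⟨φ j, hmemK hjx⟩ * k⁻¹) (by simp [hnk])).1 ?_
      exact (mem_normalizer_iff.1 hk _).1 ((hiff (h := j) rfl).2 hj)
  · -- the torus type
    have hTK : ∀ z ∈ T, ∀ v : D.M, φ v = z → Commute (v : G) y := fun z hz v hv =>
      (commute_of_cyclic φ hφ (fun m hm => D.mem_center.2 ((hker m).1 hm)) hT.cyc (a := v) (b := y)
        (hv ▸ hz) hgT).map D.M.subtype
    have hTle : T ≤ K := fun z hz => by
      obtain ⟨v, rfl⟩ := hφ z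
      exact hmemK (D.closed hy hyx (hTK _ hz v rfl))
    have hA : ∀ k : K, k ∈ mem y ↔ (k : P2 F) ∈ T := by
      intro k
      obtain ⟨v, hv, hvk⟩ := hlift k
      rw [hiff hvk]
      refine ⟨fun hc => ?_, fun hk => hTK _ hk v hvk⟩
      by_contra hk
      obtain ⟨z, hz, hne'⟩ := hTout _ (hvk ▸ ((show Commute v y from Subtype.ext hc.eq).map φ)) hk
      obtain ⟨w, rfl⟩ := hφ z
      refine hne' ?_
      rw [← hvk]
      exact (show Commute v w from Subtype.ext (D.cent y.2 hy hc (hTK _ hz w rfl)).eq).map φ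
    have hcard : Nat.card (mem y) = Nat.card T := Nat.card_congr
      { toFun := fun k => ⟨(k : K), (hA _).1 k.2⟩
        invFun := fun z => ⟨⟨z, hTle z.2⟩, (hA _).2 z.2⟩
        left_inv := fun k => rfl
        right_inv := fun z => rfl }
    refine ⟨hcard ▸ hT.three, ?_⟩
    by_cases hall : normalizer (mem y : Set K) = mem y
    · exact Or.inl hall
    right
    obtain ⟨k₀, hk₀, hk₀A⟩ := SetLike.exists_of_lt
      (lt_of_le_of_ne le_normalizer (Ne.symm hall) :
        mem y < normalizer (mem y : Set K))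
    obtain ⟨n, hnT, -, hhalf⟩ := hT.half
    have hcoset : ∀ k : K, k ∈ normalizer (mem y : Set K) → k ∈ mem y ∨ n⁻¹ * (k : P2 F) ∈ T := by
      intro k hk
      rw [hA k]
      exact hhalf _ fun t ht => by
        have := (mem_normalizer_iff.1 hk ⟨t, hTle ht⟩).1 ((hA _).2 ht)
        exact (hA _).1 this
    have hk₀n := (hcoset k₀ hk₀).resolve_left hk₀A
    let f : Bool × mem y → normalizer (mem y : Set K) := fun p =>
      ⟨cond p.1 (k₀ * p.2) p.2, by
        cases p.1
        · exact le_normalizer p.2.2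
        · exact mul_mem hk₀ (le_normalizer p.2.2)⟩
    have hf : Function.Bijective f := by
      constructor
      · rintro ⟨e, t⟩ ⟨e', t'⟩ he
        have he' := congrArg Subtype.val he
        cases e <;> cases e' <;> simp only [f, cond_true, cond_false] at he'
        · exact Prod.ext rfl (Subtype.ext he')
        · refine absurd ?_ hk₀A
          rw [show k₀ = (t : K) * (t' : K)⁻¹ by rw [he', mul_inv_cancel_right]]
          exact mul_mem t.2 (inv_mem t'.2)
        · refine absurd ?_ hk₀A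
          rw [show k₀ = (t' : K) * (t : K)⁻¹ by rw [← he', mul_inv_cancel_right]]
          exact mul_mem t'.2 (inv_mem t.2)
        · exact Prod.ext rfl (Subtype.ext (mul_left_cancel he'))
      · rintro ⟨k, hk⟩
        rcases hcoset k hk with h1 | h1
        · exact ⟨(false, ⟨k, h1⟩), rfl⟩
        · refine ⟨(true, ⟨k₀⁻¹ * k, (hA _).2 ?_⟩), Subtype.ext (mul_inv_cancel_left k₀ k)⟩
          have := mul_mem (inv_mem hk₀n) h1
          simpa [mul_assoc] using this
    rw [← Nat.card_congr (Equiv.ofBijective f hf), Nat.card_prod,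
      Nat.card_eq_fintype_card (α := Bool), Fintype.card_bool]

end Bad

/-- A minimal group which is not perfect has abelian centralisers. -/
theorem Hyp.ca_of_not_perfect {G : Type u} [Group G] [Finite G] (hG : Hyp G)
    (hnp : commutator G ≠ ⊤) : CA G := by
  by_contra hnca
  obtain ⟨D⟩ := hG.exists_bad hnp hnca
  obtain ⟨F, _, _, hq, φ, hφ, hker⟩ := D.exists_psl
  exact D.false_psl φ hφ hker hq

end CfsgLib.MinNonCA
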