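import Cfsg.Agent.MinNonCA.Basic
import Cfsg.Agent.CentralMeet.Ext
import Cfsg.Agent.Suzuki.LieModel
import Cfsg.Agent.Suzuki.Sylow

/-!
# Perfect covers of Suzuki groups have non-abelian centralisers in the Borel subgroup
-/

set_option autoImplicit false
set_option linter.unusedSectionVars false
set_option linter.style.haveILetI false

namespace CfsgLib.MinNonCA

open Subgroup
open CfsgLib.Suzuki

universe u

variable {F : Type} [Field F] [Fintype F] {m : ℕ} {L : Type u} [Group L] [Finite L]

theorem sz_ker_small (h : IsSzField F m) (hL : commutator L = ⊤) (π : L →* SzG F m)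
    (hπ : Function.Surjective π) (hc : π.ker ≤ center L) :
    2 * Nat.card π.ker ≤ Nat.card F := by
  have hF : Fintype.card F = 2 ^ (2 * m + 1) := by rw [← Nat.card_eq_fintype_card, h.card]
  set σ := (lieEquiv h).toMonoidHom.comp π with hσdef
  have hker : σ.ker = π.ker := MonoidHom.ker_mulEquiv_comp π (lieEquiv h)
  have hσ : Function.Surjective σ := (lieEquiv h).surjective.comp hπ
  have hcσ : σ.ker ≤ center L := hker ▸ hc
  rw [h.card]
  by_cases h2 : 2 ≤ m
  · have h1 := CentralMeet.card_ker_dvd (Cfsg.Agent.S2111.result h2 hF) hL σ hσ hcσ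
    rw [hker] at h1
    have h3 : Nat.card π.ker = 1 := by simpa using h1
    rw [h3]
    exact Nat.le_self_pow (by omega) 2
  · obtain rfl : m = 1 := by have := h.pos; omega
    have h8 : Fintype.card F = 8 := by rw [hF]; norm_num
    let e : ↥(Cfsg.Lie.Sz F (2 ^ (1 + 1))) ≃* ↥(Cfsg.Lie.Sz F 4) :=
      MulEquiv.subgroupCongr (by norm_num)
    have hker' : (e.toMonoidHom.comp σ).ker = π.ker :=
      (MonoidHom.ker_mulEquiv_comp σ e).trans hker
    have h1 := CentralMeet.card_ker_dvd (Cfsg.Agent.S2112.result h8) hL (e.toMonoidHom.comp σ)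
      (e.surjective.comp hσ) (hker'.symm ▸ hc)
    rw [hker'] at h1
    have h4 : Nat.card π.ker ∣ 4 := by simpa using h1
    have := Nat.le_of_dvd (by norm_num) h4
    rw [show (2 : ℕ) ^ (2 * 1 + 1) = 8 from rfl]
    omega

/-- A perfect central extension of a Suzuki group has no Borel subgroup with abelian centralisers. -/
theorem sz_false (h : IsSzField F m) (hL : commutator L = ⊤) (π : L →* SzG F m)
    (hπ : Function.Surjective π) (hc : π.ker ≤ center L) (hB : CAon ((borel F m).comap π)) :
    False := by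
  classical
  have hsmall := sz_ker_small h hL π hπ hc
  have hchar := h.charP
  obtain ⟨t, ht⟩ : ∃ t : Fˣ, t ≠ 1 := by
    obtain ⟨t, ht, -⟩ := exists_unit_sg_ne_one h
    exact ⟨t, fun e => ht (by rw [e, Units.val_one, sg_one]; linear_combination h.two_eq_zero)⟩
  obtain ⟨v, hv⟩ := hπ (uE h 0 1)
  obtain ⟨d, hd⟩ := hπ (dE h t)
  have hvB : v ∈ (borel F m).comap π := by rw [mem_comap, hv]; exact unip_le_stab h (uE_mem h 0 1)
  have hdB : d ∈ (borel F m).comap π := by
    rw [mem_comap, hd]
    exact (mem_stab_inf h).2 ⟨0, 0, t, by rw [uE_zero, one_mul]⟩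
  set v' := d * v * d⁻¹ with hv'def
  set b' := sg m (t : F) * (t : F) ^ 2 with hb'
  have hv' : π v' = uE h 0 b' := by
    rw [hv'def, map_mul, map_mul, map_inv, hd, hv, dE_conj, mul_zero, mul_one]
  have hdv : ¬ Commute d v := fun e => by
    have h1 : π v' = π v := by rw [hv'def, e.eq, mul_inv_cancel_right]
    rw [hv', hv] at h1
    exact ht (scale_eq_one_right h one_ne_zero (by rw [mul_one]; exact (uE_inj h h1).2))
  have hdv' : ¬ Commute d v' := fun e => hdv (by
    have h1 := e.map (MulAut.conj d⁻¹).toMonoidHom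
    simpa [hv'def, mul_assoc] using h1)
  -- the part of the unipotent group commuting with `v`
  set W := ((unip h).comap π ⊓ centralizer ({v} : Set L)) with hWdef
  set Wb := W.map π with hWb
  have hWB : ∀ {w}, w ∈ W → w ∈ (borel F m).comap π := fun hw => unip_le_stab h hw.1
  have hWc : ∀ {w w'}, w ∈ W → w' ∈ W → Commute w w' := fun hw hw' =>
    hB.commute hvB hdB hdv (hWB hw) (hWB hw') (mem_centralizer_singleton_iff.1 hw.2)
      (mem_centralizer_singleton_iff.1 hw'.2)
  -- lower bound
  have hlow : 2 * Nat.card F ≤ Nat.card Wb := by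
    have hl : ∀ u : unip h, ∃ l : L, π l = (u : SzG F m) := fun u => hπ _
    choose ℓ hℓ using hl
    have hk : ∀ u : unip h, ℓ u * v * (ℓ u)⁻¹ * v⁻¹ ∈ π.ker := by
      intro u
      obtain ⟨a, b, hab⟩ := exists_uE h u.2
      rw [MonoidHom.mem_ker, map_mul, map_mul, map_mul, map_inv, map_inv, hℓ, hv, hab, uE_conj]
      simp
    let φ : unip h → π.ker := fun u => ⟨_, hk u⟩
    let rep : π.ker → unip h := fun k => if hk : ∃ u, φ u = k then hk.choose else 1
    have hrep : ∀ u, φ (rep (φ u)) = φ u := fun u => by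
      have hu : ∃ u', φ u' = φ u := ⟨u, rfl⟩
      simp only [rep, dif_pos hu]
      exact hu.choose_spec
    have hin : ∀ u u' : unip h, φ u' = φ u → ((u' : SzG F m))⁻¹ * u ∈ Wb := by
      intro u u' e
      refine ⟨(ℓ u')⁻¹ * ℓ u, ⟨?_, mem_centralizer_singleton_iff.2 ?_⟩,
        by rw [map_mul, map_inv, hℓ, hℓ]⟩
      · show π ((ℓ u')⁻¹ * ℓ u) ∈ unip h
        rw [map_mul, map_inv, hℓ, hℓ]
        exact mul_mem (inv_mem u'.2) u.2
      · have e' : ℓ u' * v * (ℓ u')⁻¹ = ℓ u * v * (ℓ u)⁻¹ :=
          mul_right_cancel (b := v⁻¹) (congrArg Subtype.val e)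
        calc (ℓ u')⁻¹ * ℓ u * v = (ℓ u')⁻¹ * (ℓ u * v * (ℓ u)⁻¹) * ℓ u := by group
          _ = (ℓ u')⁻¹ * (ℓ u' * v * (ℓ u')⁻¹) * ℓ u := by rw [e']
          _ = v * ((ℓ u')⁻¹ * ℓ u) := by group
    have hinj : Function.Injective (fun u : unip h =>
        ((φ u, ⟨_, hin u (rep (φ u)) (hrep u)⟩) : π.ker × Wb)) := by
      intro u u' e
      obtain ⟨e1, e2⟩ := Prod.mk.inj e
      have e3 := congrArg Subtype.val e2
      simp only [e1] at e3
      exact Subtype.ext (mul_left_cancel e3)
    have hle := Nat.card_le_card_of_injective _ hinj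
    rw [Nat.card_prod, card_unip] at hle
    have hk0 : 0 < Nat.card π.ker := Nat.card_pos
    refine Nat.le_of_mul_le_mul_left ?_ hk0
    calc Nat.card π.ker * (2 * Nat.card F) = 2 * Nat.card π.ker * Nat.card F := by ring
      _ ≤ Nat.card F * Nat.card F := Nat.mul_le_mul_right _ hsmall
      _ ≤ _ := by rw [← pow_two]; exact hle
  -- at most two first coordinates
  have hcoord : ∀ {w w' : L} {a b c e : F}, w ∈ W → w' ∈ W → π w = uE h a b → π w' = uE h c e →
      a ≠ 0 → c ≠ 0 → a = c := by
    intro w w' a b c e hw hw' ha hc' ha0 hc0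
    have h1 := ((hWc hw hw').map π).eq
    rw [ha, hc', uE_mul, uE_mul] at h1
    have h2 : sg m a * c = sg m c * a := by linear_combination (uE_inj h h1).2
    have h3 : sg m (c / a) = c / a := by
      have : sg m (c / a) * sg m a = sg m c := by rw [← sg_mul, div_mul_cancel₀ c ha0]
      field_simp
      apply mul_left_cancel₀ (sg_ne_zero (m := m) ha0)
      linear_combination a * this - h2
    have h4 := h.sg_sg (c / a)
    rw [h3, h3] at h4
    have h5 : c / a = 1 := by
      have h6 : c / a * (c / a - 1) = 0 := by linear_combination -h4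
      exact sub_eq_zero.1 ((mul_eq_zero.1 h6).resolve_left (div_ne_zero hc0 ha0))
    exact ((div_eq_one_iff_eq ha0).1 h5).symm
  have hex : ∀ x : Wb, ∃ p : F × F, ∃ w ∈ W, π w = x ∧ (x : SzG F m) = uE h p.1 p.2 := by
    rintro ⟨_, w, hw, rfl⟩
    obtain ⟨a, b, hab⟩ := exists_uE h hw.1
    exact ⟨(a, b), w, hw, rfl, hab⟩
  choose p w hw hwx hp using hex
  let g : Wb → Bool × F := fun x => (decide ((p x).1 = 0), (p x).2)
  have hg : Function.Injective g := by
    intro x y e
    obtain ⟨e1, e2⟩ := Prod.mk.inj e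
    apply Subtype.ext
    rw [hp x, hp y, e2]
    congr 1
    by_cases hx : (p x).1 = 0
    · rw [hx, (decide_eq_decide.1 e1).1 hx]
    · exact hcoord (hw x) (hw y) ((hwx x).trans (hp x)) ((hwx y).trans (hp y)) hx
        (fun hy => hx ((decide_eq_decide.1 e1).2 hy))
  have hgb : Function.Bijective g := (Nat.bijective_iff_injective_and_card g).2 ⟨hg, by
    have hb : Nat.card (Bool × F) = 2 * Nat.card F := by
      rw [Nat.card_prod, Nat.card_eq_fintype_card (α := Bool), Fintype.card_bool]
    have := Nat.card_le_card_of_injective _ hg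
    omega⟩
  obtain ⟨x, hx⟩ := hgb.2 (false, 0)
  obtain ⟨y, hy⟩ := hgb.2 (true, b')
  obtain ⟨hx1, hx2⟩ := Prod.mk.inj hx
  obtain ⟨hy1, hy2⟩ := Prod.mk.inj hy
  rw [decide_eq_false_iff_not] at hx1
  rw [decide_eq_true_iff] at hy1
  -- `v'` commutes with `v`
  have hv'W : v' ∈ W := by
    have he : π (w y) = π v' := by rw [hwx, hp, hy1, hy2, hv']
    have hz : (w y)⁻¹ * v' ∈ center L := hc (by
      rw [MonoidHom.mem_ker, map_mul, map_inv, he, inv_mul_cancel])
    refine ⟨?_, mem_centralizer_singleton_iff.2 ?_⟩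
    · show π v' ∈ unip h
      rw [hv']; exact uE_mem h _ _
    · have := (show Commute (w y) v from mem_centralizer_singleton_iff.1 (hw y).2).mul_left
        (commute_of_mem_center hz v).symm
      rw [mul_inv_cancel_left] at this
      exact this.eq
  have hxB : w x ∈ (borel F m).comap π := hWB (hw x)
  have hcomm : Commute (w x) (d * w x * d⁻¹) := by
    refine hB.commute (hWB hv'W) hdB hdv' hxB (mul_mem (mul_mem hdB hxB) (inv_mem hdB))
      (hWc (hw x) hv'W) ?_
    simpa [hv'def] using (show Commute (w x) v from mem_centralizer_singleton_iff.1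
      (hw x).2).map (MulAut.conj d).toMonoidHom
  have h1 := (hcomm.map π).eq
  rw [map_mul π (d * w x), map_mul, map_inv, hd, hwx, hp, hx2, dE_conj, uE_mul, uE_mul] at h1
  have h2 := (uE_inj h h1).2
  have h3 : sg m (p x).1 * (sg m (t : F) * (p x).1) = sg m (sg m (t : F) * (p x).1) * (p x).1 := by
    linear_combination h2
  have h4 : sg m (t : F) = sg m (sg m (t : F)) := by
    refine mul_right_cancel₀ (mul_ne_zero (sg_ne_zero (m := m) hx1) hx1) ?_
    rw [sg_mul] at h3
    linear_combination h3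
  exact ht (scale_eq_one_left h one_ne_zero (by
    rw [mul_one]
    refine h.sg_injective ?_
    rw [← h4]
    have h5 := h.sg_sg (sg m (t : F))
    rw [← h4, ← h4] at h5
    have h6 : sg m (t : F) * (sg m (t : F) - 1) = 0 := by linear_combination -h5
    rw [sg_one]
    exact sub_eq_zero.1 ((mul_eq_zero.1 h6).resolve_left (sg_ne_zero t.ne_zero))))

end CfsgLib.MinNonCA
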