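import Cfsg.Agent.MinNonCA.Structure
import Cfsg.Agent.MinNonCA.SzCover
import Cfsg.Agent.S0252
import Cfsg.Agent.S0253

/-!
# An element with non-abelian centraliser in a minimal group which is not perfect
-/

set_option autoImplicit false
set_option linter.unusedSectionVars false
set_option linter.style.haveILetI false

namespace CfsgLib.MinNonCA

open Subgroup
open scoped commutatorElement
open CfsgLib.Linear.SmallSub (P2)

universe u

variable {G : Type u} [Group G] [Finite G]

theorem normal_of_commutator_le {K : Subgroup G} (h : commutator G ≤ K) : K.Normal :=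
  ⟨fun k hk g => by
    have := mul_mem (h (commutator_mem_commutator (mem_top g) (mem_top k))) hk
    rwa [commutatorElement_def, inv_mul_cancel_right] at this⟩

theorem Hyp.ns_of_commutator_le (hG : Hyp G) {K : Subgroup G} (h : commutator G ≤ K) :
    ¬ Group.IsSolvable K := fun hs => hG.ns (by
  haveI := normal_of_commutator_le h
  haveI := hs
  haveI : Group.IsSolvable (G ⧸ K) := Group.isSolvable_of_comm fun a b => by
    obtain ⟨a, rfl⟩ := QuotientGroup.mk_surjective a
    obtain ⟨b, rfl⟩ := QuotientGroup.mk_surjective b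
    refine QuotientGroup.eq.2 ?_
    have := h (commutator_mem_commutator (mem_top b⁻¹) (mem_top a⁻¹))
    rwa [commutatorElement_def, inv_inv, inv_inv,
      show b⁻¹ * a⁻¹ * b * a = (a * b)⁻¹ * (b * a) by group] at this
  exact (Group.isSolvable_iff_subgroup_quotient K).2 ⟨inferInstance, inferInstance⟩)

theorem Hyp.center_le (hG : Hyp G) {K : Subgroup G} [hKn : K.Normal] (hK : K ≠ ⊤)
    (hns : ¬ Group.IsSolvable K) {c : G} (hc : c ∈ K) (hcK : ∀ k ∈ K, Commute k c) :
    c ∈ center G := by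
  haveI : Fact (Nat.Prime 2) := ⟨Nat.prime_two⟩
  obtain ⟨T⟩ := (inferInstance : Nonempty (Sylow 2 K))
  set T' := (T : Subgroup K).map K.subtype
  set Y := normalizer (T' : Set G)
  have hYtop : Y ≠ ⊤ := fun e => hns (by
    haveI := normalizer_eq_top_iff.1 e
    haveI : (T : Subgroup K).Normal := ⟨fun t ht g => by
      obtain ⟨s, hs, hst⟩ := (inferInstance : T'.Normal).conj_mem _ (mem_map_of_mem _ ht) (g : G)
      rwa [show s = g * t * g⁻¹ from Subtype.ext hst] at hs⟩
    exact solvable_of_sylow_normal T)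
  have hsup : Y ⊔ K = ⊤ := T.normalizer_sup_eq_top
  have hY : ∀ y ∈ Y, Commute y c := by
    by_contra hno
    push Not at hno
    obtain ⟨y, hy, hyc⟩ := hno
    refine hns (solvable_of_central_normalizer T fun s hs g hg => ?_)
    have hcY : c ∈ Y := mem_normalizer_fintype fun n hn => by
      obtain ⟨m, hm, rfl⟩ := hn
      show c * (m : G) * c⁻¹ ∈ T'
      rw [← (hcK _ m.2).eq, mul_inv_cancel_right]
      exact mem_map_of_mem _ hm
    have hgY : (g : G) ∈ Y := mem_normalizer_fintype fun n hn => by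
      obtain ⟨m, hm, rfl⟩ := hn
      exact ⟨g * m * g⁻¹, (mem_normalizer_iff.1 hg m).1 hm, by simp⟩
    exact Subtype.ext ((hG.proper Y hYtop).commute hcY hy hyc hgY
      (le_normalizer (mem_map_of_mem _ hs)) (hcK _ g.2) (hcK _ s.2)).eq
  refine mem_center_iff.2 fun g => ?_
  obtain ⟨y, hy, k, hk, rfl⟩ := mem_sup_of_normal_right.1 (hsup ▸ mem_top g)
  exact ((hY y hy).mul_left (hcK k hk)).eq

/-- Centralisers of non-central elements in proper non-solvable normal subgroups are abelian. -/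
theorem Hyp.cent_normal (hG : Hyp G) {K : Subgroup G} [hKn : K.Normal] (hK : K ≠ ⊤)
    (hns : ¬ Group.IsSolvable K) {x a b : G} (hxK : x ∈ K) (hx : x ∉ center G) (ha : Commute a x)
    (hb : Commute b x) : Commute a b := by
  have hCA := hG.ca hK
  have hxc : (⟨x, hxK⟩ : K) ∉ center K := fun e => hx (hG.center_le hK hns hxK fun k hk =>
    congrArg Subtype.val (mem_center_iff.1 e ⟨k, hk⟩))
  set A := K ⊓ centralizer ({x} : Set G)
  set Y := normalizer (A : Set G)
  have hAc : ∀ u ∈ A, ∀ v ∈ A, Commute u v := fun u hu v hv =>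
    ((hCA.commute hxc (a := ⟨u, hu.1⟩) (b := ⟨v, hv.1⟩)
      (Subtype.ext (mem_centralizer_singleton_iff.1 hu.2))
      (Subtype.ext (mem_centralizer_singleton_iff.1 hv.2))).map K.subtype)
  have hxA : x ∈ A := ⟨hxK, mem_centralizer_singleton_iff.2 rfl⟩
  have hYtop : Y ≠ ⊤ := fun e => hxc (by
    haveI := normalizer_eq_top_iff.1 e
    haveI : Group.IsSolvable (A.subgroupOf K) :=
      Group.isSolvable_of_comm fun u v => Subtype.ext (Subtype.ext (hAc _ u.2 _ v.2).eq)
    exact hCA.radical hns (A.subgroupOf K) inferInstance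
      (show (⟨x, hxK⟩ : K) ∈ A.subgroupOf K from hxA))
  have hcY : ∀ g, Commute g x → g ∈ Y := fun g hg => mem_normalizer_fintype fun n hn => by
    refine ⟨hKn.conj_mem n hn.1 g, mem_centralizer_singleton_iff.2 ?_⟩
    have h1 := (show Commute n x from mem_centralizer_singleton_iff.1 hn.2).map
      (MulAut.conj g).toMonoidHom
    simp only [MulEquiv.coe_toMonoidHom, MulAut.conj_apply] at h1
    rw [show g * x * g⁻¹ = x by rw [hg.eq, mul_inv_cancel_right]] at h1
    exact h1.eq
  obtain ⟨g, hg, hgx⟩ := hCA.moved hns hxc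
  have hgY : (g : G) ∈ Y := mem_normalizer_fintype fun n hn => by
    refine ⟨hKn.conj_mem n hn.1 g, mem_centralizer_singleton_iff.2 ?_⟩
    exact congrArg Subtype.val
      (hg ⟨n, hn.1⟩ (Subtype.ext (mem_centralizer_singleton_iff.1 hn.2))).eq
  exact (hG.proper Y hYtop).commute (hcY x (Commute.refl x)) hgY
    (fun e => hgx (Subtype.ext e.eq)) (hcY a ha) (hcY b hb) ha hb

/-- A non-central element with non-abelian centraliser, outside a normal subgroup of prime index. -/
structure Bad (G : Type u) [Group G] where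
  hG : Hyp G
  M : Subgroup G
  x : G
  r : ℕ
  a : G
  b : G
  hcomm : commutator G ≤ M
  hMtop : M ≠ ⊤
  hx : x ∉ center G
  hax : Commute a x
  hbx : Commute b x
  hab : ¬ Commute a b
  hr : r.Prime
  hxrM : x ^ r ∈ M
  hxr : x ^ r ∈ center G
  gen : ∀ g : G, ∃ m ∈ M, ∃ i : ℤ, g = m * x ^ i

theorem Hyp.exists_bad (hG : Hyp G) (hnp : commutator G ≠ ⊤) (hnca : ¬ CA G) :
    Nonempty (Bad G) := by
  unfold CA at hnca
  push Not at hnca
  obtain ⟨x, a, b, hax, hbx, hab, hx⟩ := hnca
  obtain ⟨M, hM⟩ := Set.Finite.exists_maximal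
    (Set.toFinite {K : Subgroup G | commutator G ≤ K ∧ K ≠ ⊤}) ⟨_, le_rfl, hnp⟩
  obtain ⟨hMc, hMtop⟩ := hM.prop
  haveI := normal_of_commutator_le hMc
  have hnot : ∀ {K : Subgroup G}, commutator G ≤ K → K ≠ ⊤ → x ∉ K := fun {K} hKc hKt hxK =>
    haveI := normal_of_commutator_le hKc
    hab (hG.cent_normal hKt (hG.ns_of_commutator_le hKc) hxK hx hax hbx)
  have hxM := hnot hMc hMtop
  have hmax : ∀ y : G, y ∉ M → M ⊔ zpowers y = ⊤ := fun y hy => by
    by_contra hne
    exact hy (hM.le_of_ge ⟨hMc.trans le_sup_left, hne⟩ le_sup_left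
      (mem_sup_right (mem_zpowers y)))
  have hgen : ∀ y : G, y ∉ M → ∀ g : G, ∃ m ∈ M, ∃ i : ℤ, g = m * y ^ i := fun y hy g => by
    obtain ⟨m, hm, z, hz, hg⟩ := mem_sup_of_normal_left.1 (hmax y hy ▸ mem_top g)
    obtain ⟨i, rfl⟩ := mem_zpowers_iff.1 hz
    exact ⟨m, hm, i, hg.symm⟩
  set π := QuotientGroup.mk' M
  set n := orderOf (π x) with hn
  have hn1 : n ≠ 1 := fun e => hxM ((QuotientGroup.eq_one_iff x).1 (orderOf_eq_one_iff.1 e))
  set p := n.minFac
  have hp : p.Prime := Nat.minFac_prime hn1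
  haveI := Fact.mk hp
  have hy : x ^ (n / p) ∉ M := fun e => by
    have h1 : (π x) ^ (n / p) = 1 := by rw [← map_pow]; exact (QuotientGroup.eq_one_iff _).2 e
    exact absurd (Nat.le_of_dvd (Nat.div_pos (Nat.minFac_le (orderOf_pos _)) hp.pos)
      (orderOf_dvd_of_pow_eq_one h1)) (not_le.2 (Nat.div_lt_self (orderOf_pos _) hp.one_lt))
  have hnp' : n = p := by
    refine Nat.dvd_antisymm ?_ (Nat.minFac_dvd n)
    refine orderOf_dvd_of_pow_eq_one ?_
    obtain ⟨m, hm, i, hmi⟩ := hgen _ hy x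
    have : π x = (π x ^ (n / p)) ^ i := by
      conv_lhs => rw [hmi]
      rw [map_mul, show π m = 1 from (QuotientGroup.eq_one_iff m).2 hm, one_mul, map_zpow, map_pow]
    rw [this, ← zpow_natCast, ← zpow_mul, mul_comm, zpow_mul, zpow_natCast, ← pow_mul,
      Nat.div_mul_cancel (Nat.minFac_dvd n), hn, pow_orderOf_eq_one, one_zpow]
  have hxpM : x ^ p ∈ M := by
    rw [← QuotientGroup.eq_one_iff, ← hnp']
    exact pow_orderOf_eq_one (π x)
  refine ⟨⟨hG, M, x, p, a, b, hMc, hMtop, hx, hax, hbx, hab, hp, hxpM, ?_, hgen x hxM⟩⟩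
  by_contra hz
  exact hab (hG.cent_normal hMtop (hG.ns_of_commutator_le hMc) hxpM hz (hax.pow_right p)
    (hbx.pow_right p))

namespace Bad

variable (D : Bad G)

instance normal : D.M.Normal := normal_of_commutator_le D.hcomm

theorem ns : ¬ Group.IsSolvable D.M := D.hG.ns_of_commutator_le D.hcomm

theorem ca : CA D.M := D.hG.ca D.hMtop

theorem mem_center {m : D.M} : m ∈ center D.M ↔ (m : G) ∈ center G := by
  refine ⟨fun h => D.hG.center_le D.hMtop D.ns m.2 fun k hk => ?_, fun h => ?_⟩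
  · exact congrArg Subtype.val (mem_center_iff.1 h ⟨k, hk⟩)
  · exact mem_center_iff.2 fun k => Subtype.ext (mem_center_iff.1 h k)

theorem cent {y g h : G} (hyM : y ∈ D.M) (hy : y ∉ center G) (hg : Commute g y)
    (hh : Commute h y) : Commute g h :=
  D.hG.cent_normal D.hMtop D.ns hyM hy hg hh

theorem not_mem {K : Subgroup G} (hc : commutator G ≤ K) (hK : K ≠ ⊤) : D.x ∉ K := fun hxK =>
  haveI := normal_of_commutator_le hc
  D.hab (D.hG.cent_normal hK (D.hG.ns_of_commutator_le hc) hxK D.hx D.hax D.hbx)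

theorem x_not_mem : D.x ∉ D.M := D.not_mem D.hcomm D.hMtop

/-- Some two elements of `M` centralising `x` do not commute. -/
theorem exists_pair : ∃ h ∈ D.M, ∃ k ∈ D.M, Commute h D.x ∧ Commute k D.x ∧ ¬ Commute h k := by
  obtain ⟨m, hm, i, hi⟩ := D.gen D.a
  obtain ⟨m', hm', j, hj⟩ := D.gen D.b
  have hcm : Commute m D.x := by
    have := D.hax.mul_left ((Commute.refl D.x).zpow_left (-i))
    rwa [hi, zpow_neg, mul_inv_cancel_right] at this
  have hcm' : Commute m' D.x := by
    have := D.hbx.mul_left ((Commute.refl D.x).zpow_left (-j))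
    rwa [hj, zpow_neg, mul_inv_cancel_right] at this
  refine ⟨m, hm, m', hm', hcm, hcm', fun e => D.hab ?_⟩
  rw [hi, hj]
  exact (e.mul_right (hcm.zpow_right j)).mul_left
    ((hcm'.symm.zpow_left i).mul_right ((Commute.refl D.x).zpow_zpow i j))

/-- `x` is central in every proper subgroup in which its centraliser is not abelian. -/
theorem central {Y : Subgroup G} (hY : Y ≠ ⊤) (hx : D.x ∈ Y) {h k : G} (hh : h ∈ Y) (hk : k ∈ Y)
    (hhx : Commute h D.x) (hkx : Commute k D.x) (hhk : ¬ Commute h k) {y : G} (hy : y ∈ Y) :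
    Commute y D.x :=
  D.hG.proper Y hY D.x hx h hh k hk hhx hkx hhk y hy

theorem not_pgl {F : Type} [Field F] [Fintype F] (h5 : 5 ≤ Fintype.card F)
    (hodd : Odd (Fintype.card F))
    (e : (D.M ⧸ center D.M) ≃* (GL (Fin 2) F ⧸ center (GL (Fin 2) F))) : False := by
  set π := QuotientGroup.mk' (center D.M)
  obtain ⟨S, hidx, hle, ⟨f⟩⟩ := pgl_half h5 hodd e
  obtain ⟨hPs, hPns⟩ := simple_psl (F := F) (by omega)
  haveI := hPs
  haveI hSn := normal_of_index_eq_two hidx
  haveI : IsSimpleGroup S := f.isSimpleGroup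
  have hSc : S ≤ commutator (D.M ⧸ center D.M) := by
    rcases (inferInstance : (commutator S).Normal).eq_bot_or_eq_top with h | h
    · exfalso
      refine hPns ?_
      haveI : Group.IsSolvable S := Group.isSolvable_of_comm fun u v =>
        commutatorElement_eq_one_iff_mul_comm.1 (by
          rw [← mem_bot, ← h, commutator_def]
          exact commutator_mem_commutator (mem_top _) (mem_top _))
      exact Group.isSolvable_of_surjective (f := f.toMonoidHom) f.surjective
    · intro s hs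
      have h1 : (commutator S).map S.subtype ≤ commutator (D.M ⧸ center D.M) := by
        rw [commutator_def, map_commutator, commutator_def]
        exact commutator_mono le_top le_top
      exact h1 ⟨⟨s, hs⟩, h ▸ mem_top _, rfl⟩
  set L := ⁅D.M, D.M⁆ ⊔ (D.M ⊓ center G) with hL
  have hLS : ∀ m : D.M, (m : G) ∈ L ↔ π m ∈ S := by
    have hLM : ⁅D.M, D.M⁆ = (commutator D.M).map D.M.subtype := by
      rw [map_subtype_commutator]
    have hmapc : (_root_.commutator D.M).map π = _root_.commutator (D.M ⧸ center D.M) := by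
      rw [_root_.commutator_def, map_commutator,
        map_top_of_surjective _ (QuotientGroup.mk'_surjective _), ← _root_.commutator_def]
    intro m
    constructor
    · intro hm
      obtain ⟨u, hu, z, hz, huz⟩ := mem_sup_of_normal_right.1 hm
      rw [hLM] at hu
      obtain ⟨u, hu, rfl⟩ := hu
      have hm' : m = u * ⟨z, hz.1⟩ := Subtype.ext huz.symm
      rw [hm', map_mul, show π ⟨z, hz.1⟩ = 1 from (QuotientGroup.eq_one_iff _).2
        (D.mem_center.2 hz.2), mul_one]
      exact hle (hmapc ▸ mem_map_of_mem π hu)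
    · intro hm
      have h1 : π m ∈ (_root_.commutator D.M).map π := hmapc ▸ hSc hm
      obtain ⟨u, hu, hum⟩ := h1
      have hz : u⁻¹ * m ∈ center D.M := QuotientGroup.eq.1 hum
      have hz' : ((u⁻¹ * m : D.M) : G) ∈ D.M ⊓ center G := ⟨SetLike.coe_mem _, D.mem_center.1 hz⟩
      have := mul_mem (mem_sup_left (T := D.M ⊓ center G) (hLM ▸ mem_map_of_mem _ hu))
        (mem_sup_right (S := ⁅D.M, D.M⁆) hz')
      simpa using this
  obtain ⟨s₀, hs₀⟩ : ∃ s, s ∉ S := by
    by_contra hall
    push Not at hall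
    rw [(eq_top_iff' S).2 hall, index_top] at hidx
    omega
  obtain ⟨m₀, rfl⟩ := QuotientGroup.mk'_surjective _ s₀
  set L₁ := L ⊔ zpowers D.x
  have hxL : D.x ∈ L₁ := mem_sup_right (mem_zpowers _)
  refine D.not_mem ?_ ?_ hxL
  · set ρ := QuotientGroup.mk' L
    have hmm : ∀ u ∈ D.M, ∀ v ∈ D.M, Commute (ρ u) (ρ v) := fun u hu v hv => by
      rw [commute_iff_comm, ← map_inv, ← map_inv, ← map_mul, ← map_mul, ← map_mul]
      exact (QuotientGroup.eq_one_iff _).2 (mem_sup_left (commutator_mem_commutator hu hv))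
    have hxm : ∀ u ∈ D.M, Commute (ρ D.x) (ρ u) := fun u hu => by
      rw [commute_iff_comm, ← map_inv, ← map_inv, ← map_mul, ← map_mul, ← map_mul]
      refine (QuotientGroup.eq_one_iff _).2 ?_
      have hxu := D.normal.conj_mem u hu D.x
      have hiff : (D.x * u * D.x⁻¹ ∈ L) ↔ u ∈ L := by
        refine ⟨fun h => ?_, fun h => (inferInstance : L.Normal).conj_mem u h D.x⟩
        have := (inferInstance : L.Normal).conj_mem _ h D.x⁻¹
        simpa [mul_assoc] using this
      show ((⟨D.x * u * D.x⁻¹, hxu⟩ * ⟨u, hu⟩⁻¹ : D.M) : G) ∈ L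
      rw [hLS, map_mul, mul_mem_iff_of_index_two hidx, map_inv, inv_mem_iff, ← hLS, ← hLS]
      exact hiff
    rw [_root_.commutator_def, commutator_le]
    intro g _ h _
    refine mem_sup_left ((QuotientGroup.eq_one_iff _).1 ?_)
    show ρ _ = 1
    rw [map_commutatorElement, commutatorElement_eq_one_iff_mul_comm]
    obtain ⟨u, hu, i, rfl⟩ := D.gen g
    obtain ⟨v, hv, j, rfl⟩ := D.gen h
    rw [map_mul, map_mul, map_zpow, map_zpow]
    exact (((hmm u hu v hv).mul_right ((hxm u hu).symm.zpow_right j)).mul_left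
      (((hxm v hv).zpow_left i).mul_right ((Commute.refl _).zpow_zpow i j))).eq
  · intro htop
    refine hs₀ ((hLS m₀).1 ?_)
    obtain ⟨l, hl, z, hz, hlz⟩ := mem_sup_of_normal_left.1 (htop ▸ mem_top (m₀ : G))
    obtain ⟨k, rfl⟩ := mem_zpowers_iff.1 hz
    have hxk : D.x ^ k ∈ D.M := by
      have : l ∈ D.M := sup_le (commutator_le_right D.M D.M) inf_le_left hl
      have h1 := mul_mem (inv_mem this) m₀.2
      rwa [← hlz, inv_mul_cancel_left] at h1
    have hxk' : D.x ^ k ∈ D.M ⊓ center G := by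
      refine ⟨hxk, ?_⟩
      by_cases hdvd : (D.r : ℤ) ∣ k
      · obtain ⟨j, rfl⟩ := hdvd
        rw [zpow_mul, zpow_natCast]; exact zpow_mem D.hxr j
      · exfalso
        have hr' : Prime (D.r : ℤ) := Nat.prime_iff_prime_int.1 D.hr
        obtain ⟨u, v, huv⟩ := (hr'.coprime_iff_not_dvd.2 hdvd)
        refine D.x_not_mem ?_
        rw [← zpow_one D.x, ← huv, zpow_add, mul_comm u, mul_comm v, zpow_mul, zpow_mul,
          zpow_natCast]
        exact mul_mem (zpow_mem D.hxrM u) (zpow_mem hxk v)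
    rw [← hlz]
    exact mul_mem hl (mem_sup_right hxk')

theorem not_suzuki (hS : Cfsg.Lie.IsoSuzuki (D.M ⧸ center D.M)) : False := by
  obtain ⟨F, _, _, m, hm, hF, ⟨e⟩⟩ := hS
  have h := CfsgLib.Suzuki.isSzField_of_card hm hF
  set σ := (e.trans (CfsgLib.Suzuki.lieEquiv h).symm).toMonoidHom.comp
    (QuotientGroup.mk' (center D.M)) with hσdef
  have hσ : Function.Surjective σ :=
    (e.trans (CfsgLib.Suzuki.lieEquiv h).symm).surjective.comp (QuotientGroup.mk'_surjective _)
  have hker : σ.ker = center D.M :=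
    (MonoidHom.ker_mulEquiv_comp _ (e.trans (CfsgLib.Suzuki.lieEquiv h).symm)).trans
      (QuotientGroup.ker_mk' _)
  set τ := σ.comp (commutator D.M).subtype
  have hτ : Function.Surjective τ := fun y => by
    have h1 : y ∈ (commutator D.M).map σ := by
      rw [commutator_def, map_commutator, map_top_of_surjective _ hσ, ← commutator_def,
        CfsgLib.Suzuki.commutator_eq_top h]
      exact mem_top y
    obtain ⟨l, hl, hly⟩ := h1
    exact ⟨⟨l, hl⟩, hly⟩
  have hperf : commutator (commutator D.M) = ⊤ := by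
    have hdec : ∀ u : D.M, ∃ c ∈ commutator D.M, σ u = σ c := fun u => by
      obtain ⟨c, hc⟩ := hτ (σ u)
      exact ⟨c, c.2, hc.symm⟩
    have h1 : commutator D.M ≤ (commutator (commutator D.M)).map (commutator D.M).subtype := by
      conv_lhs => rw [commutator_def]
      rw [commutator_le]
      intro u _ v _
      obtain ⟨c, hc, hcu⟩ := hdec u
      obtain ⟨c', hc', hcv⟩ := hdec v
      refine ⟨⁅⟨c, hc⟩, ⟨c', hc'⟩⁆, commutator_mem_commutator (mem_top _) (mem_top _), ?_⟩
      rw [map_commutatorElement]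
      exact (CentralMeet.commutator_congr' hker.le hcu hcv).symm
    refine eq_top_iff.2 fun z _ => ?_
    obtain ⟨w, hw, hwz⟩ := h1 z.2
    rwa [← Subtype.ext hwz]
  refine sz_false h hperf τ hτ (fun l hl => ?_) ((D.ca.subgroup _).caon _)
  refine mem_center_iff.2 fun y => Subtype.ext ?_
  have : (l : D.M) ∈ center D.M := hker ▸ hl
  exact mem_center_iff.1 this y

/-- Modulo the centre, `M` is `PSL₂(q)` with `q ≠ 5`. -/
theorem exists_psl : ∃ (F : Type) (_ : Field F) (_ : Fintype F),
    (((2 : F) = 0 ∧ 4 ≤ Fintype.card F) ∨ (Odd (Fintype.card F) ∧ 7 ≤ Fintype.card F)) ∧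
    ∃ φ : D.M →* P2 F, Function.Surjective φ ∧ ∀ m : D.M, φ m = 1 ↔ (m : G) ∈ center G := by
  rcases D.ca.types D.ns with ⟨F, iF, iF', hq, ⟨e⟩⟩ | ⟨F, _, _, h5, hodd, ⟨e⟩⟩ | hS
  · have mk : ∀ {F' : Type} [Field F'] [Fintype F'] (e' : D.M ⧸ center D.M ≃* P2 F'),
        ∃ φ : D.M →* P2 F', Function.Surjective φ ∧ ∀ m : D.M, φ m = 1 ↔ (m : G) ∈ center G :=
      fun e' => ⟨e'.toMonoidHom.comp (QuotientGroup.mk' _),
        e'.surjective.comp (QuotientGroup.mk'_surjective _), fun m => by
          rw [← D.mem_center, ← QuotientGroup.eq_one_iff (N := center D.M) m]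
          exact e'.map_eq_one_iff⟩
    by_cases h5 : Fintype.card F = 5
    · obtain ⟨e₁⟩ := Cfsg.Agent.S0253.result h5
      letI : Fintype (GaloisField 2 2) := Fintype.ofFinite _
      have h4 : Fintype.card (GaloisField 2 2) = 4 := by
        rw [← Nat.card_eq_fintype_card, GaloisField.card 2 2 (by norm_num)]; norm_num
      obtain ⟨e₂⟩ := Cfsg.Agent.S0252.result h4
      refine ⟨GaloisField 2 2, inferInstance, inferInstance, Or.inl ⟨?_, h4.ge⟩,
        mk (e.trans (e₁.trans e₂.symm))⟩
      exact CharTwo.two_eq_zero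
    · refine ⟨F, iF, iF', ?_, mk e⟩
      by_cases h2 : (2 : F) = 0
      · exact Or.inl ⟨h2, hq⟩
      · have hodd : Odd (Fintype.card F) := Nat.odd_iff.2
          (FiniteField.odd_card_of_char_ne_two fun h => h2 (by
            haveI := ringChar.of_eq h
            exact CharTwo.two_eq_zero))
        refine Or.inr ⟨hodd, ?_⟩
        rw [Nat.odd_iff] at hodd
        omega
  · exact (D.not_pgl h5 hodd e).elim
  · exact (D.not_suzuki hS).elim

end Bad

end CfsgLib.MinNonCA
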