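import Cfsg.Agent.GWApps.HallBase
import Cfsg.Agent.DGroup.RankTwo

/-!
# Groups with abelian centralisers of non-central elements

Elementary facts used for the non-solvable groups all of whose proper subgroups have this property.
-/

set_option autoImplicit false
set_option linter.unusedSectionVars false
set_option linter.style.haveILetI false

namespace CfsgLib.MinNonCA

open Subgroup

universe u

/-- An element whose centraliser in `H` is non-abelian is central in `H`. -/
def CAon {G : Type*} [Group G] (H : Subgroup G) : Prop :=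
  ∀ x ∈ H, ∀ a ∈ H, ∀ b ∈ H, Commute a x → Commute b x → ¬ Commute a b → ∀ y ∈ H, Commute y x

/-- An element with non-abelian centraliser is central. -/
def CA (G : Type*) [Group G] : Prop :=
  ∀ x a b : G, Commute a x → Commute b x → ¬ Commute a b → x ∈ center G

variable {G : Type u} [Group G]

theorem commute_of_mem_center {z : G} (hz : z ∈ center G) (g : G) : Commute g z :=
  mem_center_iff.1 hz g

theorem ca_iff :
    CA G ↔ ∀ x : G, x ∉ center G → IsMulCommutative (centralizer ({x} : Set G)) := by
  constructor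
  · intro h x hx
    refine ⟨⟨fun a b => Subtype.ext (by_contra fun hab => hx ?_)⟩⟩
    exact h x a b (mem_centralizer_singleton_iff.1 a.2) (mem_centralizer_singleton_iff.1 b.2) hab
  · intro h x a b ha hb hab
    by_contra hx
    exact hab (congrArg Subtype.val ((h x hx).is_comm.comm
      ⟨a, mem_centralizer_singleton_iff.2 ha.eq⟩ ⟨b, mem_centralizer_singleton_iff.2 hb.eq⟩))

theorem caon_iff {H : Subgroup G} : CAon H ↔ CA H := by
  constructor
  · intro h x a b ha hb hab
    refine mem_center_iff.2 fun y => Subtype.ext ?_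
    exact h x x.2 a a.2 b b.2 (ha.map H.subtype) (hb.map H.subtype)
      (fun e => hab (Subtype.ext e.eq)) y y.2
  · intro h x hx a ha b hb hax hbx hab y hy
    have := h ⟨x, hx⟩ ⟨a, ha⟩ ⟨b, hb⟩ (Subtype.ext hax.eq) (Subtype.ext hbx.eq)
      (fun e => hab (e.map H.subtype))
    exact congrArg Subtype.val (mem_center_iff.1 this ⟨y, hy⟩)

theorem CA.caon (h : CA G) (H : Subgroup G) : CAon H :=
  fun x _ a _ b _ ha hb hab y _ => commute_of_mem_center (h x a b ha hb hab) y

theorem CA.subgroup (h : CA G) (H : Subgroup G) : CA H := caon_iff.1 (h.caon H)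

theorem CAon.mono {H K : Subgroup G} (h : CAon K) (hle : H ≤ K) : CAon H :=
  fun x hx a ha b hb hax hbx hab y hy =>
    h x (hle hx) a (hle ha) b (hle hb) hax hbx hab y (hle hy)

theorem ca_of_mulEquiv {G' : Type*} [Group G'] (e : G ≃* G') (h : CA G) : CA G' := by
  intro x a b ha hb hab
  have := h (e.symm x) (e.symm a) (e.symm b) (ha.map e.symm) (hb.map e.symm)
    (fun c => hab (by simpa using c.map e))
  exact mem_center_iff.2 fun y => e.symm.injective (by
    rw [map_mul, map_mul]; exact mem_center_iff.1 this (e.symm y))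

theorem caon_top (h : CA G) : CAon (⊤ : Subgroup G) := h.caon ⊤

/-- In a group with abelian centralisers, the centraliser of a non-central element is commutative. -/
theorem CA.commute (h : CA G) {x a b : G} (hx : x ∉ center G) (ha : Commute a x) (hb : Commute b x) :
    Commute a b := by_contra fun hab => hx (h x a b ha hb hab)

theorem CAon.commute {H : Subgroup G} (h : CAon H) {x y a b : G} (hxH : x ∈ H) (hy : y ∈ H)
    (hxy : ¬ Commute y x) (haH : a ∈ H) (hbH : b ∈ H) (ha : Commute a x) (hb : Commute b x) :
    Commute a b := by_contra fun hab => hxy (h x hxH a haH b hbH ha hb hab y hy)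

/-- The elements centralising `a` modulo the centre. -/
def cmod (a : G) : Subgroup G :=
  (centralizer ({QuotientGroup.mk' (center G) a} : Set (G ⧸ center G))).comap
    (QuotientGroup.mk' (center G))

theorem mem_cmod {a g : G} : g ∈ cmod a ↔ g * a * g⁻¹ * a⁻¹ ∈ center G := by
  rw [cmod, mem_comap, mem_centralizer_singleton_iff, ← QuotientGroup.eq_one_iff,
    ← map_mul, ← map_mul, ← mul_inv_eq_one, ← map_inv, ← map_mul]
  rw [show g * a * (a * g)⁻¹ = g * a * g⁻¹ * a⁻¹ by group]
  rfl

theorem commute_iff_comm {g a : G} : Commute g a ↔ g * a * g⁻¹ * a⁻¹ = 1 := by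
  rw [mul_inv_eq_one, mul_inv_eq_iff_eq_mul]; rfl

/-- `g ↦ [g, a]`, a homomorphism on the elements centralising `a` modulo the centre. -/
def cmodHom (a : G) : cmod a →* center G where
  toFun g := ⟨(g : G) * a * (g : G)⁻¹ * a⁻¹, mem_cmod.1 g.2⟩
  map_one' := Subtype.ext (by simp)
  map_mul' g h := Subtype.ext (by
    have hz := mem_center_iff.1 (mem_cmod.1 h.2) (g : G)
    show (g : G) * h * a * ((g : G) * h)⁻¹ * a⁻¹ =
      (g : G) * a * (g : G)⁻¹ * a⁻¹ * ((h : G) * a * (h : G)⁻¹ * a⁻¹)
    have hz' := mem_center_iff.1 (mem_cmod.1 h.2) ((g : G) * a * (g : G)⁻¹ * a⁻¹)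
    calc (g : G) * h * a * ((g : G) * h)⁻¹ * a⁻¹
        = (g : G) * ((h : G) * a * (h : G)⁻¹ * a⁻¹) * (a * (g : G)⁻¹ * a⁻¹) := by group
      _ = (h : G) * a * (h : G)⁻¹ * a⁻¹ * ((g : G) * a * (g : G)⁻¹ * a⁻¹) := by rw [hz]; group
      _ = _ := hz'.symm)

theorem cmodHom_eq_one {a : G} {g : cmod a} : cmodHom a g = 1 ↔ Commute (g : G) a := by
  rw [commute_iff_comm, Subtype.ext_iff]; rfl

/-- The hom trick: an element centralised modulo the centre by a non-solvable group is central. -/
theorem CA.isSolvable_cmod [Finite G] (h : CA G) {a : G} (ha : a ∉ center G) :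
    Group.IsSolvable (cmod a) := by
  haveI : Group.IsSolvable (cmodHom a).ker := Group.isSolvable_of_comm fun x y => Subtype.ext
    (Subtype.ext (h.commute ha (cmodHom_eq_one.1 x.2) (cmodHom_eq_one.1 y.2)))
  haveI : Group.IsSolvable (center G) := Group.isSolvable_of_comm fun x y =>
    Subtype.ext (mem_center_iff.1 y.2 x)
  exact Group.isSolvable_of_ker_le_range (cmodHom a).ker.subtype (cmodHom a)
    (by rw [range_subtype])

theorem solvable_of_le {H K : Subgroup G} (hle : H ≤ K) (h : Group.IsSolvable K) :
    Group.IsSolvable H := by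
  haveI := h
  exact Group.isSolvable_of_isSolvable_injective (inclusion_injective hle)

/-- A group with a normal Sylow `2`-subgroup is solvable. -/
theorem solvable_of_sylow_normal [Finite G] (S : Sylow 2 G) [(S : Subgroup G).Normal] :
    Group.IsSolvable G := by
  haveI : Fact (Nat.Prime 2) := ⟨Nat.prime_two⟩
  haveI : Group.IsSolvable (S : Subgroup G) := by haveI := S.2.isNilpotent; infer_instance
  haveI : Group.IsSolvable (G ⧸ (S : Subgroup G)) := CfsgLib.OddEnd.odd_solvable _ (by
    rw [← Subgroup.index_eq_card, Nat.odd_iff, ← Nat.two_dvd_ne_zero]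
    exact S.not_dvd_index)
  exact (Group.isSolvable_iff_subgroup_quotient (S : Subgroup G)).2 ⟨inferInstance, inferInstance⟩

/-- If the normaliser of a Sylow `2`-subgroup centralises it, the group is solvable. -/
theorem solvable_of_central_normalizer [Finite G] (S : Sylow 2 G)
    (h : ∀ s ∈ (S : Subgroup G), ∀ g ∈ normalizer ((S : Subgroup G) : Set G), Commute g s) :
    Group.IsSolvable G :=
  CfsgLib.GWApps.isSolvable_of_burnside S fun g hg =>
    mem_centralizer_iff.2 fun s hs => (h s hs g hg).eq.symm

/-- The standing hypothesis: not solvable, and all proper subgroups have abelian centralisers. -/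
structure Hyp (G : Type u) [Group G] : Prop where
  ns : ¬ Group.IsSolvable G
  proper : ∀ H : Subgroup G, H ≠ ⊤ → CAon H

theorem Hyp.ca (hG : Hyp G) {H : Subgroup G} (hH : H ≠ ⊤) : CA H := caon_iff.1 (hG.proper H hH)

end CfsgLib.MinNonCA
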