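import Cfsg.Agent.MinNonCA.PSLMore
import Cfsg.Agent.S0799
import Cfsg.Agent.S0265

/-!
# The listed groups `PSL₂(q)` are minimal non-solvable groups with a non-abelian centraliser
-/

set_option autoImplicit false
set_option linter.unusedSectionVars false

namespace CfsgLib.MinNonCA

open Subgroup
open CfsgLib.Linear.SmallSub (P2)

theorem ca_of_comm {X : Type*} [Group X] (h : ∀ a b : X, Commute a b) : CA X :=
  fun _ a b _ _ hab => absurd (h a b) hab

theorem ca_dihedral (k : ℕ) : CA (DihedralGroup k) := by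
  intro x a b ha hb hab
  have hrs : ∀ i j : ZMod k,
      Commute (DihedralGroup.r i) (DihedralGroup.sr j) ↔ i + i = 0 := fun i j => by
    rw [Commute, SemiconjBy, DihedralGroup.r_mul_sr, DihedralGroup.sr_mul_r, DihedralGroup.sr.injEq]
    exact ⟨fun h => by linear_combination -h, fun h => by linear_combination -h⟩
  have hss : ∀ i j : ZMod k,
      Commute (DihedralGroup.sr i) (DihedralGroup.sr j) ↔ (i - j) + (i - j) = 0 := fun i j => by
    rw [Commute, SemiconjBy, DihedralGroup.sr_mul_sr, DihedralGroup.sr_mul_sr, DihedralGroup.r.injEq]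
    exact ⟨fun h => by linear_combination -h, fun h => by linear_combination -h⟩
  have hrr : ∀ i j : ZMod k, Commute (DihedralGroup.r i) (DihedralGroup.r j) := fun i j => by
    rw [Commute, SemiconjBy, DihedralGroup.r_mul_r, DihedralGroup.r_mul_r, add_comm]
  cases x with
  | r i =>
    by_cases hi : i + i = 0
    · refine mem_center_iff.2 fun y => ?_
      cases y with
      | r j => exact hrr j i
      | sr j => exact ((hrs i j).2 hi).symm
    · exfalso
      cases a with
      | sr j => exact hi ((hrs i j).1 ha.symm)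
      | r j =>
        cases b with
        | sr l => exact hi ((hrs i l).1 hb.symm)
        | r l => exact hab (hrr j l)
  | sr i =>
    exfalso
    cases a with
    | r j =>
      cases b with
      | r l => exact hab (hrr j l)
      | sr l => exact hab ((hrs j l).2 ((hrs j i).1 ha))
    | sr j =>
      cases b with
      | r l => exact hab ((hrs l j).2 ((hrs l i).1 hb)).symm
      | sr l =>
        refine hab ((hss j l).2 ?_)
        linear_combination (hss j i).1 ha - (hss l i).1 hb

namespace PSL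

open CfsgLib.PSLBinary (upper)

variable {F : Type} [Field F] [Fintype F]

/-- The normaliser of the unipotent group has abelian centralisers of non-central elements. -/
theorem caon_normalizer_upper (hodd : Odd (Fintype.card F)) :
    CAon (normalizer (upper F : Set (P2 F))) := by
  intro x _ a ha b hb hax hbx hab y _
  by_cases hx1 : x = 1
  · subst hx1; exact Commute.one_right y
  exfalso
  apply hab
  by_cases hxx : x * x = 1
  · obtain ⟨U, m, -, -, -, -, hm2, hC, -, -⟩ := invol_shape hodd hxx hx1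
    set c := a * b * a⁻¹ * b⁻¹ with hcdef
    have hcU : c ∈ upper F := normalizer_upper_comm ha hb
    have hcC : c ∈ centralizer ({x} : Set (P2 F)) :=
      mem_centralizer_singleton_iff.2
        (((hax.mul_left hbx).mul_left hax.inv_left).mul_left hbx.inv_left).eq
    have h1 : orderOf c ∣ Fintype.card F := by
      have := orderOf_dvd_natCard (upper F) hcU
      rwa [CfsgLib.PSLBinary.card_upper, Nat.card_eq_fintype_card] at this
    have h2 : orderOf c ∣ 2 * m := hC ▸ orderOf_dvd_natCard _ hcC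
    have hpos : 0 < Fintype.card F := Fintype.card_pos
    have h3 : orderOf c ∣ 1 := by
      split_ifs at hm2 with h4
      · have h := Nat.dvd_sub h1 (hm2 ▸ h2)
        rwa [show Fintype.card F - (Fintype.card F - 1) = 1 by omega] at h
      · have h := Nat.dvd_sub (hm2 ▸ h2) h1
        rwa [Nat.add_sub_cancel_left] at h
    exact commute_iff_comm.2 (orderOf_eq_one_iff.1 (Nat.dvd_one.1 h3))
  · exact commute_cent (Or.inr hxx) hx1 hax hbx

end PSL

section Converse

open CfsgLib.PSLBinary (upper)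

variable {F : Type} [Field F] [Fintype F]

/-- What is used about the listed orders. -/
theorem listed_facts (h : ((Fintype.card F).Prime ∧ 5 < Fintype.card F ∧ ¬ 16 ∣ Fintype.card F ^ 2 - 1) ∨
      (∃ p : ℕ, p.Prime ∧ p ≠ 2 ∧ (Fintype.card F = 3 ^ p ∨ Fintype.card F = 5 ^ p))) :
    Odd (Fintype.card F) ∧ 7 ≤ Fintype.card F ∧ ¬ 16 ∣ Fintype.card F ^ 2 - 1 ∧
      ∀ c m : ℕ, c ^ m = Fintype.card F → c = 3 ∨ c = 5 ∨ c = Fintype.card F := by
  rcases h with ⟨hp, h5, h16⟩ | ⟨p, hp, hp2, h35⟩
  · have hodd := hp.odd_of_ne_two (by omega)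
    refine ⟨hodd, by obtain ⟨j, hj⟩ := hodd; omega, h16, fun c m hc => ?_⟩
    exact Or.inr (Or.inr (hp.pow_eq_iff.1 hc).1)
  · obtain ⟨j, hj⟩ : ∃ j, p = 2 * j + 1 := hp.odd_of_ne_two hp2
    have hj1 : 1 ≤ j := by have := hp.two_le; omega
    obtain ⟨r, hr, hr35, hF⟩ : ∃ r, r.Prime ∧ (r = 3 ∨ r = 5) ∧ Fintype.card F = r ^ p := by
      rcases h35 with h | h
      · exact ⟨3, Nat.prime_three, Or.inl rfl, h⟩
      · exact ⟨5, by norm_num, Or.inr rfl, h⟩
    have hp3 : 3 ≤ p := by omega
    refine ⟨hF ▸ (hr.odd_of_ne_two (by omega)).pow, ?_, ?_, fun c m hc => ?_⟩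
    · rw [hF]
      refine le_trans ?_ (Nat.pow_le_pow_right (by omega) hp3)
      rcases hr35 with rfl | rfl <;> norm_num
    · intro hd
      have h1 : 1 ≤ Fintype.card F ^ 2 := Nat.one_le_pow _ _ Fintype.card_pos
      have h2 : Fintype.card F ^ 2 % 16 = 1 := by omega
      rw [hF, ← pow_mul, hj, show (2 * j + 1) * 2 = 4 * j + 2 by ring, pow_add, pow_mul,
        Nat.mul_mod, Nat.pow_mod] at h2
      rcases hr35 with rfl | rfl <;> norm_num at h2
    · rw [hF] at hc
      have hdvd : c ∣ r ^ p := by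
        rcases Nat.eq_zero_or_pos m with rfl | hm
        · have h9 : 1 < r ^ p := Nat.one_lt_pow (by omega) hr.one_lt
          simp at hc
          omega
        · exact hc ▸ dvd_pow_self c (by omega)
      obtain ⟨i, -, rfl⟩ := (Nat.dvd_prime_pow hr).1 hdvd
      rw [← pow_mul] at hc
      have him := Nat.pow_right_injective hr.two_le hc
      rcases (Nat.dvd_prime hp).1 ⟨m, him.symm⟩ with rfl | rfl
      · rw [pow_one]; omega
      · exact Or.inr (Or.inr hF.symm)

theorem converse (h : ((Fintype.card F).Prime ∧ 5 < Fintype.card F ∧ ¬ 16 ∣ Fintype.card F ^ 2 - 1) ∨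
      (∃ p : ℕ, p.Prime ∧ p ≠ 2 ∧ (Fintype.card F = 3 ^ p ∨ Fintype.card F = 5 ^ p))) :
    ¬ Group.IsSolvable (P2 F) ∧ ¬ CA (P2 F) ∧ ∀ H : Subgroup (P2 F), H ≠ ⊤ → CA H := by
  classical
  obtain ⟨hodd, h7, h16, hsub⟩ := listed_facts h
  obtain ⟨hsimple, hns⟩ := simple_psl (F := F) (by omega)
  haveI := hsimple
  refine ⟨hns, fun hca => ?_, fun H hH => ?_⟩
  · obtain ⟨v, hv, hv1⟩ := PSL.exists_invol (F := F) hodd
    obtain ⟨a, b, ha, hb, hab⟩ := PSL.invol_not_comm hodd h7 hv hv1
    have hvc := hca v a b ha hb hab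
    rcases (inferInstance : (center (P2 F)).Normal).eq_bot_or_eq_top with e | e
    · exact hv1 (mem_bot.1 (e ▸ hvc))
    · exact hns (Group.isSolvable_of_comm fun x y => mem_center_iff.1 (e ▸ mem_top y) x)
  · have h8 : ¬ 8 ∣ Nat.card H := fun h8 => h16 (by
      have h1 := h8.trans H.card_subgroup_dvd_card
      have h2 : 16 ∣ Fintype.card F * (Fintype.card F ^ 2 - 1) := by
        rw [← CfsgLib.PSL2Classes.card_P2_mul hodd]
        exact (show 16 = 2 * 8 by rfl) ▸ Nat.mul_dvd_mul_left 2 h1
      exact ((Nat.coprime_two_left.2 hodd).pow_left 4).dvd_of_dvd_mul_left h2)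
    obtain ⟨r, hchar⟩ := CharP.exists F
    haveI : Fact r.Prime := ⟨CharP.char_is_prime F r⟩
    rcases Cfsg.Agent.S0799.result (F := F) rfl r H with ⟨k, -, ⟨hc, -⟩ | ⟨⟨e⟩⟩⟩ | ⟨P, K, hK, ⟨e⟩⟩ |
      ⟨⟨e⟩⟩ | ⟨⟨e⟩⟩ | ⟨⟨e⟩⟩ | ⟨K, iK, iKF, m, hm, hiso⟩
    · haveI := hc
      exact ca_of_comm fun a b => (IsCyclic.commutative (α := H)).is_comm.comm a b
    · exact ca_of_mulEquiv e.symm (ca_dihedral k)
    · refine ca_of_mulEquiv e.symm ?_
      obtain ⟨P₀, hP₀⟩ := CfsgLib.PSLBinary.exists_sylow_upper (F := F) r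
      obtain ⟨c, hc⟩ := MulAction.exists_smul_eq (P2 F) P P₀
      set φ : P2 F ≃* P2 F := MulAut.conj c
      have hle : K.map φ.toMonoidHom ≤ normalizer (upper F : Set (P2 F)) := by
        rw [← hP₀, ← hc, Sylow.coe_subgroup_smul]
        refine (map_mono hK).trans (le_of_eq ?_)
        rw [map_normalizer_eq_of_bijective _ φ.bijective]
        rfl
      exact ca_of_mulEquiv (K.equivMapOfInjective φ.toMonoidHom φ.injective).symm
        (caon_iff.1 ((PSL.caon_normalizer_upper hodd).mono hle))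
    · obtain ⟨e3⟩ := CfsgLib.Linear.Small.nonempty_psl_two_three (F := ZMod 3) (ZMod.card 3)
      exact ca_of_mulEquiv (e3.trans e.symm) (PSL.ca_three_five (Or.inl (ZMod.card 3)))
    · exfalso
      refine h8 ?_
      rw [Nat.card_congr e.toEquiv, Nat.card_perm, Nat.card_fin]
      decide
    · haveI : Fact (Nat.Prime 5) := ⟨by norm_num⟩
      obtain ⟨e5⟩ := CfsgLib.Linear.Small.nonempty_psl_two_five (F := ZMod 5) (ZMod.card 5)
      exact ca_of_mulEquiv (e5.trans e.symm) (PSL.ca_three_five (Or.inr (ZMod.card 5)))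
    · letI := iK
      letI := iKF
      have hKodd : Odd (Fintype.card K) := by
        rcases hsub _ m hm with h' | h' | h'
        · rw [h']; decide
        · rw [h']; decide
        · rwa [h']
      rcases hiso with ⟨⟨e⟩⟩ | ⟨⟨e⟩⟩
      · rcases hsub _ m hm with h' | h' | h'
        · exact ca_of_mulEquiv e.symm (PSL.ca_three_five (Or.inl h'))
        · exact ca_of_mulEquiv e.symm (PSL.ca_three_five (Or.inr h'))
        · refine absurd (eq_top_of_card_eq H ?_) hH
          have h1 := CfsgLib.PSL2Classes.card_P2_mul hKodd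
          rw [h', ← CfsgLib.PSL2Classes.card_P2_mul hodd] at h1
          rw [Nat.card_congr e.toEquiv]
          exact Nat.eq_of_mul_eq_mul_left two_pos h1
      · exfalso
        refine h8 ?_
        rw [Nat.card_congr e.toEquiv, Cfsg.Agent.S0265.result (F := K) 2, CfsgLib.SL2C.card_SL2_mul]
        refine Dvd.dvd.mul_left ?_ _
        obtain ⟨j, hj⟩ := hKodd
        obtain ⟨l, hl⟩ := Nat.even_mul_succ_self j
        refine ⟨l, ?_⟩
        rw [hj, show (2 * j + 1) ^ 2 = 4 * (j * (j + 1)) + 1 by ring, hl, Nat.add_sub_cancel]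
        ring

end Converse

end CfsgLib.MinNonCA
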