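import Cfsg.Agent.MinNonCA.Quasi
import Cfsg.Agent.MinNonCA.SimpleLift
import Cfsg.Agent.MinNonCA.SzCover

/-!
# The excluded simple quotients: `PSL₃(4)`, `A₇` and the Suzuki groups
-/

set_option autoImplicit false
set_option linter.unusedSectionVars false
set_option linter.style.haveILetI false

namespace CfsgLib.MinNonCA

open Subgroup
open scoped Pointwise

universe u

variable {G : Type u} [Group G]

namespace Quasi

variable [Finite G] (Q : Quasi G)

include Q

/-- No `PSL₃(4)`: its parabolic subgroups have non-central solvable normal subgroups. -/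
theorem no_radical {X : Type*} [Group X] (π : G →* X) (hπ : Function.Surjective π)
    (hc : π.ker ≤ center G) {P N : Subgroup X} (hP : P ≠ ⊤) (hNP : N ≤ P)
    (hN : ∀ p ∈ P, ∀ n ∈ N, p * n * p⁻¹ ∈ N) (hNc : ∀ a ∈ N, ∀ b ∈ N, Commute a b)
    (hns : ¬ Group.IsSolvable P) {p n : X} (hp : p ∈ P) (hn : n ∈ N) (hne : ¬ Commute p n) :
    False := by
  set Y := P.comap π
  have hY : Y ≠ ⊤ := fun e => hP (by
    rw [← map_comap_eq_self_of_surjective hπ P]
    show Y.map π = ⊤
    rw [e, map_top_of_surjective _ hπ])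
  have hYns : ¬ Group.IsSolvable Y := fun hs => hns (by
    haveI := hs
    exact Group.isSolvable_of_surjective (G := Y) (f := π.subgroupComap P)
      (MonoidHom.subgroupComap_surjective_of_surjective _ _ hπ))
  set f := π.subgroupComap P
  set M := (N.subgroupOf P).comap f
  haveI : (N.subgroupOf P).Normal := ⟨fun m hm g => hN g g.2 m hm⟩
  haveI : M.Normal := inferInstanceAs ((N.subgroupOf P).comap f).Normal
  haveI hMs : Group.IsSolvable M := by
    haveI : Group.IsSolvable (N.subgroupOf P) :=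
      Group.isSolvable_of_comm fun a b => Subtype.ext (Subtype.ext (hNc _ a.2 _ b.2).eq)
    haveI : Group.IsSolvable f.ker := Group.isSolvable_of_comm fun a b =>
      Subtype.ext (Subtype.ext (mem_center_iff.1 (hc (show π ((b : Y) : G) = 1 from
        congrArg Subtype.val (MonoidHom.mem_ker.1 b.2))) ((a : Y) : G)))
    refine Group.isSolvable_of_ker_le_range (Subgroup.inclusion
      (show f.ker ≤ M from fun x hx => by
        rw [mem_comap, MonoidHom.mem_ker.1 hx]; exact one_mem _)) (f.subgroupComap (N.subgroupOf P))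
      fun x hx => ⟨⟨x, congrArg Subtype.val (MonoidHom.mem_ker.1 hx)⟩, rfl⟩
  obtain ⟨n', rfl⟩ := hπ n
  obtain ⟨p', rfl⟩ := hπ p
  have hn' : (⟨n', hNP hn⟩ : Y) ∈ M := hn
  have := mem_center_iff.1 ((Q.ca hY).radical hYns M hMs hn') ⟨p', hp⟩
  exact hne ((show Commute p' n' from congrArg Subtype.val this).map π)

theorem not_psl_three {F : Type} [Field F] [Fintype F] (hF : Fintype.card F = 4) {X : Type*}
    [Group X] (e : X ≃* Matrix.ProjectiveSpecialLinearGroup (Fin 3) F) (π : G →* X)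
    (hπ : Function.Surjective π) (hc : π.ker ≤ center G) : False := by
  classical
  set q : (Matrix.SpecialLinearGroup (Fin 3) F) →* Matrix.ProjectiveSpecialLinearGroup (Fin 3) F := QuotientGroup.mk' _ with hq
  set π' := e.toMonoidHom.comp π
  have hπ' : Function.Surjective π' := e.surjective.comp hπ
  have hc' : π'.ker ≤ center G := (MonoidHom.ker_mulEquiv_comp π e).le.trans hc
  let P : Subgroup (Matrix.SpecialLinearGroup (Fin 3) F) :=
    { carrier := {A | A.1 1 0 = 0 ∧ A.1 2 0 = 0}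
      one_mem' := by simp
      mul_mem' := fun {A B} hA hB => by
        simp only [Set.mem_setOf_eq, Matrix.SpecialLinearGroup.coe_mul, Matrix.mul_apply,
          Fin.sum_univ_three] at *
        simp [hA.1, hA.2, hB.1, hB.2]
      inv_mem' := fun {A} hA => by
        simp only [Set.mem_setOf_eq, Matrix.SpecialLinearGroup.coe_inv] at *
        simp [Matrix.adjugate_fin_three, hA.1, hA.2] }
  let N : Subgroup (Matrix.SpecialLinearGroup (Fin 3) F) :=
    { carrier := {A | A.1 1 0 = 0 ∧ A.1 2 0 = 0 ∧ A.1 0 0 = 1 ∧ A.1 1 1 = 1 ∧ A.1 1 2 = 0 ∧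
        A.1 2 1 = 0 ∧ A.1 2 2 = 1}
      one_mem' := by simp
      mul_mem' := fun {A B} hA hB => by
        simp only [Set.mem_setOf_eq, Matrix.SpecialLinearGroup.coe_mul, Matrix.mul_apply,
          Fin.sum_univ_three] at *
        obtain ⟨a1, a2, a3, a4, a5, a6, a7⟩ := hA
        obtain ⟨b1, b2, b3, b4, b5, b6, b7⟩ := hB
        simp [a1, a2, a3, a4, a5, a6, a7, b1, b2, b3, b4, b5, b6, b7]
      inv_mem' := fun {A} hA => by
        simp only [Set.mem_setOf_eq, Matrix.SpecialLinearGroup.coe_inv] at *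
        obtain ⟨a1, a2, a3, a4, a5, a6, a7⟩ := hA
        simp [Matrix.adjugate_fin_three, a1, a2, a3, a4, a5, a6, a7] }
  have hNP : N ≤ P := fun A hA => ⟨hA.1, hA.2.1⟩
  -- the Levi part
  let j : Matrix.SpecialLinearGroup (Fin 2) F →* (Matrix.SpecialLinearGroup (Fin 3) F) :=
    { toFun := fun A => ⟨!![1, 0, 0; 0, A.1 0 0, A.1 0 1; 0, A.1 1 0, A.1 1 1], by
        have := A.2
        rw [Matrix.det_fin_two] at this
        simp [Matrix.det_fin_three]
        linear_combination this⟩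
      map_one' := by ext i j; fin_cases i <;> fin_cases j <;> simp
      map_mul' := fun A B => by
        apply Subtype.ext
        show (!![1, 0, 0; 0, (A.1 * B.1) 0 0, (A.1 * B.1) 0 1;
            0, (A.1 * B.1) 1 0, (A.1 * B.1) 1 1] : Matrix (Fin 3) (Fin 3) F) =
          (!![1, 0, 0; 0, A.1 0 0, A.1 0 1; 0, A.1 1 0, A.1 1 1] : Matrix (Fin 3) (Fin 3) F) *
            !![1, 0, 0; 0, B.1 0 0, B.1 0 1; 0, B.1 1 0, B.1 1 1]
        ext i j
        fin_cases i <;> fin_cases j <;>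
          simp [Matrix.mul_apply, Fin.sum_univ_three, Fin.sum_univ_two] }
  have hj : ∀ A, (j A).1 =
      !![1, 0, 0; 0, A.1 0 0, A.1 0 1; 0, A.1 1 0, A.1 1 1] := fun A => rfl
  have hjP : ∀ A, j A ∈ P := fun A => ⟨by rw [hj]; simp, by rw [hj]; simp⟩
  have hcen : ∀ {Z : (Matrix.SpecialLinearGroup (Fin 3) F)}, Z ∈ center (Matrix.SpecialLinearGroup (Fin 3) F) → ∀ i k, i ≠ k → Z.1 i k = 0 := by
    intro Z hZ i k hik
    obtain ⟨r, -, hr⟩ := Matrix.SpecialLinearGroup.mem_center_iff.1 hZ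
    rw [← hr]
    simp [hik]
  refine Q.no_radical π' hπ' hc' (P := P.map q) (N := N.map q) ?_ (map_mono hNP) ?_ ?_ ?_
    (p := q (j ⟨!![1, 1; 0, 1], by simp [Matrix.det_fin_two]⟩))
    (n := q ⟨!![1, 1, 0; 0, 1, 0; 0, 0, 1], by simp [Matrix.det_fin_three]⟩)
    (mem_map_of_mem _ (hjP _))
    (mem_map_of_mem _ ⟨by simp, by simp, by simp, by simp, by simp, by simp, by simp⟩) ?_
  · intro etop
    let w : Matrix.SpecialLinearGroup (Fin 3) F :=
      ⟨!![0, 1, 0; 0, 0, 1; 1, 0, 0], by simp [Matrix.det_fin_three]⟩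
    obtain ⟨A, hA, hAq⟩ : q w ∈ P.map q := etop ▸ mem_top _
    have hz := hcen ((QuotientGroup.eq (s := center (Matrix.SpecialLinearGroup (Fin 3) F))).1 hAq)
    set Z := A⁻¹ * w with hZ
    have h1 : (A * Z).1 2 0 = 1 := by rw [hZ, mul_inv_cancel_left]; simp [w]
    rw [Matrix.SpecialLinearGroup.coe_mul, Matrix.mul_apply, Fin.sum_univ_three,
      hz 1 0 (by decide), hz 2 0 (by decide), hA.2] at h1
    simp at h1
  · rintro _ ⟨A, hA, rfl⟩ _ ⟨B, hB, rfl⟩
    rw [← map_inv, ← map_mul, ← map_mul]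
    refine mem_map_of_mem _ ?_
    obtain ⟨a1, a2⟩ := hA
    obtain ⟨b1, b2, b3, b4, b5, b6, b7⟩ := hB
    have hdet := A.2
    rw [Matrix.det_fin_three, a1, a2] at hdet
    simp only [N, Subgroup.mem_mk, Submonoid.mem_mk, Subsemigroup.mem_mk, Set.mem_setOf_eq,
      Matrix.SpecialLinearGroup.coe_mul, Matrix.SpecialLinearGroup.coe_inv, Matrix.mul_apply,
      Fin.sum_univ_three, Matrix.adjugate_fin_three]
    simp [a1, a2, b1, b2, b3, b4, b5, b6, b7]
    refine ⟨?_, ?_, ?_, ?_, ?_⟩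
    all_goals first | ring1 | linear_combination hdet
  · rintro _ ⟨A, hA, rfl⟩ _ ⟨B, hB, rfl⟩
    refine (show Commute A B from ?_).map q
    obtain ⟨a1, a2, a3, a4, a5, a6, a7⟩ := hA
    obtain ⟨b1, b2, b3, b4, b5, b6, b7⟩ := hB
    refine Subtype.ext ?_
    ext i k
    fin_cases i <;> fin_cases k <;>
      simp [Matrix.mul_apply, Fin.sum_univ_three, a1, a2, a3, a4, a5, a6, a7, b1, b2, b3, b4, b5,
        b6, b7, add_comm]
  · intro hs
    obtain ⟨-, hns⟩ := simple_psl (F := F) (by omega)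
    apply hns
    haveI := hs
    let f : Matrix.SpecialLinearGroup (Fin 2) F →* P.map q :=
      (q.comp j).codRestrict _ fun A => mem_map_of_mem _ (hjP A)
    have hf : Function.Injective f := by
      rw [injective_iff_map_eq_one]
      intro A hA
      have hz : j A ∈ center (Matrix.SpecialLinearGroup (Fin 3) F) :=
        (QuotientGroup.eq_one_iff _).1 (congrArg Subtype.val hA)
      obtain ⟨r, -, hr⟩ := Matrix.SpecialLinearGroup.mem_center_iff.1 hz
      rw [hj] at hr
      have r1 : r = 1 := by simpa using congrFun (congrFun hr 0) 0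
      subst r1
      ext i k
      have := congrFun (congrFun hr i.succ) k.succ
      fin_cases i <;> fin_cases k <;> simpa using this.symm
    haveI := Group.isSolvable_of_isSolvable_injective hf
    exact Group.isSolvable_of_surjective (f := CfsgLib.Linear.SmallSub.proj (F := F))
      (QuotientGroup.mk'_surjective _)
  · intro hcomm
    let x := j ⟨!![1, 1; 0, 1], by simp [Matrix.det_fin_two]⟩
    let y : Matrix.SpecialLinearGroup (Fin 3) F :=
      ⟨!![1, 1, 0; 0, 1, 0; 0, 0, 1], by simp [Matrix.det_fin_three]⟩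
    have hxy : q (x * y) = q (y * x) := by rw [map_mul, map_mul]; exact hcomm.eq
    obtain ⟨r, -, hr⟩ := Matrix.SpecialLinearGroup.mem_center_iff.1
      ((QuotientGroup.eq (s := center (Matrix.SpecialLinearGroup (Fin 3) F))).1 hxy)
    have h1 : (x * y).1 * Matrix.scalar (Fin 3) r = (y * x).1 := by
      rw [hr, ← Matrix.SpecialLinearGroup.coe_mul, mul_inv_cancel_left]
    change (!![1, 0, 0; 0, 1, 1; 0, 0, 1] : Matrix (Fin 3) (Fin 3) F) *
        !![1, 1, 0; 0, 1, 0; 0, 0, 1] * Matrix.scalar (Fin 3) r =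
      (!![1, 1, 0; 0, 1, 0; 0, 0, 1] : Matrix (Fin 3) (Fin 3) F) *
        !![1, 0, 0; 0, 1, 1; 0, 0, 1] at h1
    have h := congrFun (congrFun h1 0) 2
    simp [Matrix.mul_apply, Fin.sum_univ_three] at h

theorem not_alt_seven {X : Type*} [Group X] (e : X ≃* ↥(alternatingGroup (Fin 7))) (π : G →* X)
    (hπ : Function.Surjective π) (hc : π.ker ≤ center G) : False := by
  set π' := e.toMonoidHom.comp π
  have hπ' : Function.Surjective π' := e.surjective.comp hπ
  have hc' : π'.ker ≤ center G := (MonoidHom.ker_mulEquiv_comp π e).le.trans hc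
  let B : Subgroup ↥(alternatingGroup (Fin 7)) :=
    { carrier := {g | ∀ i : Fin 7, ((g : Equiv.Perm (Fin 7)) i).val < 4 ↔ i.val < 4}
      one_mem' := fun i => Iff.rfl
      mul_mem' := fun {g h} hg hh i => (hg _).trans (hh i)
      inv_mem' := fun {g} hg i => by
        have := hg ((g : Equiv.Perm (Fin 7))⁻¹ i)
        rw [← Equiv.Perm.mul_apply, mul_inv_cancel] at this
        exact this.symm }
  let c : ↥(alternatingGroup (Fin 7)) := ⟨Equiv.swap 0 3 * Equiv.swap 0 1 * Equiv.swap 0 2 *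
    Equiv.swap 4 5, Equiv.Perm.mem_alternatingGroup.2 (by decide)⟩
  let b : ↥(alternatingGroup (Fin 7)) :=
    ⟨Equiv.swap 0 2 * Equiv.swap 1 3, Equiv.Perm.mem_alternatingGroup.2 (by decide)⟩
  let x : ↥(alternatingGroup (Fin 7)) :=
    ⟨Equiv.swap 4 5 * Equiv.swap 5 6, Equiv.Perm.mem_alternatingGroup.2 (by decide)⟩
  let r : ↥(alternatingGroup (Fin 7)) :=
    ⟨Equiv.swap 0 1 * Equiv.swap 4 5, Equiv.Perm.mem_alternatingGroup.2 (by decide)⟩
  let d : ↥(alternatingGroup (Fin 7)) :=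
    ⟨Equiv.swap 0 1 * Equiv.swap 1 2, Equiv.Perm.mem_alternatingGroup.2 (by decide)⟩
  have hB : c ∈ B ∧ b ∈ B ∧ x ∈ B ∧ r ∈ B ∧ d ∈ B := by
    refine ⟨?_, ?_, ?_, ?_, ?_⟩ <;> (intro i; revert i; decide)
  obtain ⟨hcB, hbB, hxB, hrB, hdB⟩ := hB
  set Y := B.comap π'
  have hY : Y ≠ ⊤ := fun e' => by
    obtain ⟨g, hg⟩ := hπ' ⟨Equiv.swap 0 4 * Equiv.swap 1 2,
      Equiv.Perm.mem_alternatingGroup.2 (by decide)⟩
    have h1 : π' g ∈ B := (e' ▸ mem_top g : g ∈ Y)
    rw [hg] at h1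
    exact absurd (h1 0) (by decide)
  obtain ⟨c', hc1, k, hck⟩ := exists_lift π' hπ' Nat.prime_two (v := c) (k := 2) (by decide)
  obtain ⟨b', hb1, l, hbl⟩ := exists_lift π' hπ' Nat.prime_two (v := b) (k := 1) (by decide)
  obtain ⟨x', hx1, j, hxj⟩ := exists_lift π' hπ' Nat.prime_three (v := x) (k := 1) (by decide)
  obtain ⟨r', hr1⟩ := hπ' r
  obtain ⟨d', hd1⟩ := hπ' d
  have hmem : ∀ {g : G} {y}, π' g = y → y ∈ B → g ∈ Y := fun h hy => by
    rw [mem_comap, h]; exact hy
  have hne : ∀ {g h : G} {y z}, π' g = y → π' h = z → ¬ y * z = z * y → ¬ Commute g h :=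
    fun h1 h2 hn e => hn (by rw [← h1, ← h2, ← map_mul, e.eq, map_mul])
  have hcop : ∀ {g : G} {y i}, π' g = y → g ^ 2 ^ i = 1 → y * x = x * y → Commute g x' :=
    fun {g y i} h1 h2 hyx => commute_of_coprime h2 hxj (Nat.Coprime.pow _ _ (by norm_num))
      (hc' (by rw [MonoidHom.mem_ker, map_mul, map_mul, map_mul, map_inv, map_inv, h1, hx1, hyx,
        mul_inv_cancel_right, mul_inv_cancel]))
  have hcc : π' (c' * c') = c * c := by rw [map_mul, hc1]
  have hcck : (c' * c') ^ 2 ^ k = 1 := by rw [← pow_two, ← pow_mul, mul_comm, pow_mul, hck, one_pow]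
  have hCA := Q.proper Y hY
  have hab : Commute (c' * c') b' := hCA.commute (hmem hx1 hxB) (hmem hr1 hrB)
    (hne hr1 hx1 (by decide)) (hmem hcc (mul_mem hcB hcB)) (hmem hb1 hbB)
    (hcop hcc hcck (by decide)) (hcop hb1 hbl (by decide))
  refine hne hb1 hc1 (by decide) (hCA.commute (hmem hcc (mul_mem hcB hcB)) (hmem hd1 hdB)
    (hne hd1 hcc (by decide)) (hmem hb1 hbB) (hmem hc1 hcB) hab.symm ?_)
  exact (Commute.refl c').mul_right (Commute.refl c')

theorem not_suzuki {X : Type*} [Group X] (hX : Cfsg.Lie.IsoSuzuki X) (π : G →* X)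
    (hπ : Function.Surjective π) (hc : π.ker ≤ center G) : False := by
  obtain ⟨F, _, _, m, hm, hF, ⟨e⟩⟩ := hX
  have h := CfsgLib.Suzuki.isSzField_of_card hm hF
  set σ := (e.trans (CfsgLib.Suzuki.lieEquiv h).symm).toMonoidHom.comp π
  have hσ : Function.Surjective σ := (e.trans (CfsgLib.Suzuki.lieEquiv h).symm).surjective.comp hπ
  refine sz_false h Q.perf σ hσ
    ((MonoidHom.ker_mulEquiv_comp π (e.trans (CfsgLib.Suzuki.lieEquiv h).symm)).le.trans hc) (Q.proper _ fun e' => ?_)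
  refine CfsgLib.Suzuki.borel_ne_top h ?_
  rw [← map_comap_eq_self_of_surjective hσ (CfsgLib.Suzuki.borel F m), e',
    map_top_of_surjective _ hσ]

end Quasi

end CfsgLib.MinNonCA
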