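import Cfsg.Agent.MinNonCA.Simple
import Cfsg.Agent.MinNonCA.AlmostSimple

/-!
# The non-solvable minimal groups without abelian centralisers
-/

set_option autoImplicit false
set_option linter.unusedSectionVars false

namespace CfsgLib.MinNonCA

open CfsgLib.Linear.SmallSub (P2)

universe u

theorem forward {G : Type u} [Group G] [Finite G] (hG : Hyp G) (hnca : ¬ CA G) :
    ∃ (F : Type) (_ : Field F) (_ : Fintype F), Nonempty (G ≃* P2 F) ∧
      (((Fintype.card F).Prime ∧ 5 < Fintype.card F ∧ ¬ 16 ∣ Fintype.card F ^ 2 - 1) ∨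
       (∃ p : ℕ, p.Prime ∧ p ≠ 2 ∧ (Fintype.card F = 3 ^ p ∨ Fintype.card F = 5 ^ p))) :=
  (hG.quasi (by_contra fun h => hnca (hG.ca_of_not_perfect h))).classify hnca

end CfsgLib.MinNonCA
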