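import Cfsg.Agent.MinNonCA.Structure
import Cfsg.Agent.GLElem.PSL2Classes
import Cfsg.Agent.PSLBinary.Unipotent

/-!
# Centralisers and normalisers in `PSL₂(q)`
-/

set_option autoImplicit false
set_option linter.unusedSectionVars false
set_option linter.style.haveILetI false

namespace CfsgLib.MinNonCA.PSL

open Subgroup Matrix
open CfsgLib.SL2C
open CfsgLib.Linear.SmallSub (proj P2)
open CfsgLib.Linear.FourGroups (proj_surj proj_eq_one proj_involution_iff sq_of_trace_zero)
open CfsgLib.PSLBinary (uu pm upper ll)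

variable {F : Type} [Field F] [Fintype F]

/-- Away from involutions in odd characteristic, centralisers are abelian. -/
theorem commute_cent {g a b : P2 F} (h : (2 : F) = 0 ∨ g * g ≠ 1) (hg : g ≠ 1)
    (ha : Commute a g) (hb : Commute b g) : Commute a b := by
  obtain ⟨g, rfl⟩ := proj_surj g
  obtain ⟨a, rfl⟩ := proj_surj a
  obtain ⟨b, rfl⟩ := proj_surj b
  have ht : (2 : F) = 0 ∨ (mt g).trace ≠ 0 := h.imp_right fun hgg ht => hgg (by
    rw [← map_mul, proj_eq_one, sq_of_trace_zero ht]; exact negOne_mem_center)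
  have hgc : g ∉ center (SL F) := fun e => hg (proj_eq_one.2 e)
  exact (show Commute a b from commute_of_commute hgc
    (PSL2Classes.commute_of_proj ht ha.eq).symm (PSL2Classes.commute_of_proj ht hb.eq).symm).map proj

/-- In the centraliser of `g`, only `g` and `g⁻¹` have the trace of `g`. -/
theorem eq_or_eq_inv {g y : SL F} (hg : g ∉ center (SL F)) (h : g * y = y * g)
    (ht : (mt y).trace = (mt g).trace) (h4 : (mt g).trace ^ 2 ≠ 4) : y = g ∨ y = g⁻¹ := by
  obtain ⟨a, b, hab⟩ := exists_of_commute hg h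
  set t := (mt g).trace with htdef
  have h1 : a ^ 2 + a * b * t + b ^ 2 = 1 := by
    have := det_mt y
    rw [hab, det_smul_add_smul, det_mt] at this
    linear_combination this
  have h2 : 2 * a + b * t = t := by
    rw [hab] at ht
    simp [Matrix.trace_fin_two] at ht
    have hS : t = mt g 0 0 + mt g 1 1 := Matrix.trace_fin_two _
    linear_combination ht + b * hS
  have key : (b = 1 ∧ a = 0) ∨ (b = -1 ∧ a = t) := by
    by_cases h20 : (2 : F) = 0
    · have ht0 : t ≠ 0 := fun e => h4 (by rw [e]; linear_combination -2 * h20)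
      have hb : b = 1 := mul_right_cancel₀ ht0 (by linear_combination h2 - a * h20)
      subst hb
      rcases mul_eq_zero.1 (show a * (a + t) = 0 by linear_combination h1) with e | e
      · exact Or.inl ⟨rfl, e⟩
      · exact Or.inr ⟨by linear_combination h20, by linear_combination e - t * h20⟩
    · have h3 : (b - 1) * ((b + 1) * (t ^ 2 - 4)) = 0 := by
        linear_combination (2 * a + t * (b + 1)) * h2 - 4 * h1
      rcases mul_eq_zero.1 h3 with e | e
      · obtain rfl : b = 1 := sub_eq_zero.1 e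
        exact Or.inl ⟨rfl, (mul_eq_zero.1 (show (2 : F) * a = 0 by
          linear_combination h2)).resolve_left h20⟩
      · obtain rfl : b = -1 := eq_neg_of_add_eq_zero_left
          ((mul_eq_zero.1 e).resolve_right (sub_ne_zero.2 h4))
        exact Or.inr ⟨rfl, mul_left_cancel₀ h20 (by linear_combination h2)⟩
  rcases key with ⟨rfl, rfl⟩ | ⟨rfl, rfl⟩
  · exact Or.inl (mt_injective (by rw [hab, zero_smul, one_smul, zero_add]))
  · refine Or.inr (mt_injective ?_)
    rw [mt_inv, hab, neg_one_smul, ← sub_eq_add_neg]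

/-- A non-central element is parabolic, or semisimple with cyclic centraliser and conjugate to its
inverse. -/
theorem sl_cases {g : SL F} (hg : g ∉ center (SL F)) :
    (∃ (c : SL F) (e : Fˣ) (b : F), e * e = 1 ∧ b ≠ 0 ∧ c * g * c⁻¹ = bor e b) ∨
      (IsCyclic (centralizer ({g} : Set (SL F))) ∧ (mt g).trace ^ 2 ≠ 4 ∧
        ∃ n, n * g * n⁻¹ = g⁻¹) := by
  rcases cases4 g with h | ⟨a, ha, h⟩ | ⟨e, b, he, hb, h⟩ | h
  · exact absurd h hg
  · right
    have hT : centralizer ({dg a} : Set (SL F)) = (dg : Fˣ →* SL F).range := by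
      ext x
      rw [mem_centralizer_dg ha]
      exact ⟨fun ⟨u, hu⟩ => ⟨u, hu.symm⟩, fun ⟨u, hu⟩ => ⟨u, hu.symm⟩⟩
    obtain ⟨c, hc⟩ := isConj_iff.1 h
    have hmap : centralizer ({g} : Set (SL F)) =
        (centralizer ({dg a} : Set (SL F))).map (MulAut.conj c).toMonoidHom := by
      ext x
      rw [mem_map_equiv, MulAut.conj_symm_apply, mem_centralizer_singleton_iff,
        mem_centralizer_singleton_iff, ← hc]
      constructor <;> intro e
      · calc c⁻¹ * x * c * dg a = c⁻¹ * (x * (c * dg a * c⁻¹)) * c := by group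
          _ = c⁻¹ * (c * dg a * c⁻¹ * x) * c := by rw [e]
          _ = _ := by group
      · calc x * (c * dg a * c⁻¹) = c * (c⁻¹ * x * c * dg a) * c⁻¹ := by group
          _ = c * (dg a * (c⁻¹ * x * c)) * c⁻¹ := by rw [e]
          _ = _ := by group
    refine ⟨?_, ?_, ?_⟩
    · haveI : IsCyclic (centralizer ({dg a} : Set (SL F))) := by
        rw [hT]; exact isCyclic_of_surjective _ dg.rangeRestrict_surjective
      rw [hmap]
      exact isCyclic_of_surjective _
        ((MulAut.conj c).toMonoidHom.subgroupMap_surjective (centralizer ({dg a} : Set (SL F))))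
    · rw [← trace_eq_of_isConj h, mt_dg, Matrix.trace_fin_two]
      simp only [Matrix.cons_val', Matrix.cons_val_zero, Matrix.cons_val_one,
        Matrix.empty_val', Matrix.cons_val_fin_one, Matrix.of_apply]
      intro e
      have h0 : ((a : F) - ((a⁻¹ : Fˣ) : F)) ^ 2 = 0 := by
        have h1 : (a : F) * ((a⁻¹ : Fˣ) : F) = 1 := by simp
        linear_combination e - 4 * h1
      refine ha (eq_inv_iff_mul_eq_one.1 (Units.ext ?_))
      exact sub_eq_zero.1 (pow_eq_zero_iff two_ne_zero |>.1 h0)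
    · let w : SL F := ⟨!![0, 1; -1, 0], by simp [Matrix.det_fin_two_of]⟩
      have hw : w * dg a = dg a⁻¹ * w := by
        apply mt_injective
        rw [mt_mul, mt_mul, mt_dg, mt_dg]
        ext i j
        fin_cases i <;> fin_cases j <;> simp [w, Matrix.mul_apply, Fin.sum_univ_two]
      refine ⟨c * w * c⁻¹, ?_⟩
      rw [← hc, show c * w * c⁻¹ * (c * dg a * c⁻¹) * (c * w * c⁻¹)⁻¹ =
        c * (w * dg a) * w⁻¹ * c⁻¹ by group, hw, map_inv]
      group
  · left
    obtain ⟨c, hc⟩ := isConj_iff.1 h.symm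
    exact ⟨c, e, b, he, hb, hc⟩
  · right
    obtain ⟨w, hw⟩ := exists_inverting h
    refine ⟨isCyclic_tor h, fun e => ?_, w⁻¹, by rw [inv_inv]; exact hw⟩
    by_cases h2 : (2 : F) = 0
    · have ht : (mt g).trace = 0 := by
        have : (mt g).trace ^ 2 = 0 := by linear_combination e + 2 * h2
        exact pow_eq_zero_iff two_ne_zero |>.1 this
      refine h.det_smul_add_smul_ne_zero (a := 1) (b := 1) (Or.inl one_ne_zero) ?_
      rw [det_smul_add_smul, det_mt, ht]
      linear_combination h2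
    · refine h.det_smul_add_smul_ne_zero (a := (mt g).trace) (b := -2)
        (Or.inr (by simpa using h2)) ?_
      rw [det_smul_add_smul, det_mt]
      linear_combination -e

/-- A cyclic self-centralising subgroup of index two in its normaliser. -/
structure Torus (T : Subgroup (P2 F)) : Prop where
  cyc : IsCyclic T
  three : 3 ≤ Nat.card T
  half : ∃ n, n ∉ T ∧ (∀ t ∈ T, n * t * n⁻¹ ∈ T) ∧
    ∀ m, (∀ t ∈ T, m * t * m⁻¹ ∈ T) → m ∈ T ∨ n⁻¹ * m ∈ T

theorem proj_bor {a : Fˣ} (ha : a * a = 1) (c : F) : proj (bor a c) ∈ upper F := by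
  have hd : ((a⁻¹ : Fˣ) : F) = a := sgn_coe_mul ha
  refine ⟨(a : F) * c, (CfsgLib.PSLBinary.pm_eq_uu (a := (a : F)) (b := c) (d := ((a⁻¹ : Fˣ) : F))
    (h := by rw [mul_zero, sub_zero]; simp) hd.symm).symm.trans ?_⟩
  rfl

theorem upper_commute {g h : P2 F} (hg : g ∈ upper F) (hh : h ∈ upper F) : Commute g h := by
  obtain ⟨s, rfl⟩ := hg
  obtain ⟨t, rfl⟩ := hh
  show uu s * uu t = uu t * uu s
  rw [PSLBinary.uu_mul, PSLBinary.uu_mul, add_comm]

/-- The two kinds of centralisers, involutions in odd characteristic apart. -/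
theorem cent_cases {g : P2 F} (h : (2 : F) = 0 ∨ g * g ≠ 1) (hg : g ≠ 1) :
    (∃ c : P2 F, ∀ y, Commute y g ↔ c * y * c⁻¹ ∈ upper F) ∨
      (g * g ≠ 1 ∧ Torus (centralizer ({g} : Set (P2 F)))) := by
  classical
  obtain ⟨g, rfl⟩ := proj_surj g
  have ht : (2 : F) = 0 ∨ (mt g).trace ≠ 0 := h.imp_right fun hgg ht => hgg (by
    rw [← map_mul, proj_eq_one, sq_of_trace_zero ht]; exact negOne_mem_center)
  have hgc : g ∉ center (SL F) := fun e => hg (proj_eq_one.2 e)
  have hcen : centralizer ({proj g} : Set (P2 F)) =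
      (centralizer ({g} : Set (SL F))).map proj := by
    ext y
    obtain ⟨y, rfl⟩ := proj_surj y
    constructor
    · intro hy
      exact mem_map_of_mem _ (mem_centralizer_singleton_iff.2
        (PSL2Classes.commute_of_proj ht (mem_centralizer_singleton_iff.1 hy)))
    · rintro ⟨x, hx, e⟩
      rw [← e]
      exact mem_centralizer_singleton_iff.2
        (by rw [← map_mul, mem_centralizer_singleton_iff.1 hx, map_mul])
  rcases sl_cases hgc with ⟨c, e, b, he, hb, hc⟩ | ⟨hcyc, h4, n, hn⟩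
  · left
    refine ⟨proj c, fun y => ⟨fun hy => ?_, fun hy => ?_⟩⟩
    · obtain ⟨x, hx, rfl⟩ : y ∈ (centralizer ({g} : Set (SL F))).map proj :=
        hcen ▸ mem_centralizer_singleton_iff.2 hy.eq
      have h1 : c * x * c⁻¹ ∈ centralizer ({bor e b} : Set (SL F)) := by
        rw [← hc, mem_centralizer_singleton_iff]
        calc c * x * c⁻¹ * (c * g * c⁻¹) = c * (x * g) * c⁻¹ := by group
          _ = c * (g * x) * c⁻¹ := by rw [mem_centralizer_singleton_iff.1 hx]
          _ = _ := by group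
      obtain ⟨a, d, ha, hx'⟩ := (mem_centralizer_bor he hb).1 h1
      rw [← map_inv, ← map_mul, ← map_mul, hx']
      exact proj_bor ha d
    · have h1 : proj c * proj g * (proj c)⁻¹ ∈ upper F := by
        rw [← map_inv, ← map_mul, ← map_mul, hc]
        exact proj_bor he b
      have h2 := (upper_commute hy h1).map (MulAut.conj (proj c)⁻¹).toMonoidHom
      simpa [mul_assoc] using h2
  · right
    have hsq : proj g * proj g ≠ 1 := by
      intro e
      rw [← map_mul, proj_eq_one] at e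
      rcases ht with h2 | ht0
      · have hgg : g * g = 1 := by
          rcases center_cases e with e' | e'
          · exact e'
          · exact e'.trans (PSL2Classes.negOne_eq_one h2)
        have : mt g * mt g = 1 := by rw [← mt_mul, hgg, mt_one]
        rw [sq_eq, det_mt, one_smul] at this
        by_cases hs : (mt g).trace = 0
        · exact h4 (by rw [hs]; linear_combination -2 * h2)
        refine hgc (mem_center_iff_isScal.2 ⟨0, ?_⟩)
        rw [zero_smul]
        ext i j
        have h3 := congrFun (congrFun this i) j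
        simp at h3
        refine (mul_eq_zero.1 (show (mt g).trace * mt g i j = 0 from ?_)).resolve_left hs
        linear_combination h3 + (1 : Matrix (Fin 2) (Fin 2) F) i j * h2
      · have hmul : ∃ r : F, mt (g * g) = r • 1 := mem_center_iff_isScal.1 e
        obtain ⟨r, hr⟩ := hmul
        rw [mt_mul, sq_eq, det_mt, one_smul] at hr
        refine hgc (mem_center_iff_isScal.2 ⟨(r + 1) / (mt g).trace, ?_⟩)
        ext i j
        have h3 := congrFun (congrFun hr i) j
        simp at h3 ⊢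
        field_simp
        linear_combination h3
    refine ⟨hsq, ?_⟩
    have hgT : proj g ∈ centralizer ({proj g} : Set (P2 F)) := mem_centralizer_singleton_iff.2 rfl
    have hne : (proj g)⁻¹ ≠ proj g := fun e => hsq (by
      nth_rw 1 [← e]
      exact inv_mul_cancel _)
    refine ⟨?_, ?_, proj n, ?_, ?_, ?_⟩
    · haveI := hcyc
      rw [hcen]
      exact isCyclic_of_surjective _ (proj.subgroupMap_surjective (centralizer ({g} : Set (SL F))))
    · let s : Finset (P2 F) := {1, proj g, (proj g)⁻¹}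
      have hs : s.card = 3 := Finset.card_eq_three.2 ⟨1, _, _, fun e => hg e.symm,
        fun e => hg (inv_eq_one.1 e.symm), hne.symm, rfl⟩
      calc 3 = s.card := hs.symm
        _ = Nat.card (s : Set (P2 F)) := (Nat.card_eq_finsetCard s).symm
        _ ≤ _ := Nat.card_mono (Set.toFinite (centralizer ({proj g} : Set (P2 F)) : Set (P2 F)))
          fun x hx => by
            simp [s] at hx
            rcases hx with rfl | rfl | rfl
            · exact one_mem _
            · exact hgT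
            · exact inv_mem hgT
    · intro hm
      have := mem_centralizer_singleton_iff.1 hm
      apply hne
      rw [← map_inv, ← hn, map_mul, map_mul, map_inv, this, mul_inv_cancel_right]
    · intro t hcomm
      rw [mem_centralizer_singleton_iff] at hcomm ⊢
      have h1 : proj n * proj g * (proj n)⁻¹ = (proj g)⁻¹ := by
        rw [← map_inv, ← map_mul, ← map_mul, hn, map_inv]
      have h2 := ((show Commute t (proj g) from hcomm).map (MulAut.conj (proj n)).toMonoidHom)
      simp only [MulEquiv.coe_toMonoidHom, MulAut.conj_apply, h1] at h2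
      exact (Commute.inv_right_iff.1 h2).eq
    · intro m hm
      obtain ⟨m, rfl⟩ := proj_surj m
      have h1 := hm _ hgT
      rw [← map_inv, ← map_mul, ← map_mul, mem_centralizer_singleton_iff] at h1
      have h2 := PSL2Classes.commute_of_proj ht h1
      rcases eq_or_eq_inv hgc h2.symm
        (trace_eq_of_isConj (isConj_iff.2 ⟨m⁻¹, by group⟩)) h4 with e | e
      · exact Or.inl (mem_centralizer_singleton_iff.2
          (by rw [← map_mul, mul_inv_eq_iff_eq_mul.1 e, map_mul]))
      · refine Or.inr (mem_centralizer_singleton_iff.2 ?_)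
        rw [← map_inv, ← map_mul, ← map_mul, ← map_mul]
        congr 1
        rw [← hn] at e
        calc n⁻¹ * m * g = n⁻¹ * (m * g * m⁻¹) * m := by group
          _ = g * (n⁻¹ * m) := by rw [e]; group

/-- The dihedral centraliser of an involution in odd characteristic. -/
theorem invol_shape (hodd : Odd (Fintype.card F)) {v : P2 F} (hv : v * v = 1) (hv1 : v ≠ 1) :
    ∃ (U : Subgroup (P2 F)) (m : ℕ), v ∈ U ∧ (∀ y ∈ U, Commute y v) ∧ IsCyclic U ∧ Nat.card U = m ∧
      2 * m = (if Fintype.card F % 4 = 1 then Fintype.card F - 1 else Fintype.card F + 1) ∧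
      Nat.card (centralizer ({v} : Set (P2 F))) = 2 * m ∧
      (∀ z ∈ U, z * z = 1 → z = 1 ∨ z = v) ∧
      ∀ c, Commute c v → c ∉ U → c * c = 1 ∧ ∀ z ∈ U, c * z * c⁻¹ = z⁻¹ := by
  obtain ⟨x, U, m, hx, hx1, hxU, hUle, hUc, hm, hU, hC, huniq, hout⟩ :=
    CfsgLib.Linear.FourGroups.centralizer_shape (F := F) hodd
  obtain ⟨c, hc⟩ := isConj_iff.1 (CfsgLib.Linear.FourGroups.involutions_conj hodd hx hx1 hv hv1)
  set φ : P2 F ≃* P2 F := MulAut.conj c
  have hφ : φ x = v := hc
  haveI := hUc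
  refine ⟨U.map φ.toMonoidHom, m, ⟨x, hxU, hφ⟩, ?_, ?_, ?_, hm, ?_, ?_, ?_⟩
  · rintro _ ⟨y, hy, rfl⟩
    rw [← hφ]
    exact (show Commute y x from mem_centralizer_singleton_iff.1 (hUle hy)).map φ.toMonoidHom
  · exact isCyclic_of_surjective _ (φ.toMonoidHom.subgroupMap_surjective U)
  · rw [card_map_of_injective φ.injective, hU]
  · rw [← hC, ← card_map_of_injective (K := centralizer ({x} : Set (P2 F)))
      (f := φ.toMonoidHom) φ.injective]
    congr 1
    apply congrArg (fun K : Subgroup (P2 F) => ↥K)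
    ext y
    rw [mem_map_equiv, mem_centralizer_singleton_iff, mem_centralizer_singleton_iff, ← hφ]
    constructor <;> intro e
    · have := congrArg φ.symm e
      simpa using this
    · have := congrArg φ e
      simpa using this
  · rintro _ ⟨z, hz, rfl⟩ hzz
    rcases huniq z hz (φ.injective (by rw [map_mul, map_one]; exact hzz)) with e | e
    · exact Or.inl (by rw [e, map_one])
    · exact Or.inr (by rw [e]; exact hφ)
  · intro y hy hyU
    have h1 : φ.symm y ∈ centralizer ({x} : Set (P2 F)) := mem_centralizer_singleton_iff.2 (by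
      have := (hy.map φ.symm.toMonoidHom).eq
      simpa [← hφ] using this)
    have h2 : φ.symm y ∉ U := fun e => hyU ⟨_, e, φ.apply_symm_apply y⟩
    obtain ⟨h3, -, h4⟩ := hout _ h1 h2
    refine ⟨φ.symm.injective (by rw [map_mul, h3, map_one]), ?_⟩
    rintro _ ⟨z, hz, rfl⟩
    apply φ.symm.injective
    simpa using h4 z hz

theorem invol_half {v : P2 F} (hodd : Odd (Fintype.card F)) (h7 : 7 ≤ Fintype.card F)
    (hv : v * v = 1) (hv1 : v ≠ 1) :
    ∃ U : Subgroup (P2 F), v ∈ U ∧ (∀ y ∈ U, Commute y v) ∧ Torus U ∧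
      (∀ z ∈ U, z * z = 1 → z = 1 ∨ z = v) ∧
      ∀ y, Commute y v → y ∉ U → (∀ z ∈ U, y * z * y⁻¹ = z⁻¹) ∧ ∃ z ∈ U, ¬ Commute y z := by
  obtain ⟨U, m, hvU, hUc, hcyc, hm, hm2, hC, huniq, hout⟩ := invol_shape hodd hv hv1
  have hm3 : 3 ≤ m := by
    obtain ⟨k, hk⟩ := hodd
    split_ifs at hm2 <;> omega
  obtain ⟨n, hn, hnU⟩ : ∃ n, Commute n v ∧ n ∉ U := by
    by_contra hall
    push Not at hall
    have := Nat.card_mono (Set.toFinite (U : Set (P2 F)))
      (s := (centralizer ({v} : Set (P2 F)) : Set (P2 F)))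
      fun y hy => hall y (mem_centralizer_singleton_iff.1 hy)
    change Nat.card (centralizer ({v} : Set (P2 F))) ≤ Nat.card U at this
    omega
  haveI := hcyc
  obtain ⟨⟨z, hz⟩, hgen⟩ := hcyc.exists_generator
  have hzz : z ≠ z⁻¹ := by
    intro e
    have h1 : orderOf (⟨z, hz⟩ : U) ≤ 2 := orderOf_le_of_pow_eq_one two_pos
      (Subtype.ext (by rw [pow_two]; exact eq_inv_iff_mul_eq_one.1 e))
    rw [orderOf_eq_card_of_forall_mem_zpowers hgen, hm] at h1
    omega
  refine ⟨U, hvU, hUc, ⟨hcyc, hm ▸ hm3, n, hnU, fun t ht => ?_, fun k hk => ?_⟩, huniq,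
    fun y hy hyU => ⟨(hout y hy hyU).2, z, hz, fun e => hzz ?_⟩⟩
  · rw [(hout n hn hnU).2 t ht]; exact inv_mem ht
  · have hkv : Commute k v := by
      rcases huniq _ (hk v hvU) (by rw [show k * v * k⁻¹ * (k * v * k⁻¹) = k * (v * v) * k⁻¹ by group,
        hv, mul_one, mul_inv_cancel]) with e | e
      · exact absurd (conj_eq_one_iff.1 e) hv1
      · exact mul_inv_eq_iff_eq_mul.1 e
    by_cases hkU : k ∈ U
    · exact Or.inl hkU
    by_contra hno
    push Not at hno
    have hnk : Commute (n⁻¹ * k) v := hn.inv_left.mul_left hkv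
    have h1 := (hout _ hnk hno.2).2 z hz
    have h2 := (hout k hkv hkU).2 z hz
    have h3 := (hout n hn hnU).2 z hz
    apply hzz
    calc z = n⁻¹ * (n * z * n⁻¹) * n := by group
      _ = n⁻¹ * z⁻¹ * n := by rw [h3]
      _ = n⁻¹ * (k * z * k⁻¹) * n := by rw [h2]
      _ = n⁻¹ * k * z * (n⁻¹ * k)⁻¹ := by group
      _ = z⁻¹ := h1
  · calc z = y * z * y⁻¹ := by rw [e.eq]; group
      _ = z⁻¹ := (hout y hy hyU).2 z hz

/-- The centraliser of an involution is not abelian for `q ≥ 7` odd. -/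
theorem invol_not_comm (hodd : Odd (Fintype.card F)) (h7 : 7 ≤ Fintype.card F) {v : P2 F}
    (hv : v * v = 1) (hv1 : v ≠ 1) :
    ∃ a b : P2 F, Commute a v ∧ Commute b v ∧ ¬ Commute a b := by
  obtain ⟨U, hvU, hUc, hT, huniq, hout⟩ := invol_half hodd h7 hv hv1
  obtain ⟨n, hnU, hn, -⟩ := hT.half
  have hnv : Commute n v := by
    rcases huniq _ (hn v hvU) (by rw [show n * v * n⁻¹ * (n * v * n⁻¹) = n * (v * v) * n⁻¹ by group,
      hv, mul_one, mul_inv_cancel]) with e | e
    · exact absurd (conj_eq_one_iff.1 e) hv1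
    · exact mul_inv_eq_iff_eq_mul.1 e
  obtain ⟨-, z, hz, hne⟩ := hout n hnv hnU
  exact ⟨n, z, hnv, hUc z hz, hne⟩

theorem exists_invol (hodd : Odd (Fintype.card F)) : ∃ v : P2 F, v * v = 1 ∧ v ≠ 1 := by
  obtain ⟨x, U, m, hx, hx1, -⟩ := CfsgLib.Linear.FourGroups.centralizer_shape (F := F) hodd
  exact ⟨x, hx, hx1⟩

/-- `PSL₂(q)` has abelian centralisers for `q = 5` and even `q`. -/
theorem ca_small (h : Fintype.card F = 5 ∨ (2 : F) = 0) : CA (P2 F) := by
  intro g a b ha hb hab
  by_contra hg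
  have hg1 : g ≠ 1 := fun e => hg (e ▸ one_mem _)
  rcases h with h5 | h2
  · by_cases hgg : g * g = 1
    · obtain ⟨U, m, -, -, -, -, hm2, hC, -, -⟩ :=
        invol_shape (h5 ▸ by decide) hgg hg1
      rw [h5] at hm2
      norm_num at hm2
      haveI : Fact (Nat.Prime 2) := ⟨Nat.prime_two⟩
      have h4 : Nat.card (centralizer ({g} : Set (P2 F))) = 2 ^ 2 := by rw [hC, hm2]; norm_num
      exact hab ((IsPGroup.isMulCommutative_of_card_eq_prime_sq h4).is_comm.comm
        ⟨a, mem_centralizer_singleton_iff.2 ha.eq⟩ ⟨b, mem_centralizer_singleton_iff.2 hb.eq⟩ |>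
        congrArg Subtype.val)
    · exact hab (commute_cent (Or.inr hgg) hg1 ha hb)
  · exact hab (commute_cent (Or.inl h2) hg1 ha hb)

/-- Elements moving a non-trivial part of `upper` into itself fix its point. -/
theorem lower_zero {a b c d s t : F} {h : a * d - b * c = 1} (hs : s ≠ 0)
    (e : pm a b c d h * uu s * (pm a b c d h)⁻¹ = uu t) : c = 0 := by
  rw [uu, uu, PSLBinary.pm_mul, PSLBinary.pm_inv, PSLBinary.pm_mul, PSLBinary.pm_eq_pm_iff] at e
  have hc : c * c * s = 0 := by
    rcases e with ⟨-, -, e3, -⟩ | ⟨-, -, e3, -⟩ <;> linear_combination -e3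
  exact mul_self_eq_zero.1 ((mul_eq_zero.1 hc).resolve_right hs)

theorem upper_conj_mem {m u : P2 F} (hu : u ∈ upper F) (hu1 : u ≠ 1)
    (hmu : m * u * m⁻¹ ∈ upper F) {x : P2 F} (hx : x ∈ upper F) : m * x * m⁻¹ ∈ upper F := by
  obtain ⟨a, b, c, d, h, rfl⟩ := PSLBinary.exists_pm m
  obtain ⟨s, rfl⟩ := hu
  obtain ⟨t, ht⟩ := hmu
  obtain ⟨r, rfl⟩ := hx
  have hs : s ≠ 0 := fun e => hu1 (by rw [e, PSLBinary.uu_zero])
  obtain rfl := lower_zero hs ht.symm
  refine ⟨a * a * r, ?_⟩
  rw [uu, uu, PSLBinary.pm_mul, PSLBinary.pm_inv, PSLBinary.pm_mul]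
  refine PSLBinary.pm_congr ?_ ?_ ?_ ?_
  · linear_combination -h
  · ring
  · ring
  · linear_combination -h

theorem ne_zero_of_det {a d : F} (h : a * d - 0 * 0 = 1) : a ≠ 0 := fun e => by simp [e] at h

theorem diag_commute {a d a' d' : F} {h : a * d - 0 * 0 = 1} {h' : a' * d' - 0 * 0 = 1} :
    Commute (pm a 0 0 d h) (pm a' 0 0 d' h') := by
  show _ * _ = _ * _
  rw [PSLBinary.pm_mul, PSLBinary.pm_mul]
  refine PSLBinary.pm_congr ?_ ?_ ?_ ?_ <;> ring

/-- A regular diagonal element, for `q ≥ 7`. -/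
theorem exists_diag (h7 : 7 ≤ Fintype.card F) :
    ∃ (β : Fˣ), proj (dg β) * proj (dg β) ≠ 1 ∧ β * β ≠ 1 := by
  classical
  obtain ⟨β, hβ⟩ := IsCyclic.exists_generator (α := Fˣ)
  have hord : orderOf β = Fintype.card F - 1 := by
    rw [orderOf_eq_card_of_forall_mem_zpowers hβ, Nat.card_eq_fintype_card, Fintype.card_units]
  refine ⟨β, fun h => ?_, fun h => ?_⟩
  · rw [← map_mul, ← map_mul, proj_eq_one, dg_mem_center_iff, show β * β * (β * β) = β ^ 4 by
      simp [pow_succ, mul_assoc]] at h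
    have := Nat.le_of_dvd (by norm_num) (orderOf_dvd_of_pow_eq_one h)
    omega
  · have := Nat.le_of_dvd (by norm_num) (orderOf_dvd_of_pow_eq_one
      (show β ^ 2 = 1 by rw [pow_two]; exact h))
    omega

/-- An automorphism fixing the upper unipotent elements and a regular diagonal element is trivial. -/
theorem rigid {β : Fˣ} (hβ : β * β ≠ 1) (hβ2 : proj (dg β) * proj (dg β) ≠ 1)
    (ψ : P2 F ≃* P2 F) (hU : ∀ t : F, ψ (uu t) = uu t) (hD : ψ (proj (dg β)) = proj (dg β))
    (g : P2 F) : ψ g = g := by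
  have h2 : (2 : F) = 0 ∨ (mt (dg β)).trace ≠ 0 := Or.inr fun ht => hβ2 (by
    rw [← map_mul, proj_eq_one, sq_of_trace_zero ht]; exact negOne_mem_center)
  set w : P2 F := pm 0 (-1) 1 0 (by ring) with hw
  have hwd : w * proj (dg β) * w⁻¹ = (proj (dg β))⁻¹ := by
    rw [show proj (dg β) = pm (β : F) 0 0 ((β⁻¹ : Fˣ) : F) (by simp) from rfl, hw,
      PSLBinary.pm_mul, PSLBinary.pm_inv, PSLBinary.pm_inv, PSLBinary.pm_mul]
    refine PSLBinary.pm_congr ?_ ?_ ?_ ?_ <;> ring
  have h1 : Commute (w⁻¹ * ψ w) (proj (dg β)) := by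
    have e := congrArg ψ hwd
    rw [map_mul, map_mul, map_inv, map_inv, hD] at e
    show w⁻¹ * ψ w * proj (dg β) = proj (dg β) * (w⁻¹ * ψ w)
    calc w⁻¹ * ψ w * proj (dg β) = w⁻¹ * (ψ w * proj (dg β) * (ψ w)⁻¹) * ψ w := by group
      _ = w⁻¹ * (proj (dg β))⁻¹ * ψ w := by rw [e]
      _ = w⁻¹ * (w * proj (dg β) * w⁻¹) * ψ w := by rw [hwd]
      _ = _ := by group
  obtain ⟨s, hs⟩ := proj_surj (w⁻¹ * ψ w)
  rw [← hs] at h1
  obtain ⟨α, rfl⟩ := (mem_centralizer_dg hβ).1
    (mem_centralizer_singleton_iff.2 (PSL2Classes.commute_of_proj h2 h1.eq))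
  have hψw : ψ w = w * proj (dg α) := by rw [hs]; group
  -- the relation `w = u (w u w⁻¹) u`
  have hrel : uu 1 * (w * uu 1 * w⁻¹) * uu 1 = w := by
    rw [hw, uu, PSLBinary.pm_mul, PSLBinary.pm_inv, PSLBinary.pm_mul, PSLBinary.pm_mul,
      PSLBinary.pm_mul, PSLBinary.pm_eq_pm_iff]
    right
    refine ⟨?_, ?_, ?_, ?_⟩ <;> ring
  have h3 := congrArg ψ hrel
  rw [map_mul, map_mul, map_mul, map_mul, map_inv, hU, hψw] at h3
  have hα : (α : F) * α = 1 := by
    rw [show proj (dg α) = pm (α : F) 0 0 ((α⁻¹ : Fˣ) : F) (by simp) from rfl, hw, uu,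
      PSLBinary.pm_mul, PSLBinary.pm_mul, PSLBinary.pm_inv, PSLBinary.pm_mul, PSLBinary.pm_mul,
      PSLBinary.pm_mul, PSLBinary.pm_eq_pm_iff] at h3
    rcases h3 with ⟨e1, -, -, -⟩ | ⟨e1, -, -, -⟩
    · have hαi : (α : F) * ((α⁻¹ : Fˣ) : F) = 1 := by simp
      linear_combination (norm := ring_nf) -e1 + hαi
    · have hαi : (α : F) * ((α⁻¹ : Fˣ) : F) = 1 := by simp
      linear_combination (norm := ring_nf) -e1 + hαi
  have hα1 : proj (dg α) = 1 := proj_eq_one.2 (dg_mem_center_iff.2 (Units.ext (by simpa using hα)))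
  rw [hα1, mul_one] at hψw
  have htop : (ψ.toMonoidHom.eqLocus (MonoidHom.id (P2 F))) = ⊤ :=
    PSLBinary.eq_top_of_upper _ hU (a := 0) (b := -1) (c := 1) (d := 0) (h := by ring) hψw one_ne_zero
  exact (htop ▸ mem_top g : g ∈ ψ.toMonoidHom.eqLocus (MonoidHom.id (P2 F)))

end CfsgLib.MinNonCA.PSL
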