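import Cfsg.Agent.MinNonCA.Radical
import Cfsg.Agent.ZStar.Final
import Cfsg.Agent.Transfer.Basic
import Cfsg.Agent.Transfer.PResidual

/-!
# Fusion and involution centralisers in quasisimple minimal groups
-/

set_option autoImplicit false
set_option linter.unusedSectionVars false
set_option linter.style.haveILetI false

namespace CfsgLib.MinNonCA

open Subgroup
open scoped Pointwise

universe u

variable {G : Type u} [Group G] [Finite G]

theorem lt_inf_normalizer {Q P : Subgroup G} (hP : IsPGroup 2 P) (h : Q < P) :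
    ∃ x ∈ P, x ∈ normalizer (Q : Set G) ∧ x ∉ Q := by
  haveI : Fact (Nat.Prime 2) := ⟨Nat.prime_two⟩
  haveI : Group.IsNilpotent P := hP.isNilpotent
  have hnc := Group.normalizerCondition_of_isNilpotent (G := P) (Q.subgroupOf P) (by
    rw [lt_top_iff_ne_top, Ne, subgroupOf_eq_top]
    exact fun hle => absurd (h.trans_le hle) (lt_irrefl _))
  obtain ⟨⟨x, hxP⟩, hxN, hxQ⟩ := SetLike.exists_of_lt hnc
  rw [mem_subgroupOf] at hxQ
  refine ⟨x, hxP, ?_, hxQ⟩
  rw [mem_normalizer_iff] at hxN ⊢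
  intro q
  refine ⟨fun hq => (hxN ⟨q, h.le hq⟩).mp hq, fun hq => ?_⟩
  have hqP : q ∈ P := by
    have := P.mul_mem (P.mul_mem (P.inv_mem hxP) (h.le hq)) hxP
    simpa [mul_assoc] using this
  exact (hxN ⟨q, hqP⟩).mpr hq

/-- A normal `2`-subgroup lies in every Sylow `2`-subgroup. -/
theorem normal_le_sylow {P : Subgroup G} [hPn : P.Normal] (hP : IsPGroup 2 P) (S : Sylow 2 G) :
    P ≤ (S : Subgroup G) := by
  haveI : Fact (Nat.Prime 2) := ⟨Nat.prime_two⟩
  obtain ⟨T, hT⟩ := hP.exists_le_sylow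
  obtain ⟨c, hc⟩ := MulAction.exists_smul_eq G T S
  intro x hx
  rw [← hc, Sylow.smul_def, Sylow.pointwise_smul_def]
  refine ⟨c⁻¹ * x * c, hT ?_, by simp [mul_assoc]⟩
  have := hPn.conj_mem x hx c⁻¹
  rwa [inv_inv] at this

theorem central_mem_sylow {z : G} (hz : z ∈ center G) {k : ℕ} (hk : z ^ 2 ^ k = 1)
    (S : Sylow 2 G) : z ∈ (S : Subgroup G) := by
  haveI : (zpowers z).Normal := ⟨fun x hx g => by
    rwa [mem_center_iff.1 ((zpowers_le.2 hz) hx) g, mul_inv_cancel_right]⟩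
  refine normal_le_sylow (P := zpowers z) ?_ S (mem_zpowers z)
  rintro ⟨x, hx⟩
  obtain ⟨i, rfl⟩ := mem_zpowers_iff.1 hx
  refine ⟨k, Subtype.ext ?_⟩
  show (z ^ i) ^ 2 ^ k = 1
  rw [← zpow_natCast, ← zpow_mul, mul_comm, zpow_mul, zpow_natCast, hk, one_zpow]

namespace Quasi

variable (Q : Quasi G)

include Q

theorem two_central {P : Subgroup G} [P.Normal] (hP : IsPGroup 2 P) : P ≤ center G := by
  haveI : Fact (Nat.Prime 2) := ⟨Nat.prime_two⟩
  refine Q.normal_le P inferInstance fun e => Q.ns ?_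
  subst e
  haveI := hP.isNilpotent
  exact Group.isSolvable_of_surjective (G := (⊤ : Subgroup G)) (f := (⊤ : Subgroup G).subtype)
    fun q => ⟨⟨q, mem_top q⟩, rfl⟩

theorem normalizer_ne_top {P : Subgroup G} (hP : IsPGroup 2 P) (hPc : ¬ P ≤ center G) :
    normalizer (P : Set G) ≠ ⊤ := fun e => hPc (by
  haveI := normalizer_eq_top_iff.1 e
  exact Q.two_central hP)

/-- An element central in one Sylow `2`-subgroup is central in each one containing it. -/
theorem sylow_center (S T : Sylow 2 G) {z : G} (hzS : z ∈ (S : Subgroup G))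
    (hz : ∀ s ∈ (S : Subgroup G), Commute s z) (hzT : z ∈ (T : Subgroup G)) :
    ∀ t ∈ (T : Subgroup G), Commute t z := by
  classical
  haveI : Fact (Nat.Prime 2) := ⟨Nat.prime_two⟩
  by_contra hbad
  let P : Sylow 2 G × Sylow 2 G → Prop := fun p =>
    z ∈ (p.1 : Subgroup G) ∧ (∀ s ∈ (p.1 : Subgroup G), Commute s z) ∧ z ∈ (p.2 : Subgroup G) ∧
      ¬ ∀ t ∈ (p.2 : Subgroup G), Commute t z
  haveI : Nonempty {p // P p} := ⟨⟨(S, T), hzS, hz, hzT, hbad⟩⟩
  obtain ⟨⟨⟨S, T⟩, hzS, hz, hzT, hbad⟩, hmax⟩ := Finite.exists_max (fun p : {p // P p} =>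
    Nat.card ((p.1.1 : Subgroup G) ⊓ (p.1.2 : Subgroup G) : Subgroup G))
  set D := (S : Subgroup G) ⊓ (T : Subgroup G)
  have hzD : z ∈ D := ⟨hzS, hzT⟩
  have hbig : ∀ {S' T' : Sylow 2 G}, z ∈ (S' : Subgroup G) →
      (∀ s ∈ (S' : Subgroup G), Commute s z) → z ∈ (T' : Subgroup G) →
      D < (S' : Subgroup G) ⊓ (T' : Subgroup G) → ∀ t ∈ (T' : Subgroup G), Commute t z := by
    intro S' T' h1 h2 h3 h4
    by_contra h5
    have h6 : Nat.card ((S' : Subgroup G) ⊓ (T' : Subgroup G) : Subgroup G) ≤ Nat.card D :=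
      hmax ⟨(S', T'), h1, h2, h3, h5⟩
    exact absurd (eq_of_le_of_card_ge h4.le h6) h4.ne
  have hDS : D < (S : Subgroup G) := lt_of_le_of_ne inf_le_left fun e => hbad (by
    have hST : (S : Subgroup G) ≤ T := e ▸ inf_le_right
    have : (T : Subgroup G) = S := S.3 T.2 hST
    rwa [this])
  have hDT : D < (T : Subgroup G) := lt_of_le_of_ne inf_le_right fun e => hbad (by
    have hTS : (T : Subgroup G) ≤ S := e ▸ inf_le_left
    have : (S : Subgroup G) = T := T.3 S.2 hTS
    rwa [← this])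
  have hzc : z ∉ center G := fun h => hbad fun t _ => commute_of_mem_center h t
  have hDp : IsPGroup 2 D := S.2.to_le inf_le_left
  set Y := normalizer (D : Set G)
  have hYtop : Y ≠ ⊤ := Q.normalizer_ne_top hDp fun h => hzc (h hzD)
  have hY := Q.proper Y hYtop
  haveI : (D.subgroupOf Y).Normal := normal_in_normalizer
  have hDY : IsPGroup 2 (D.subgroupOf Y) := hDp.comap_subtype
  obtain ⟨Q1, hQ1⟩ := (S.2.comap_subtype (K := Y)).exists_le_sylow
  obtain ⟨Q2, hQ2⟩ := (T.2.comap_subtype (K := Y)).exists_le_sylow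
  obtain ⟨S', hS'⟩ := (Q1.2.map Y.subtype).exists_le_sylow
  have hzY : z ∈ Y := le_normalizer hzD
  have hzS'c : ∀ s ∈ (S' : Subgroup G), Commute s z := by
    obtain ⟨x, hxS, hxN, hxD⟩ := lt_inf_normalizer S.2 hDS
    have hsub : ∀ y ∈ (S : Subgroup G), y ∈ Y → y ∈ (S' : Subgroup G) := fun y hy hyY =>
      hS' ⟨⟨y, hyY⟩, hQ1 hy, rfl⟩
    refine hbig hzS hz (hsub z hzS hzY) (lt_of_le_of_ne
      (le_inf inf_le_left fun y hy => hsub y hy.1 (le_normalizer hy)) fun e => hxD ?_)
    rw [e]; exact ⟨hxS, hsub x hxS hxN⟩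
  have hQ1c : ∀ q ∈ (Q1 : Subgroup Y), Commute (q : G) z := fun q hq =>
    hzS'c _ (hS' (mem_map_of_mem _ hq))
  set K := (centralizer ({z} : Set G)).subgroupOf Y
  have hQ1K : (Q1 : Subgroup Y) ≤ K := fun q hq =>
    mem_centralizer_singleton_iff.2 (hQ1c q hq).eq
  have hQ2K : (Q2 : Subgroup Y) ≤ K := by
    intro q hq
    refine mem_centralizer_singleton_iff.2 ?_
    by_cases hab : ∀ a ∈ (Q1 : Subgroup Y), ∀ b ∈ (Q1 : Subgroup Y), Commute a b
    · obtain ⟨c, hc⟩ := MulAction.exists_smul_eq Y Q1 Q2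
      have hzQ2 : (⟨z, hzY⟩ : Y) ∈ (Q2 : Subgroup Y) :=
        normal_le_sylow hDY Q2 (show (⟨z, hzY⟩ : Y) ∈ D.subgroupOf Y from hzD)
      rw [← hc, Sylow.smul_def, Sylow.pointwise_smul_def] at hq hzQ2
      obtain ⟨a, ha, rfl⟩ := hq
      obtain ⟨b, hb, hbz⟩ := hzQ2
      have := ((hab a ha b hb).map (MulAut.conj c).toMonoidHom).map Y.subtype
      have hbz' : Y.subtype ((MulAut.conj c).toMonoidHom b) = z := congrArg Subtype.val hbz
      rw [hbz'] at this
      exact this.eq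
    · push Not at hab
      obtain ⟨a, ha, b, hb, hne⟩ := hab
      exact (hY z hzY a a.2 b b.2 (hQ1c a ha) (hQ1c b hb)
        (fun e => hne (Subtype.ext e.eq)) q q.2).eq
  obtain ⟨c, hc⟩ := MulAction.exists_smul_eq K (Q1.subtype hQ1K) (Q2.subtype hQ2K)
  set y : G := ((c : Y) : G)
  have hyz : Commute y z := mem_centralizer_singleton_iff.1 c.2
  have hyS' : ∀ t ∈ (T : Subgroup G), t ∈ Y → t ∈ ((y • S' : Sylow 2 G) : Subgroup G) := by
    intro t ht htY
    have htQ : (⟨⟨t, htY⟩, hQ2K (hQ2 ht)⟩ : K) ∈ ((Q2.subtype hQ2K : Sylow 2 K) : Subgroup K) :=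
      hQ2 ht
    rw [← hc, Sylow.smul_def, Sylow.pointwise_smul_def] at htQ
    obtain ⟨q, hq, hqt⟩ := htQ
    rw [Sylow.smul_def, Sylow.pointwise_smul_def]
    refine ⟨((q : Y) : G), hS' (mem_map_of_mem _ hq), ?_⟩
    exact congrArg (fun k : K => ((k : Y) : G)) hqt
  have hzS'' : z ∈ ((y • S' : Sylow 2 G) : Subgroup G) := hyS' z hzT hzY
  have hzS''c : ∀ s ∈ ((y • S' : Sylow 2 G) : Subgroup G), Commute s z := by
    intro s hs
    rw [Sylow.smul_def, Sylow.pointwise_smul_def] at hs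
    obtain ⟨s', hs', rfl⟩ := hs
    have hfix : (MulAut.conj y).toMonoidHom z = z := by
      show y * z * y⁻¹ = z
      rw [hyz.eq, mul_inv_cancel_right]
    have := (hzS'c s' hs').map (MulAut.conj y).toMonoidHom
    rwa [hfix] at this
  obtain ⟨x, hxT, hxN, hxD⟩ := lt_inf_normalizer T.2 hDT
  refine hbad (hbig hzS'' hzS''c hzT (lt_of_le_of_ne
    (le_inf (fun t ht => hyS' t ht.2 (le_normalizer ht)) inf_le_right) fun e => hxD ?_))
  rw [e]; exact ⟨hyS' x hxT hxN, hxT⟩

/-- Fusion of central elements of a Sylow `2`-subgroup is controlled by its normaliser. -/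
theorem fusion (S : Sylow 2 G) {z : G} (hzS : z ∈ (S : Subgroup G))
    (hz : ∀ s ∈ (S : Subgroup G), Commute s z) {g : G} (hg : g * z * g⁻¹ ∈ (S : Subgroup G)) :
    ∃ n ∈ normalizer ((S : Subgroup G) : Set G), n * z * n⁻¹ = g * z * g⁻¹ := by
  haveI : Fact (Nat.Prime 2) := ⟨Nat.prime_two⟩
  set T : Sylow 2 G := g⁻¹ • S
  have hzT : z ∈ (T : Subgroup G) := by
    show z ∈ ((g⁻¹ • S : Sylow 2 G) : Subgroup G)
    rw [Sylow.smul_def, Sylow.pointwise_smul_def]
    exact ⟨g * z * g⁻¹, hg, by simp [mul_assoc]⟩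
  have hTc := Q.sylow_center S T hzS hz hzT
  have hSK : (S : Subgroup G) ≤ centralizer ({z} : Set G) := fun s hs =>
    mem_centralizer_singleton_iff.2 (hz s hs).eq
  have hTK : (T : Subgroup G) ≤ centralizer ({z} : Set G) := fun s hs =>
    mem_centralizer_singleton_iff.2 (hTc s hs).eq
  obtain ⟨c, hc⟩ := MulAction.exists_smul_eq (centralizer ({z} : Set G)) (S.subtype hSK)
    (T.subtype hTK)
  have h1 : (c : G) • S = T := by
    simp_rw [Sylow.smul_subtype, Subgroup.smul_def] at hc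
    exact Sylow.subtype_injective hc
  refine ⟨g * c, ?_, ?_⟩
  · exact Sylow.smul_eq_iff_mem_normalizer.1 (by rw [mul_smul, h1]; exact smul_inv_smul g S)
  · have := mem_centralizer_singleton_iff.1 c.2
    calc g * c * z * (g * (c : G))⁻¹ = g * ((c : G) * z) * (c : G)⁻¹ * g⁻¹ := by group
      _ = g * (z * c) * (c : G)⁻¹ * g⁻¹ := by rw [this]
      _ = _ := by group

/-- No non-central element with central square is alone in its Sylow `2`-subgroup. -/
theorem not_weak (S : Sylow 2 G) {a : G} (haS : a ∈ (S : Subgroup G)) (ha : a ∉ center G)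
    (ha2 : a * a ∈ center G) (h : ∀ g : G, g * a * g⁻¹ ∈ (S : Subgroup G) → g * a * g⁻¹ = a) :
    False := by
  haveI : Fact (Nat.Prime 2) := ⟨Nat.prime_two⟩
  haveI := Q.simple
  set π := QuotientGroup.mk' (center G) with hπ
  have hπ1 : ∀ {g : G}, π g = 1 ↔ g ∈ center G := fun {g} => QuotientGroup.eq_one_iff g
  have hord : orderOf (π a) = 2 := orderOf_eq_prime (by rw [← map_pow, hπ1, pow_two]; exact ha2)
    (fun e => ha (hπ1.1 e))
  obtain ⟨k, hk⟩ := S.2 ⟨a, haS⟩
  have hk' : a ^ 2 ^ k = 1 := congrArg Subtype.val hk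
  obtain ⟨N, hNn, hNodd, hN⟩ := CfsgLib.ZStar.zstar_of_sylow
    (S.mapSurjective (QuotientGroup.mk'_surjective (center G))) hord fun gb hgb => by
    obtain ⟨g, rfl⟩ := QuotientGroup.mk'_surjective _ gb
    change _ ∈ ((S.mapSurjective _ : Sylow 2 (G ⧸ center G)) : Subgroup (G ⧸ center G)) at hgb
    rw [Sylow.coe_mapSurjective] at hgb
    obtain ⟨s, hs, hsg⟩ := hgb
    have hz : s⁻¹ * (g * a * g⁻¹) ∈ center G := hπ1.1 (by
      simp only [hπ] at *
      rw [map_mul, map_inv, hsg, map_mul, map_mul, map_inv, inv_mul_cancel])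
    obtain ⟨j, hj⟩ := S.2 ⟨s, hs⟩
    have hzpow : (s⁻¹ * (g * a * g⁻¹)) ^ 2 ^ (k + j) = 1 := by
      have e : g * a * g⁻¹ = s * (s⁻¹ * (g * a * g⁻¹)) := by group
      have h1 : (g * a * g⁻¹) ^ 2 ^ (k + j) = 1 := by
        rw [conj_pow, pow_add, pow_mul, hk', one_pow, mul_one, mul_inv_cancel]
      rw [e, Commute.mul_pow (commute_of_mem_center hz s)] at h1
      have h2 : s ^ 2 ^ (k + j) = 1 := by
        rw [pow_add, mul_comm, pow_mul, show s ^ 2 ^ j = 1 from congrArg Subtype.val hj, one_pow]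
      rwa [h2, one_mul] at h1
    have hmem : g * a * g⁻¹ ∈ (S : Subgroup G) := by
      rw [show g * a * g⁻¹ = s * (s⁻¹ * (g * a * g⁻¹)) by group]
      exact mul_mem hs (central_mem_sylow hz hzpow S)
    rw [← map_inv, ← map_mul, ← map_mul, h g hmem]
  haveI := hNn
  rcases hNn.eq_bot_or_eq_top with e | e
  · subst e
    have hcen : π a ∈ center (G ⧸ center G) := mem_center_iff.2 fun q => by
      have := mem_bot.1 (hN q)
      rw [mul_inv_eq_one, mul_inv_eq_iff_eq_mul] at this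
      exact this.symm
    rcases (inferInstance : (center (G ⧸ center G)).Normal).eq_bot_or_eq_top with e | e
    · rw [e, mem_bot, hπ1] at hcen
      exact ha hcen
    · exact Q.nonab ⟨⟨fun x y => mem_center_iff.1 (e ▸ mem_top y) x⟩⟩
  · rw [e, card_top] at hNodd
    have := hord ▸ orderOf_dvd_natCard (π a)
    rw [Nat.odd_iff] at hNodd
    omega

/-- A non-central element central in a Sylow `2`-subgroup is moved by its normaliser, and the
Sylow subgroup is abelian. -/
theorem sylow_central_moved (S : Sylow 2 G) {a : G} (haS : a ∈ (S : Subgroup G))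
    (ha : a ∉ center G) (hac : ∀ s ∈ (S : Subgroup G), Commute s a) :
    (∀ s ∈ (S : Subgroup G), ∀ t ∈ (S : Subgroup G), Commute s t) ∧
      ∃ n ∈ normalizer ((S : Subgroup G) : Set G), ¬ Commute n a := by
  haveI : Fact (Nat.Prime 2) := ⟨Nat.prime_two⟩
  obtain ⟨n, hn, hna⟩ : ∃ n ∈ normalizer ((S : Subgroup G) : Set G), ¬ Commute n a := by
    by_contra hall
    push Not at hall
    obtain ⟨k, hk⟩ := S.2 ⟨a, haS⟩
    have hex : ∃ j, a ^ 2 ^ j ∉ center G ∧ a ^ 2 ^ (j + 1) ∈ center G := by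
      by_contra hno
      push Not at hno
      have hall' : ∀ j, a ^ 2 ^ j ∉ center G := by
        intro j
        induction j with
        | zero => rwa [pow_zero, pow_one]
        | succ j ih => exact hno j ih
      exact hall' k (by
        rw [show a ^ 2 ^ k = 1 from congrArg Subtype.val hk]; exact one_mem _)
    obtain ⟨j, hj, hj'⟩ := hex
    refine Q.not_weak S (pow_mem haS _) hj (by rwa [← pow_add, ← two_mul, ← pow_succ']) fun g hg => ?_
    obtain ⟨m, hm, he⟩ := Q.fusion S (pow_mem haS _) (fun s hs => (hac s hs).pow_right _) hg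
    rw [← he, ((hall m hm).pow_right _).eq, mul_inv_cancel_right]
  refine ⟨fun s hs t ht => ?_, n, hn, hna⟩
  have htop : normalizer ((S : Subgroup G) : Set G) ≠ ⊤ :=
    Q.normalizer_ne_top S.2 fun h => ha (h haS)
  exact (Q.proper _ htop).commute (le_normalizer haS) hn hna (le_normalizer hs) (le_normalizer ht)
    (hac s hs) (hac t ht)

/-- With abelian Sylow `2`-subgroups the centre has odd order. -/
theorem center_odd (S : Sylow 2 G) (hS : ∀ s ∈ (S : Subgroup G), ∀ t ∈ (S : Subgroup G), Commute s t) :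
    Odd (Nat.card (center G)) := by
  haveI : Fact (Nat.Prime 2) := ⟨Nat.prime_two⟩
  rw [Nat.odd_iff]
  by_contra h2
  obtain ⟨⟨z, hz⟩, hzo⟩ := exists_prime_orderOf_dvd_card' (G := center G) 2
    (Nat.dvd_of_mod_eq_zero (by omega))
  rw [orderOf_mk] at hzo
  have hzS : z ∈ (S : Subgroup G) := central_mem_sylow hz (k := 1) (by
    rw [pow_one, ← hzo, pow_orderOf_eq_one]) S
  have hcomm : IsMulCommutative (S : Subgroup G) :=
    ⟨⟨fun x y => Subtype.ext (hS x x.2 y y.2).eq⟩⟩
  have h : z ∈ ((S : Subgroup G) ⊓ commutator G ⊓ center G) := ⟨⟨hzS, Q.perf ▸ mem_top z⟩, hz⟩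
  rw [CfsgLib.TransferBasic.inf_center_inf_commutator_eq_bot hcomm, mem_bot] at h
  rw [h, orderOf_one] at hzo
  omega

/-- With non-abelian Sylow `2`-subgroups their centres are central. -/
theorem sylow_center_le (S : Sylow 2 G)
    (hS : ¬ ∀ s ∈ (S : Subgroup G), ∀ t ∈ (S : Subgroup G), Commute s t) {a : G}
    (haS : a ∈ (S : Subgroup G)) (hac : ∀ s ∈ (S : Subgroup G), Commute s a) : a ∈ center G :=
  by_contra fun ha => hS (Q.sylow_central_moved S haS ha hac).1

/-- In the simple quotient, centralisers of involutions have normal `2`-complements. -/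
theorem involution_centralizer (v : G ⧸ center G) (hv : orderOf v = 2) :
    Cfsg.HasNormalPComplement 2 ↥(centralizer ({v} : Set (G ⧸ center G))) := by
  classical
  haveI : Fact (Nat.Prime 2) := ⟨Nat.prime_two⟩
  haveI := Q.simple
  set π := QuotientGroup.mk' (center G) with hπ
  have hπ1 : ∀ {g : G}, π g = 1 ↔ g ∈ center G := fun {g} => QuotientGroup.eq_one_iff g
  -- a lift which is a `2`-element
  obtain ⟨a, hav, k, hak⟩ : ∃ a : G, π a = v ∧ ∃ k, a ^ 2 ^ k = 1 := by
    obtain ⟨Tv, hTv⟩ := (show IsPGroup 2 (zpowers v) from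
      IsPGroup.of_card (n := 1) (by rw [Nat.card_zpowers, hv, pow_one])).exists_le_sylow
    obtain ⟨S₀⟩ := (inferInstance : Nonempty (Sylow 2 G))
    obtain ⟨cb, hcb⟩ := MulAction.exists_smul_eq (G ⧸ center G)
      (S₀.mapSurjective (QuotientGroup.mk'_surjective (center G))) Tv
    obtain ⟨c, rfl⟩ := QuotientGroup.mk'_surjective _ cb
    have hvm := hTv (mem_zpowers v)
    rw [← hcb, Sylow.smul_def, Sylow.pointwise_smul_def] at hvm
    obtain ⟨_, ⟨s, hs, rfl⟩, hsv⟩ := hvm
    obtain ⟨k, hk⟩ := S₀.2 ⟨s, hs⟩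
    refine ⟨c * s * c⁻¹, ?_, k, ?_⟩
    · rw [map_mul, map_mul, map_inv]; exact hsv
    · rw [conj_pow, show s ^ 2 ^ k = 1 from congrArg Subtype.val hk, mul_one, mul_inv_cancel]
  have hac : a ∉ center G := fun h => by
    rw [← hav, hπ1.2 h, orderOf_one] at hv; omega
  -- the centraliser of `v` is the image of `cmod a`
  set Y := cmod a
  have hsurj : Function.Surjective (π.subgroupComap (centralizer ({v} : Set (G ⧸ center G)))) :=
    MonoidHom.subgroupComap_surjective_of_surjective _ _ (QuotientGroup.mk'_surjective _)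
  have hYeq : (centralizer ({v} : Set (G ⧸ center G))).comap π = Y := by
    rw [← hav]; rfl
  suffices hY : Cfsg.HasNormalPComplement 2 Y by
    obtain ⟨P, N, hNn, hNc⟩ := hY
    obtain ⟨hc, j, hj⟩ := CfsgLib.PResidual.card_coprime_of_isComplement' P hNc
    haveI := hNn
    let f : Y →* centralizer ({v} : Set (G ⧸ center G)) :=
      (π.subgroupComap _).comp (MulEquiv.subgroupCongr hYeq.symm).toMonoidHom
    have hf : Function.Surjective f := hsurj.comp (MulEquiv.subgroupCongr hYeq.symm).surjective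
    haveI : (N.map f).Normal := Subgroup.Normal.map hNn f hf
    obtain ⟨i, -, hi⟩ := (Nat.dvd_prime_pow Nat.prime_two).1 (hj ▸ index_map_dvd N hf)
    exact CfsgLib.PResidual.hasNormalPComplement_of_normal
      (hc.coprime_dvd_left (card_map_dvd N f)) hi
  have hYtop : Y ≠ ⊤ := fun e => hac (mem_center_of_cmod Q.perf fun g => mem_cmod.1 (show g ∈ Y from e ▸ mem_top g))
  have haY : a ∈ Y := mem_cmod.2 (by simp [one_mem])
  by_cases hmove : ∃ y ∈ Y, ¬ Commute y a
  · obtain ⟨y, hy, hya⟩ := hmove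
    have hab : ∀ g ∈ Y, ∀ h ∈ Y, Commute g a → Commute h a → Commute g h := fun g hg h hh h1 h2 =>
      (Q.proper Y hYtop).commute haY hy hya hg hh h1 h2
    let N : Subgroup Y :=
      { carrier := {g | Commute (g : G) a ∧ Odd (orderOf g)}
        one_mem' := ⟨Commute.one_left a, by simp⟩
        mul_mem' := fun {g h} hg hh => ⟨hg.1.mul_left hh.1, by
          have hc : Commute g h := Subtype.ext (hab g g.2 h h.2 hg.1 hh.1).eq
          exact (hg.2.mul hh.2).of_dvd_nat hc.orderOf_mul_dvd_mul_orderOf⟩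
        inv_mem' := fun {g} hg => ⟨hg.1.inv_left, by rw [orderOf_inv]; exact hg.2⟩ }
    haveI : N.Normal := ⟨fun g hg y => by
      refine ⟨?_, by rw [← MulAut.conj_apply, MulEquiv.orderOf_eq]; exact hg.2⟩
      rw [← cmodHom_eq_one, map_mul, map_mul, map_inv, cmodHom_eq_one.2 hg.1, mul_one,
        mul_inv_cancel]⟩
    have hodd : (Nat.card N).Coprime 2 := by
      rw [Nat.coprime_two_right, Nat.odd_iff]
      by_contra h2
      obtain ⟨w, hw⟩ := exists_prime_orderOf_dvd_card' (G := N) 2 (Nat.dvd_of_mod_eq_zero (by omega))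
      have := w.2.2
      rw [orderOf_coe, hw] at this
      exact absurd this (by decide)
    have hpg : IsPGroup 2 (Y ⧸ N) := by
      intro q
      obtain ⟨g, rfl⟩ := QuotientGroup.mk_surjective q
      have hga : Commute ((g ^ 2 ^ k : Y) : G) a := by
        rw [← cmodHom_eq_one, map_pow]
        refine Subtype.ext ?_
        show ((g : G) * a * (g : G)⁻¹ * a⁻¹) ^ 2 ^ k = 1
        set c := (g : G) * a * (g : G)⁻¹ * a⁻¹
        have hc : c ∈ center G := mem_cmod.1 g.2
        have h1 : ((g : G) * a * (g : G)⁻¹) ^ 2 ^ k = 1 := by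
          rw [conj_pow, hak, mul_one, mul_inv_cancel]
        rw [show (g : G) * a * (g : G)⁻¹ = c * a by simp only [c]; group,
          Commute.mul_pow (commute_of_mem_center hc a).symm, hak, mul_one] at h1
        exact h1
      obtain ⟨m, r, hr, hmr⟩ := Nat.exists_eq_two_pow_mul_odd (orderOf_pos (g ^ 2 ^ k)).ne'
      refine ⟨k + m, ?_⟩
      rw [← QuotientGroup.mk_pow, QuotientGroup.eq_one_iff, pow_add, pow_mul]
      refine ⟨by rw [SubgroupClass.coe_pow]; exact hga.pow_left _, ?_⟩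
      rw [orderOf_pow' _ (pow_ne_zero m two_ne_zero), hmr,
        Nat.gcd_eq_right (dvd_mul_right _ _), Nat.mul_div_cancel_left _ (pow_pos two_pos m)]
      exact hr
    obtain ⟨j, hj⟩ := IsPGroup.iff_card.1 hpg
    exact CfsgLib.PResidual.hasNormalPComplement_of_normal (N := N) hodd
      (index_eq_card N ▸ hj)
  · push Not at hmove
    obtain ⟨T, hT⟩ := (show IsPGroup 2 (zpowers (⟨a, haY⟩ : Y)) by
      rintro ⟨x, hx⟩
      obtain ⟨i, rfl⟩ := mem_zpowers_iff.1 hx
      refine ⟨k, Subtype.ext ?_⟩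
      show ((⟨a, haY⟩ : Y) ^ i) ^ 2 ^ k = 1
      rw [← zpow_natCast, ← zpow_mul, mul_comm, zpow_mul, zpow_natCast,
        show (⟨a, haY⟩ : Y) ^ 2 ^ k = 1 from Subtype.ext hak, one_zpow]).exists_le_sylow
    set T' := (T : Subgroup Y).map Y.subtype
    have haT : a ∈ T' := ⟨⟨a, haY⟩, hT (mem_zpowers _), rfl⟩
    have hT'p : IsPGroup 2 T' := T.2.map _
    obtain ⟨S, hS⟩ := hT'p.exists_le_sylow
    obtain ⟨n, hn, hna⟩ : ∃ n ∈ normalizer (T' : Set G), ¬ Commute n a := by
      by_cases hTS : T' = (S : Subgroup G)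
      · rw [hTS] at haT
        obtain ⟨-, n, hn, hna⟩ := Q.sylow_central_moved S haT hac fun s hs => by
          rw [← hTS] at hs
          obtain ⟨t, -, rfl⟩ := hs
          exact hmove t t.2
        exact ⟨n, by rw [hTS]; exact hn, hna⟩
      · obtain ⟨s, hsS, hsN, hsT⟩ := lt_inf_normalizer S.2 (lt_of_le_of_ne hS hTS)
        refine ⟨s, hsN, fun hc => hsT ?_⟩
        have hsY : s ∈ Y := mem_cmod.2 (by rw [commute_iff_comm.1 hc]; exact one_mem _)
        have := T.3 (S.2.comap_subtype (K := Y)) (fun t ht => hS (mem_map_of_mem _ ht))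
        exact ⟨⟨s, hsY⟩, this.le (show (⟨s, hsY⟩ : Y) ∈ (S : Subgroup G).comap Y.subtype from hsS),
          rfl⟩
    have hN := Q.proper _ (Q.normalizer_ne_top hT'p fun h => hac (h haT))
    refine CfsgLib.TransferBasic.hasNormalPComplement_of_le_centralizer T fun g hg => ?_
    refine mem_centralizer_iff.2 fun t ht => Subtype.ext ?_
    have hgN : (g : G) ∈ normalizer (T' : Set G) := by
      have h1 : g • T = T := Sylow.smul_eq_iff_mem_normalizer.2 hg
      have key : ∀ y : Y, y • T = T → ∀ x ∈ T', (y : G) * x * (y : G)⁻¹ ∈ T' := by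
        rintro y hy _ ⟨x, hx, rfl⟩
        refine ⟨y * x * y⁻¹, ?_, by simp⟩
        rw [← hy, Sylow.smul_def, Sylow.pointwise_smul_def]
        exact ⟨x, hx, rfl⟩
      refine mem_normalizer_iff.2 fun x => ⟨key g h1 x, fun hx => ?_⟩
      have h2 := key g⁻¹ (inv_smul_eq_iff.2 h1.symm) _ hx
      simpa [mul_assoc] using h2
    exact (hN.commute (le_normalizer haT) hn hna (le_normalizer (mem_map_of_mem _ ht)) hgN
      (hmove _ (t : Y).2) (hmove _ g.2)).eq

end Quasi

end CfsgLib.MinNonCA
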