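import Cfsg.Agent.MinNonCA.Structure
import Cfsg.Agent.Criterion.Semilinear
import Cfsg.Agent.GWApps.Tools

/-!
# The perfect minimal groups are quasisimple

In a perfect non-solvable group all of whose proper subgroups have abelian centralisers of
non-central elements, the quotient by the centre is simple.
-/

set_option autoImplicit false
set_option linter.unusedSectionVars false
set_option linter.style.haveILetI false

namespace CfsgLib.MinNonCA

open Subgroup
open scoped Pointwise

universe u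

variable {G : Type u} [Group G] [Finite G]

/-- A perfect group has no non-trivial map to a solvable group. -/
theorem hom_eq_one {H : Type*} [Group H] [Group.IsSolvable H] (hp : commutator G = ⊤) (f : G →* H)
    (g : G) : f g = 1 := by
  by_contra hne
  haveI : Nontrivial f.range :=
    ⟨⟨⟨f g, g, rfl⟩, 1, fun e => hne (congrArg Subtype.val e)⟩⟩
  refine (Group.IsSolvable.commutator_lt_top_of_nontrivial f.range).ne ?_
  rw [commutator_def, ← map_top_of_surjective _ f.rangeRestrict_surjective, ← map_commutator,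
    ← commutator_def, hp]

/-- In a perfect group, centralised modulo the centre means central. -/
theorem mem_center_of_cmod (hp : commutator G = ⊤) {a : G}
    (h : ∀ g : G, g * a * g⁻¹ * a⁻¹ ∈ center G) : a ∈ center G := by
  haveI : Group.IsSolvable (center G) := Group.isSolvable_of_comm fun x y =>
    Subtype.ext (mem_center_iff.1 y.2 x)
  refine mem_center_iff.2 fun g => (?_ : Commute g a).eq
  have h1 := hom_eq_one hp ((cmodHom a).comp
    (MonoidHom.codRestrict (MonoidHom.id G) (cmod a) fun x => mem_cmod.2 (h x))) g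
  exact cmodHom_eq_one.1 h1

/-- A group generated by two elements of square one is solvable. -/
theorem solvable_pair {H : Type*} [Group H] {a b : H} (ha : a * a = 1) (hb : b * b = 1) :
    Group.IsSolvable (closure ({a, b} : Set H)) := by
  set D := closure ({a, b} : Set H)
  have haD : a ∈ D := subset_closure (Set.mem_insert _ _)
  have hbD : b ∈ D := subset_closure (Set.mem_insert_of_mem _ rfl)
  set C : Subgroup D := zpowers ⟨a * b, mul_mem haD hbD⟩
  have hai : a⁻¹ = a := inv_eq_of_mul_eq_one_right ha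
  have hbi : b⁻¹ = b := inv_eq_of_mul_eq_one_right hb
  have hnorm : ∀ d : D, d ∈ normalizer (C : Set D) := by
    rintro ⟨d, hd⟩
    induction hd using closure_induction with
    | mem x hx =>
      have hinv : ∀ {c : D} (_ : (c : H) = a ∨ (c : H) = b),
          c * ⟨a * b, mul_mem haD hbD⟩ * c⁻¹ = (⟨a * b, mul_mem haD hbD⟩ : D)⁻¹ := by
        intro c hc
        apply Subtype.ext
        show (c : H) * (a * b) * (c : H)⁻¹ = (a * b)⁻¹
        rw [mul_inv_rev, hai, hbi]
        rcases hc with e | e <;> rw [e]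
        · rw [hai, ← mul_assoc, ha, one_mul]
        · rw [hbi, mul_assoc, mul_assoc, hb, mul_one]
      have key : ∀ y : D, y ∈ C → (⟨x, subset_closure hx⟩ : D) * y *
          (⟨x, subset_closure hx⟩ : D)⁻¹ ∈ C := by
        intro y hy
        obtain ⟨k, rfl⟩ := mem_zpowers_iff.1 hy
        rw [← conj_zpow, hinv (by simpa using hx)]
        exact zpow_mem (inv_mem (mem_zpowers _)) _
      have hsq : (⟨x, subset_closure hx⟩ : D)⁻¹ = ⟨x, subset_closure hx⟩ := by
        apply Subtype.ext
        rcases hx with e | e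
        · simp [e, hai]
        · simp [Set.mem_singleton_iff.1 e, hbi]
      rw [mem_normalizer_iff]
      refine fun y => ⟨key y, fun hy => ?_⟩
      have := key _ hy
      have hxx : (⟨x, subset_closure hx⟩ : D) * ⟨x, subset_closure hx⟩ = 1 :=
        mul_eq_one_iff_eq_inv.2 hsq.symm
      rwa [show ∀ c : D, c * (c * y * c⁻¹) * c⁻¹ = c * c * y * (c * c)⁻¹ from fun c => by group,
        hxx, one_mul, inv_one, mul_one] at this
    | one => exact one_mem _
    | mul x y _ _ hx hy => exact mul_mem hx hy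
    | inv x _ hx => exact inv_mem hx
  haveI : C.Normal := normalizer_eq_top_iff.1 (eq_top_iff.2 fun d _ => hnorm d)
  haveI : Group.IsSolvable C := Group.isSolvable_of_comm fun x y =>
    (IsCyclic.commutative (α := C)).is_comm.comm x y
  haveI : Group.IsSolvable (D ⧸ C) := by
    refine Group.isSolvable_of_comm fun x y => ?_
    have key : ∀ z : D ⧸ C, z ∈ zpowers (QuotientGroup.mk (⟨a, haD⟩ : D) : D ⧸ C) := by
      intro z
      obtain ⟨⟨d, hd⟩, rfl⟩ := QuotientGroup.mk_surjective z
      induction hd using closure_induction with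
      | mem w hw =>
        rcases hw with e | e
        · rw [show (⟨w, subset_closure (Or.inl e)⟩ : D) = ⟨a, haD⟩ from Subtype.ext e]
          exact mem_zpowers _
        · rw [show (⟨w, subset_closure (Or.inr e)⟩ : D) = ⟨b, hbD⟩ from Subtype.ext e]
          have : (QuotientGroup.mk (⟨b, hbD⟩ : D) : D ⧸ C) = QuotientGroup.mk ⟨a, haD⟩ := by
            refine (QuotientGroup.eq.2 ?_).symm
            convert mem_zpowers (⟨a * b, mul_mem haD hbD⟩ : D) using 1
            exact Subtype.ext (by simp [hai])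
          rw [this]; exact mem_zpowers _
      | one => exact one_mem _
      | mul w w' _ _ hw hw' => exact mul_mem hw hw'
      | inv w _ hw => exact inv_mem hw
    obtain ⟨i, rfl⟩ := mem_zpowers_iff.1 (key x)
    obtain ⟨j, rfl⟩ := mem_zpowers_iff.1 (key y)
    exact (Commute.zpow_zpow (Commute.refl _) i j).eq
  exact (Group.isSolvable_iff_subgroup_quotient C).2 ⟨inferInstance, inferInstance⟩

/-- A maximal normal subgroup of a perfect minimal group. -/
structure Top (G : Type u) [Group G] where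
  hG : Hyp G
  perf : commutator G = ⊤
  R : Subgroup G
  normal : R.Normal
  ne_top : R ≠ ⊤
  solv : Group.IsSolvable R
  maxn : ∀ K : Subgroup G, K.Normal → R ≤ K → K = R ∨ K = ⊤

attribute [instance] Top.normal

theorem Hyp.exists_top (hG : Hyp G) (hp : commutator G = ⊤) : Nonempty (Top G) := by
  classical
  haveI : Fact (Nat.Prime 2) := ⟨Nat.prime_two⟩
  have hnt : (⊥ : Subgroup G) ≠ ⊤ := fun h => hG.ns (Group.isSolvable_of_comm fun a b => by
    have ha : a ∈ (⊥ : Subgroup G) := h ▸ mem_top a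
    rw [mem_bot.1 ha, one_mul, mul_one])
  obtain ⟨M, hM⟩ := Set.Finite.exists_maximal (Set.toFinite {K : Subgroup G | K.Normal ∧ K ≠ ⊤})
    ⟨⊥, inferInstance, hnt⟩
  obtain ⟨hMn, hMtop⟩ := hM.prop
  haveI := hMn
  have hq : ¬ Group.IsSolvable (G ⧸ M) := fun hs => hMtop (eq_top_iff.2 fun g _ => by
    haveI := hs
    exact (QuotientGroup.eq_one_iff g).1 (hom_eq_one hp (QuotientGroup.mk' M) g))
  refine ⟨⟨hG, hp, M, hMn, hMtop, ?_, fun K hK hle => ?_⟩⟩
  swap
  · by_cases hKt : K = ⊤
    · exact Or.inr hKt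
    · exact Or.inl (le_antisymm (hM.le_of_ge ⟨hK, hKt⟩ hle) hle)
  by_contra hMns
  obtain ⟨T⟩ := (inferInstance : Nonempty (Sylow 2 M))
  set T' := (T : Subgroup M).map M.subtype
  set Y := normalizer (T' : Set G)
  have hYM : Y ⊔ M = ⊤ := T.normalizer_sup_eq_top
  have hYtop : Y ≠ ⊤ := fun e => by
    haveI : T'.Normal := normalizer_eq_top_iff.1 e
    haveI : (T : Subgroup M).Normal := by
      have h1 : (T'.subgroupOf M).Normal := inferInstance
      rwa [show T'.subgroupOf M = (T : Subgroup M) from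
        comap_map_eq_self_of_injective M.subtype_injective _] at h1
    exact hMns (solvable_of_sylow_normal T)
  have hCY := hG.ca hYtop
  have hYns : ¬ Group.IsSolvable Y := fun hs => hq (by
    haveI := hs
    refine Group.isSolvable_of_surjective (f := (QuotientGroup.mk' M).comp Y.subtype) fun q => ?_
    obtain ⟨g, rfl⟩ := QuotientGroup.mk'_surjective M q
    obtain ⟨y, hy, m, hm, rfl⟩ := mem_sup_of_normal_right.1 (hYM ▸ mem_top g : g ∈ Y ⊔ M)
    exact ⟨⟨y, hy⟩, by
      show QuotientGroup.mk' M y = QuotientGroup.mk' M (y * m)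
      rw [map_mul, show QuotientGroup.mk' M m = 1 from (QuotientGroup.eq_one_iff m).2 hm, mul_one]⟩)
  set N := normalizer ((T : Subgroup M) : Set M)
  haveI : Group.IsSolvable N := by
    haveI : ((T : Subgroup M).subgroupOf N).Normal := normal_in_normalizer
    haveI : Group.IsSolvable ((T : Subgroup M).subgroupOf N) := by
      haveI := T.2.isNilpotent
      exact Group.isSolvable_of_isSolvable_injective
        (f := (subgroupOfEquivOfLe (le_normalizer (H := (T : Subgroup M)))).toMonoidHom)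
        (subgroupOfEquivOfLe (le_normalizer (H := (T : Subgroup M)))).injective
    haveI : ((T.subtype (le_normalizer (H := (T : Subgroup M))) : Sylow 2 N) : Subgroup N).Normal := by
      rw [Sylow.coe_subtype]; infer_instance
    exact solvable_of_sylow_normal (T.subtype (le_normalizer (H := (T : Subgroup M))))
  have hmemN : ∀ {m : M}, m ∈ N ↔ (m : G) ∈ Y := by
    intro m
    rw [mem_normalizer_iff, mem_normalizer_iff]
    constructor
    · intro h g
      constructor
      · rintro ⟨t, ht, rfl⟩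
        exact ⟨m * t * m⁻¹, (h t).1 ht, by simp⟩
      · rintro ⟨t, ht, e⟩
        refine ⟨m⁻¹ * t * m, (h _).2 ?_, ?_⟩
        · rw [show m * (m⁻¹ * t * m) * m⁻¹ = t by group]; exact ht
        · simp only [coe_subtype] at e ⊢
          simp [e, mul_assoc]
    · intro h t
      have := h (t : G)
      rw [show (m : G) * t * (m : G)⁻¹ = M.subtype (m * t * m⁻¹) by simp,
        show (t : G) = M.subtype t from rfl, mem_map_iff_mem M.subtype_injective,
        mem_map_iff_mem M.subtype_injective] at this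
      exact this
  haveI : Group.IsSolvable (M.subgroupOf Y) := by
    let f : M.subgroupOf Y →* N :=
      { toFun := fun x => ⟨⟨((x : Y) : G), x.2⟩, hmemN.2 (x : Y).2⟩
        map_one' := rfl
        map_mul' := fun _ _ => rfl }
    exact Group.isSolvable_of_isSolvable_injective (f := f) fun x y e => by
      have := congrArg (fun z : N => ((z : M) : G)) e
      exact Subtype.ext (Subtype.ext this)
  have hcen := hCY.radical hYns (M.subgroupOf Y) inferInstance
  refine hMns (solvable_of_central_normalizer T fun s hs g hg => ?_)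
  have hsY : (s : G) ∈ Y := le_normalizer (mem_map_of_mem _ hs)
  have := congrArg Subtype.val (mem_center_iff.1 (hcen (show (⟨s, hsY⟩ : Y) ∈ M.subgroupOf Y from s.2))
    ⟨g, hmemN.1 hg⟩)
  exact Subtype.ext this

namespace Top

variable (D : Top G)

include D

theorem quot_not_solvable : ¬ Group.IsSolvable (G ⧸ D.R) := fun hs => D.ne_top (eq_top_iff.2
  fun g _ => by
    haveI := hs
    exact (QuotientGroup.eq_one_iff g).1 (hom_eq_one D.perf (QuotientGroup.mk' D.R) g))

theorem le_of_normal {K : Subgroup G} (hK : K.Normal) (hne : K ≠ ⊤) : K ≤ D.R := by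
  rcases D.maxn (K ⊔ D.R) inferInstance le_sup_right with h | h
  · exact le_sup_left.trans h.le
  · exfalso
    haveI := hK
    haveI := D.solv
    haveI : Group.IsSolvable (G ⧸ K) := by
      refine Group.isSolvable_of_surjective (f := (QuotientGroup.mk' K).comp D.R.subtype) fun q => ?_
      obtain ⟨g, rfl⟩ := QuotientGroup.mk'_surjective K q
      obtain ⟨k, hk, r, hr, rfl⟩ := mem_sup_of_normal_left.1 (h ▸ mem_top g : g ∈ K ⊔ D.R)
      exact ⟨⟨r, hr⟩, by
        show QuotientGroup.mk' K r = QuotientGroup.mk' K (k * r)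
        rw [map_mul, show QuotientGroup.mk' K k = 1 from (QuotientGroup.eq_one_iff k).2 hk, one_mul]⟩
    exact hne (eq_top_iff.2 fun g _ =>
      (QuotientGroup.eq_one_iff g).1 (hom_eq_one D.perf (QuotientGroup.mk' K) g))

/-- A subgroup with solvable image in the simple quotient is proper. -/
theorem ne_top_of_image {Y : Subgroup G} (h : Group.IsSolvable (Y.map (QuotientGroup.mk' D.R))) :
    Y ≠ ⊤ := fun e => by
  rw [e, map_top_of_surjective _ (QuotientGroup.mk'_surjective _)] at h
  haveI := h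
  exact D.quot_not_solvable (Group.isSolvable_of_surjective (f := (⊤ : Subgroup (G ⧸ D.R)).subtype)
    fun q => ⟨⟨q, mem_top q⟩, rfl⟩)

theorem ne_top_zpowers (v : G) : D.R ⊔ zpowers v ≠ ⊤ := D.ne_top_of_image (by
  rw [Subgroup.map_sup, MonoidHom.map_zpowers, QuotientGroup.map_mk'_self, bot_sup_eq]
  exact Group.isSolvable_of_comm fun x y => (IsCyclic.commutative
    (α := zpowers (QuotientGroup.mk' D.R v))).is_comm.comm x y)

theorem ne_top_pair {v w : G} (hv : v * v ∈ D.R) (hw : w * w ∈ D.R) :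
    D.R ⊔ closure ({v, w} : Set G) ≠ ⊤ := D.ne_top_of_image (by
  rw [Subgroup.map_sup, MonoidHom.map_closure, QuotientGroup.map_mk'_self, bot_sup_eq,
    Set.image_pair]
  exact solvable_pair (by rw [← map_mul]; exact (QuotientGroup.eq_one_iff _).2 hv)
    (by rw [← map_mul]; exact (QuotientGroup.eq_one_iff _).2 hw))

theorem ne_top_pgroup {S : Subgroup G} (hS : IsPGroup 2 S) : D.R ⊔ S ≠ ⊤ := D.ne_top_of_image (by
  haveI : Fact (Nat.Prime 2) := ⟨Nat.prime_two⟩
  rw [Subgroup.map_sup, QuotientGroup.map_mk'_self, bot_sup_eq]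
  haveI := (hS.map (QuotientGroup.mk' D.R)).isNilpotent
  infer_instance)

/-- Elements whose square lies in `R` generate `G` over `R`. -/
theorem eq_top_of_sq {H : Subgroup G} (hR : D.R ≤ H) (h : ∀ g : G, g * g ∈ D.R → g ∈ H) :
    H = ⊤ := by
  haveI : Fact (Nat.Prime 2) := ⟨Nat.prime_two⟩
  set I : Set G := {g | g * g ∈ D.R}
  haveI : (closure I).Normal := by
    refine Subgroup.Normal.mk fun n hn g => ?_
    suffices hle : (closure I).map (MulAut.conj g).toMonoidHom ≤ closure I from hle ⟨n, hn, rfl⟩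
    rw [MonoidHom.map_closure, closure_le]
    rintro _ ⟨a, ha, rfl⟩
    refine subset_closure ?_
    show g * a * g⁻¹ * (g * a * g⁻¹) ∈ D.R
    rw [show g * a * g⁻¹ * (g * a * g⁻¹) = g * (a * a) * g⁻¹ by group]
    exact D.normal.conj_mem _ ha g
  rcases D.maxn (closure I) inferInstance (fun r hr => subset_closure (mul_mem hr hr)) with e | e
  · exfalso
    refine D.quot_not_solvable (CfsgLib.OddEnd.odd_solvable _ (Nat.odd_iff.2 ?_))
    by_contra h2
    obtain ⟨q, hq⟩ := exists_prime_orderOf_dvd_card' (G := G ⧸ D.R) 2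
      (Nat.dvd_of_mod_eq_zero (by omega))
    obtain ⟨g, rfl⟩ := QuotientGroup.mk_surjective q
    have hg : g ∈ closure I := subset_closure (show g * g ∈ D.R from
      (QuotientGroup.eq_one_iff _).1 (by
        rw [QuotientGroup.mk_mul, ← pow_two, ← hq, pow_orderOf_eq_one]))
    rw [e] at hg
    rw [(QuotientGroup.eq_one_iff g).2 hg, orderOf_one] at hq
    omega
  · exact eq_top_iff.2 (e ▸ (closure_le H).2 h)

/-- A minimal non-central normal subgroup inside `R`. -/
structure Mini (A : Subgroup G) (p : ℕ) : Prop where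
  prime : p.Prime
  normal : A.Normal
  le : A ≤ D.R
  nc : ¬ A ≤ center G
  pgrp : IsPGroup p A
  min : ∀ B : Subgroup G, B.Normal → B ≤ A → B ≠ A → B ≤ center G
  comm : ∀ a ∈ A, ∀ b ∈ A, a * b * a⁻¹ * b⁻¹ ∈ center G
  pow_mem : ∀ a ∈ A, a ^ p ∈ center G

theorem exists_mini {B : Subgroup G} [hBn : B.Normal] (hB : B ≤ D.R) (hBc : ¬ B ≤ center G) :
    ∃ A p, A ≤ B ∧ D.Mini A p := by
  classical
  obtain ⟨A, hA⟩ := Set.Finite.exists_minimal
    (Set.toFinite {K : Subgroup G | K.Normal ∧ K ≤ B ∧ ¬ K ≤ center G}) ⟨B, hBn, le_rfl, hBc⟩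
  obtain ⟨hAn, hAB, hAc⟩ := hA.prop
  have hmin : ∀ K : Subgroup G, K.Normal → K ≤ A → K ≠ A → K ≤ center G := fun K hK hKA hne => by
    by_contra hc
    exact hne (le_antisymm hKA (hA.le_of_le ⟨hK, hKA.trans hAB, hc⟩ hKA))
  haveI := hAn
  haveI hAs : Group.IsSolvable A := solvable_of_le (hAB.trans hB) D.solv
  haveI : Nontrivial A := (nontrivial_iff_ne_bot A).2 fun e => hAc (e ▸ bot_le)
  have hcomm : ⁅A, A⁆ ≤ center G := by
    refine hmin _ inferInstance (commutator_le_self A) fun e => ?_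
    refine (Group.IsSolvable.commutator_lt_top_of_nontrivial A).ne ?_
    apply map_injective A.subtype_injective
    rw [map_subtype_commutator, e, ← MonoidHom.range_eq_map, range_subtype]
  have hc : ∀ a ∈ A, ∀ b ∈ A, a * b * a⁻¹ * b⁻¹ ∈ center G :=
    fun a ha b hb => hcomm (commutator_mem_commutator ha hb)
  haveI : Group.IsNilpotent A := by
    refine Group.of_quotient_center_nilpotent ?_
    letI : CommGroup (A ⧸ center A) :=
      { (inferInstance : Group (A ⧸ center A)) with
        mul_comm := by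
          rintro ⟨a⟩ ⟨b⟩
          apply QuotientGroup.eq.2
          refine mem_center_iff.2 fun c => Subtype.ext ?_
          have := hc _ (inv_mem b.2) _ (inv_mem a.2)
          simp only [inv_inv] at this
          simpa [mul_assoc] using mem_center_iff.1 this c }
    infer_instance
  obtain ⟨p, hp, P, hP⟩ : ∃ p : ℕ, p.Prime ∧ ∃ P : Sylow p A,
      ¬ (P : Subgroup A).map A.subtype ≤ center G := by
    by_contra hall
    push Not at hall
    refine hAc ?_
    rw [← range_subtype A, MonoidHom.range_eq_map,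
      ← CfsgLib.Solvable.iSup_sylow_eq_top (fun q : Nat.Primes => (default : Sylow (q : ℕ) A)),
      Subgroup.map_iSup]
    exact iSup_le fun q => hall _ q.2 _
  haveI := Fact.mk hp
  haveI : (P : Subgroup A).Normal :=
    P.normal_of_normalizerCondition Group.normalizerCondition_of_isNilpotent
  haveI : (P : Subgroup A).Characteristic := P.characteristic_of_normal inferInstance
  have hPA : (P : Subgroup A).map A.subtype = A := by
    by_contra hne
    exact hP (hmin _ inferInstance (map_subtype_le _) hne)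
  have hpA : IsPGroup p A := hPA ▸ P.2.map A.subtype
  refine ⟨A, p, hAB, ⟨hp, hAn, hAB.trans hB, hAc, hpA, hmin, hc, ?_⟩⟩
  let B' : Subgroup G :=
    { carrier := {x | x ∈ A ∧ x ^ p ∈ center G}
      one_mem' := ⟨one_mem _, by rw [one_pow]; exact one_mem _⟩
      mul_mem' := fun {x y} hx hy => ⟨mul_mem hx.1 hy.1, by
        rw [← QuotientGroup.eq_one_iff, QuotientGroup.mk_pow, QuotientGroup.mk_mul,
          Commute.mul_pow, ← QuotientGroup.mk_pow, ← QuotientGroup.mk_pow,
          (QuotientGroup.eq_one_iff _).2 hx.2, (QuotientGroup.eq_one_iff _).2 hy.2, mul_one]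
        show _ = _
        rw [← QuotientGroup.mk_mul, ← QuotientGroup.mk_mul]
        refine QuotientGroup.eq.2 ?_
        have := hc _ (inv_mem hy.1) _ (inv_mem hx.1)
        simp only [inv_inv] at this
        simpa [mul_assoc] using this⟩
      inv_mem' := fun {x} hx => ⟨inv_mem hx.1, by rw [inv_pow]; exact inv_mem hx.2⟩ }
  haveI : B'.Normal := ⟨fun x hx g => ⟨hAn.conj_mem _ hx.1 g, by
    rw [conj_pow]; exact (inferInstance : (center G).Normal).conj_mem _ hx.2 g⟩⟩
  have hBA : B' = A := by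
    by_contra hne
    have hle := hmin B' inferInstance (fun x hx => hx.1) hne
    obtain ⟨a, ha, hac⟩ := SetLike.not_le_iff_exists.1 hAc
    obtain ⟨k, hk⟩ := hpA ⟨a, ha⟩
    have hk' : a ^ p ^ k = 1 := congrArg Subtype.val hk
    have : ∀ j, a ^ p ^ (j) ∈ center G → a ∈ center G := by
      intro j
      induction j with
      | zero => intro h; rwa [pow_zero, pow_one] at h
      | succ j ih =>
        intro h
        exact ih (hle ⟨pow_mem ha _, by rwa [← pow_mul, ← pow_succ]⟩)
    exact hac (this k (hk' ▸ one_mem _))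
  intro a ha
  rw [← hBA] at ha
  exact ha.2

variable {A : Subgroup G} {p : ℕ}

theorem Mini.conj_mem (hm : D.Mini A p) {a : G} (ha : a ∈ A) (g : G) : g * a * g⁻¹ ∈ A :=
  hm.normal.conj_mem a ha g

/-- The elements acting trivially on `A` modulo the centre. -/
def Mini.K (hm : D.Mini A p) : Subgroup G where
  carrier := {g | ∀ a ∈ A, g * a * g⁻¹ * a⁻¹ ∈ center G}
  one_mem' := fun a _ => by simp [one_mem]
  mul_mem' := fun {x y} hx hy a ha => by
    have h1 := hx _ (hm.normal.conj_mem a ha y)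
    have h2 := hy a ha
    rw [show x * y * a * (x * y)⁻¹ * a⁻¹ =
      (x * (y * a * y⁻¹) * x⁻¹ * (y * a * y⁻¹)⁻¹) * (y * a * y⁻¹ * a⁻¹) by group]
    exact mul_mem h1 h2
  inv_mem' := fun {x} hx a ha => by
    have h1 := hx _ (hm.normal.conj_mem a ha x⁻¹)
    have e : x * (x⁻¹ * a * x⁻¹⁻¹) * x⁻¹ * (x⁻¹ * a * x⁻¹⁻¹)⁻¹ =
        (x⁻¹ * a * x⁻¹⁻¹ * a⁻¹)⁻¹ := by group
    rw [e] at h1
    exact (inv_mem_iff).1 h1

theorem Mini.normal_K (hm : D.Mini A p) : hm.K.Normal := ⟨fun x hx g a ha => by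
  have h1 := (inferInstance : (center G).Normal).conj_mem _ (hx _ (hm.normal.conj_mem a ha g⁻¹)) g
  rw [show g * (x * (g⁻¹ * a * g⁻¹⁻¹) * x⁻¹ * (g⁻¹ * a * g⁻¹⁻¹)⁻¹) * g⁻¹ =
    g * x * g⁻¹ * a * (g * x * g⁻¹)⁻¹ * a⁻¹ by group] at h1
  exact h1⟩

theorem Mini.K_le (hm : D.Mini A p) : hm.K ≤ D.R := D.le_of_normal hm.normal_K fun e => hm.nc
  fun a ha => mem_center_of_cmod D.perf fun g => (e ▸ mem_top g : g ∈ hm.K) a ha

/-- An element of a non-abelian `A` commuting with `A` is central. -/
theorem Mini.exists_not_commute (hm : D.Mini A p) (hab : ¬ ∀ a ∈ A, ∀ b ∈ A, Commute a b) {a : G}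
    (ha : a ∈ A) (hac : a ∉ center G) : ∃ b ∈ A, ¬ Commute b a := by
  by_contra hall
  push Not at hall
  let Z : Subgroup G := A ⊓ centralizer (A : Set G)
  haveI := hm.normal
  have hZ : Z ≠ A := fun e => hab fun x hx y hy => by
    have := (e ▸ hx : x ∈ Z).2
    exact (mem_centralizer_iff.1 this y hy).symm
  exact hac (hm.min Z inferInstance inf_le_left hZ ⟨ha, mem_centralizer_iff.2 fun b hb => (hall b hb).eq⟩)

/-- For non-abelian `A`, centralisers of its non-central elements are abelian in `R⟨v⟩`. -/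
theorem Mini.commute (hm : D.Mini A p) (hab : ¬ ∀ a ∈ A, ∀ b ∈ A, Commute a b) {a : G}
    (ha : a ∈ A) (hac : a ∉ center G) {v c d : G} (hc : c ∈ D.R ⊔ zpowers v)
    (hd : d ∈ D.R ⊔ zpowers v) (hca : Commute c a) (hda : Commute d a) : Commute c d := by
  obtain ⟨b, hb, hba⟩ := hm.exists_not_commute D hab ha hac
  have hY := D.hG.proper _ (D.ne_top_zpowers v)
  exact hY.commute (le_sup_left (a := D.R) (hm.le ha)) (le_sup_left (a := D.R) (hm.le hb)) hba
    hc hd hca hda

/-- For abelian `A`, an element centralising a non-central element of `A` centralises `A`. -/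
theorem Mini.no_fixed (hm : D.Mini A p) (hab : ∀ a ∈ A, ∀ b ∈ A, Commute a b) {a : G}
    (ha : a ∈ A) (hac : a ∉ center G) {v : G} (hv : v * v ∈ D.R) (hva : Commute v a) {b : G}
    (hb : b ∈ A) : Commute v b := by
  by_contra hvb
  have key : ∀ g : G, g * g ∈ D.R → ∀ y ∈ D.R ⊔ closure ({v, g} : Set G), Commute y a := by
    intro g hg y hy
    have hY := D.hG.proper _ (D.ne_top_pair hv hg)
    exact hY a (le_sup_left (a := D.R) (hm.le ha)) v
      (le_sup_right (a := D.R) (subset_closure (Set.mem_insert _ _))) b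
      (le_sup_left (a := D.R) (hm.le hb)) hva (hab b hb a ha) hvb y hy
  refine hac (mem_center_iff.2 fun g => ?_)
  have : centralizer ({a} : Set G) = ⊤ := D.eq_top_of_sq
    (fun r hr => mem_centralizer_singleton_iff.2
      (key 1 (by simp [one_mem]) r (le_sup_left (a := D.R) hr)).eq)
    fun g hg => mem_centralizer_singleton_iff.2 (key g hg g
      (le_sup_right (a := D.R) (subset_closure (Set.mem_insert_of_mem _ rfl)))).eq
  exact mem_centralizer_singleton_iff.1 (this ▸ mem_top g)

/-- A non-trivial image of a `2`-group has a central involution. -/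
theorem exists_central_mod {S N : Subgroup G} [N.Normal] (hS : IsPGroup 2 S) (hne : ¬ S ≤ N) :
    ∃ v ∈ S, v ∉ N ∧ v * v ∈ N ∧ ∀ s ∈ S, s⁻¹ * v * s * v⁻¹ ∈ N := by
  haveI : Fact (Nat.Prime 2) := ⟨Nat.prime_two⟩
  set Q := S.map (QuotientGroup.mk' N)
  have hQ : IsPGroup 2 Q := hS.map _
  haveI : Nontrivial Q := (nontrivial_iff_ne_bot Q).2 fun e => hne fun s hs =>
    (QuotientGroup.eq_one_iff s).1 (mem_bot.1 (e ▸ mem_map_of_mem (QuotientGroup.mk' N) hs))
  haveI := hQ.center_nontrivial
  obtain ⟨z, hz⟩ := exists_prime_orderOf_dvd_card' (G := center Q) 2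
    ((hQ.to_subgroup _).card_eq_or_dvd.resolve_left fun e => by
      have := Finite.one_lt_card (α := center Q); omega)
  obtain ⟨v, hv, hvz⟩ := (z : Q).2
  have hz1 : ((z : Q) : G ⧸ N) ≠ 1 := fun e => by
    have : z = 1 := Subtype.ext (Subtype.ext e)
    rw [this, orderOf_one] at hz; omega
  refine ⟨v, hv, fun hvN => hz1 ?_, ?_, fun s hs => ?_⟩
  · rw [← hvz]; exact (QuotientGroup.eq_one_iff v).2 hvN
  · rw [← QuotientGroup.eq_one_iff, QuotientGroup.mk_mul, ← QuotientGroup.mk'_apply, hvz]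
    have : z * z = 1 := by rw [← pow_two, ← hz, pow_orderOf_eq_one]
    exact congrArg Subtype.val (congrArg Subtype.val this)
  · rw [← QuotientGroup.eq_one_iff]
    have h1 : QuotientGroup.mk' N s * QuotientGroup.mk' N v =
        QuotientGroup.mk' N v * QuotientGroup.mk' N s := by
      rw [hvz]
      exact congrArg Subtype.val (mem_center_iff.1 z.2 ⟨_, mem_map_of_mem _ hs⟩)
    simp only [QuotientGroup.mk'_apply] at h1
    rw [QuotientGroup.mk_mul, QuotientGroup.mk_mul, QuotientGroup.mk_mul, QuotientGroup.mk_inv,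
      QuotientGroup.mk_inv, mul_assoc _ (v : G ⧸ N) (s : G ⧸ N), ← h1]
    group

/-- A Sylow `2`-subgroup is not contained in `R`. -/
theorem sylow_not_le (S : Sylow 2 G) : ¬ (S : Subgroup G) ≤ D.R := fun h => by
  haveI : Fact (Nat.Prime 2) := ⟨Nat.prime_two⟩
  refine D.quot_not_solvable (CfsgLib.OddEnd.odd_solvable _ (Nat.odd_iff.2 ?_))
  have h1 : ¬ 2 ∣ D.R.index := fun h2 => S.not_dvd_index (h2.trans (index_dvd_of_le h))
  rw [← index_eq_card]
  omega

theorem false_two_abelian (hm : D.Mini A 2) (hab : ∀ a ∈ A, ∀ b ∈ A, Commute a b) : False := by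
  haveI : Fact (Nat.Prime 2) := ⟨Nat.prime_two⟩
  haveI := hm.normal
  obtain ⟨S⟩ := (inferInstance : Nonempty (Sylow 2 G))
  set L := centralizer (A : Set G)
  have hLK : L ≤ hm.K := fun g hg a ha => by
    rw [← mem_centralizer_iff.1 hg a ha]; simp [one_mem]
  by_cases hSL : (S : Subgroup G) ≤ L
  · exact D.sylow_not_le S (hSL.trans (hLK.trans (hm.K_le D)))
  obtain ⟨v, hv, hvL, hvv, hvc⟩ := exists_central_mod D S.2 hSL
  have hvR : v * v ∈ D.R := hm.K_le D (hLK hvv)
  -- `x ↦ [v, x]` takes central values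
  have hd : ∀ x ∈ A, x⁻¹ * (v * x * v⁻¹) ∈ center G := by
    intro x hx
    by_contra hc
    set d := x⁻¹ * (v * x * v⁻¹) with hd
    have hdA : d ∈ A := mul_mem (inv_mem hx) (hm.conj_mem D hx v)
    have h1 : v * (v * x * v⁻¹) * v⁻¹ = x := by
      have := mem_centralizer_iff.1 hvv x hx
      calc v * (v * x * v⁻¹) * v⁻¹ = v * v * x * (v * v)⁻¹ := by group
        _ = x * (v * v) * (v * v)⁻¹ := by rw [this]
        _ = x := by group
    have h2 : v * d * v⁻¹ = d⁻¹ := by
      calc v * d * v⁻¹ = (v * x * v⁻¹)⁻¹ * (v * (v * x * v⁻¹) * v⁻¹) := by rw [hd]; group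
        _ = (v * x * v⁻¹)⁻¹ * x := by rw [h1]
        _ = d⁻¹ := by rw [hd]; group
    have h3 : d * d = 1 := by
      have hxx : v * (x * x) * v⁻¹ = x * x := by
        rw [mem_center_iff.1 (pow_two x ▸ hm.pow_mem x hx) v]; group
      have hcm : Commute x⁻¹ (v * x * v⁻¹) := hab _ (inv_mem hx) _ (hm.conj_mem D hx v)
      calc d * d = x⁻¹ * (v * x * v⁻¹ * x⁻¹) * (v * x * v⁻¹) := by rw [hd]; group
        _ = x⁻¹ * (x⁻¹ * (v * x * v⁻¹)) * (v * x * v⁻¹) := by rw [hcm.eq]
        _ = (x * x)⁻¹ * (v * (x * x) * v⁻¹) := by group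
        _ = 1 := by rw [hxx]; group
    refine hvL (mem_centralizer_iff.2 fun b hb => (hm.no_fixed D hab hdA hc hvR ?_ hb).eq.symm)
    exact mul_inv_eq_iff_eq_mul.1 (h2.trans (inv_eq_of_mul_eq_one_right h3))
  refine D.sylow_not_le S (le_trans (b := hm.K) (fun s hs => ?_) (hm.K_le D))
  intro x hx
  set d := x⁻¹ * (v * x * v⁻¹) with hd'
  have hdc := hd x hx
  have hvx : v * x * v⁻¹ = x * d := by rw [hd']; group
  have hl := hvc s hs
  set l := s⁻¹ * v * s * v⁻¹
  have hvsxs : v * (s * x * s⁻¹) * v⁻¹ = s * x * s⁻¹ * d := by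
    calc v * (s * x * s⁻¹) * v⁻¹ = s * (l * (v * x * v⁻¹) * l⁻¹) * s⁻¹ := by simp only [l]; group
      _ = s * (v * x * v⁻¹) * s⁻¹ := by
        rw [← mem_centralizer_iff.1 hl _ (hm.conj_mem D hx v)]; group
      _ = s * x * (d * s⁻¹) := by rw [hvx]; group
      _ = s * x * (s⁻¹ * d) := by rw [mem_center_iff.1 hdc s⁻¹]
      _ = _ := by group
  by_contra hc
  have hwA : x⁻¹ * (s * x * s⁻¹) ∈ A := mul_mem (inv_mem hx) (hm.conj_mem D hx s)
  have hwc : x⁻¹ * (s * x * s⁻¹) ∉ center G := fun h => hc (by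
    have := (inferInstance : (center G).Normal).conj_mem _ h x
    rwa [show x * (x⁻¹ * (s * x * s⁻¹)) * x⁻¹ = s * x * s⁻¹ * x⁻¹ by group] at this)
  refine hvL (mem_centralizer_iff.2 fun b hb => (hm.no_fixed D hab hwA hwc hvR ?_ hb).eq.symm)
  refine mul_inv_eq_iff_eq_mul.1 ?_
  calc v * (x⁻¹ * (s * x * s⁻¹)) * v⁻¹ = (v * x * v⁻¹)⁻¹ * (v * (s * x * s⁻¹) * v⁻¹) := by group
    _ = d⁻¹ * (x⁻¹ * (s * x * s⁻¹) * d) := by rw [hvx, hvsxs]; group
    _ = d⁻¹ * (d * (x⁻¹ * (s * x * s⁻¹))) := by rw [mem_center_iff.1 hdc]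
    _ = _ := by group

theorem false_two_nonabelian (hm : D.Mini A 2) (hab : ¬ ∀ a ∈ A, ∀ b ∈ A, Commute a b) : False := by
  classical
  haveI : Fact (Nat.Prime 2) := ⟨Nat.prime_two⟩
  haveI := hm.normal
  haveI := hm.normal_K
  obtain ⟨S⟩ := (inferInstance : Nonempty (Sylow 2 G))
  have hKR := hm.K_le D
  obtain ⟨v, -, hvK, hvv, -⟩ := exists_central_mod D S.2 fun h => D.sylow_not_le S (h.trans hKR)
  set π := QuotientGroup.mk' (center G) with hπ
  have hπ1 : ∀ {g : G}, π g = 1 ↔ g ∈ center G := fun {g} => QuotientGroup.eq_one_iff g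
  have hπc : ∀ a ∈ A, ∀ b ∈ A, π a * π b = π b * π a := fun a ha b hb => by
    have := hπ1.2 (hm.comm a ha b hb)
    rw [map_mul, map_mul, map_mul, map_inv, map_inv, mul_inv_eq_one, mul_inv_eq_iff_eq_mul] at this
    exact this
  have hsq : ∀ a ∈ A, a * a ∈ center G := fun a ha => pow_two a ▸ hm.pow_mem a ha
  let d : G → G := fun x => x⁻¹ * (v * x * v⁻¹)
  have hdA : ∀ x ∈ A, d x ∈ A := fun x hx => mul_mem (inv_mem hx) (hm.conj_mem D hx v)
  let W : Set G := {x | x ∈ A ∧ d x ∈ center G}
  have hvR : ∀ {g : G}, g ∈ D.R → g ∈ D.R ⊔ zpowers v := fun h => le_sup_left (b := zpowers v) h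
  have hvY : v ∈ D.R ⊔ zpowers v := le_sup_right (a := D.R) (mem_zpowers v)
  have hconj : ∀ x, v * x * v⁻¹ = x * d x := fun x => by simp [d, mul_assoc]
  -- `d x` is fixed modulo the centre
  have hdW : ∀ x ∈ A, d x ∈ W := by
    intro x hx
    refine ⟨hdA x hx, hπ1.1 ?_⟩
    have h1 : π (v * (v * x * v⁻¹) * v⁻¹) = π x := by
      rw [← mul_inv_eq_one, ← map_inv, ← map_mul, hπ1,
        show v * (v * x * v⁻¹) * v⁻¹ * x⁻¹ = v * v * x * (v * v)⁻¹ * x⁻¹ by group]
      exact hvv x hx
    have h2 : d (d x) = (d x)⁻¹ * ((v * x * v⁻¹)⁻¹ * (v * (v * x * v⁻¹) * v⁻¹)) := by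
      simp [d, mul_assoc]
    rw [h2, map_mul, map_mul, h1, ← map_mul, ← map_mul]
    rw [show (d x)⁻¹ * ((v * x * v⁻¹)⁻¹ * x) = ((d x)⁻¹) * (d x)⁻¹ by simp [d, mul_assoc]]
    rw [hπ1, ← mul_inv_rev]
    exact inv_mem (hsq _ (hdA x hx))
  -- the fixed elements commute with all `d x`
  have hWd : ∀ w ∈ W, ∀ x ∈ A, Commute w (d x) := by
    intro w hw x hx
    have hc := hm.comm w hw.1 x hx
    set c := w * x * w⁻¹ * x⁻¹
    set z := d w
    have hz : ∀ g, g * z = z * g := mem_center_iff.1 hw.2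
    have e1 : c = (w * z) * (x * d x) * (w * z)⁻¹ * (x * d x)⁻¹ := by
      rw [← hconj w, ← hconj x,
        show v * w * v⁻¹ * (v * x * v⁻¹) * (v * w * v⁻¹)⁻¹ * (v * x * v⁻¹)⁻¹ = v * c * v⁻¹ by
          simp only [c]; group, mem_center_iff.1 hc v]
      group
    have e2 : c = w * x * d x * w⁻¹ * (d x)⁻¹ * x⁻¹ := by
      rw [e1, show w * z * (x * d x) * (w * z)⁻¹ = w * (z * (x * d x)) * z⁻¹ * w⁻¹ by group,
        ← hz (x * d x)]
      group
    show w * d x = d x * w
    have e3 : w * d x * w⁻¹ * (d x)⁻¹ = 1 := by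
      calc w * d x * w⁻¹ * (d x)⁻¹
          = x⁻¹ * (x * (w * x⁻¹ * w⁻¹)) * (w * x * d x * w⁻¹ * (d x)⁻¹ * x⁻¹) * x := by group
        _ = x⁻¹ * (x * (w * x⁻¹ * w⁻¹)) * c * x := by rw [← e2]
        _ = 1 := by simp only [c]; group
    exact commute_iff_comm.2 e3
  -- a non-central `d0`
  obtain ⟨x0, hx0, hd0⟩ : ∃ x0 ∈ A, d x0 ∉ center G := by
    by_contra hall
    push Not at hall
    refine hvK fun a ha => ?_
    have := (inferInstance : (center G).Normal).conj_mem _ (hall a ha) a
    rwa [show a * d a * a⁻¹ = v * a * v⁻¹ * a⁻¹ by simp [d, mul_assoc]] at this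
  have hd0W := hdW x0 hx0
  have hWab : ∀ w ∈ W, ∀ w' ∈ W, Commute w w' := fun w hw w' hw' =>
    hm.commute D hab hd0W.1 hd0 (hvR (hm.le hw.1)) (hvR (hm.le hw'.1)) (hWd w hw _ hx0)
      (hWd w' hw' _ hx0)
  -- the square of `v` centralises the fixed elements
  have hvW : ∀ w ∈ W, Commute (v * v) w := by
    intro w hw
    set z := d w
    have hz : ∀ g, g * z = z * g := mem_center_iff.1 hw.2
    have hww : v * (w * w) * v⁻¹ = w * w := by
      rw [mem_center_iff.1 (hsq w hw.1) v]; group
    have hzz : z * z = 1 := by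
      have : v * (w * w) * v⁻¹ = w * w * (z * z) := by
        rw [show v * (w * w) * v⁻¹ = (v * w * v⁻¹) * (v * w * v⁻¹) by group, hconj,
          show w * z * (w * z) = w * (z * w) * z by group, ← hz w]
        group
      rw [hww] at this
      exact mul_eq_left.1 this.symm
    refine mul_inv_eq_iff_eq_mul.1 ?_
    calc v * v * w * (v * v)⁻¹ = v * (v * w * v⁻¹) * v⁻¹ := by group
      _ = v * (w * z) * v⁻¹ := by rw [hconj w]
      _ = (v * w * v⁻¹) * (v * z * v⁻¹) := by group
      _ = w * z * (v * z * v⁻¹) := by rw [hconj w]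
      _ = w * z * z := by rw [hz v]; group
      _ = w := by rw [mul_assoc, hzz, mul_one]
  -- the fixed elements form the whole centraliser of `d0`
  have hcW : ∀ x ∈ A, Commute x (d x0) → x ∈ W := by
    intro x hx hxd
    refine ⟨hx, by_contra fun hc => ?_⟩
    have hdd := hdW x hx
    have hxd2 : Commute x (d x) :=
      hm.commute D hab hd0W.1 hd0 (hvR (hm.le hx)) (hvR (hm.le hdd.1)) hxd (hWd _ hdd _ hx0)
    have hvvx : Commute (v * v) x :=
      hm.commute D hab hd0W.1 hd0 (hvR (hKR hvv)) (hvR (hm.le hx)) (hvW _ hd0W) hxd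
    have hd2 : d x * d x = 1 := by
      have h1 : x * d x * (x * d x) = x * x := by
        rw [← hconj, show v * x * v⁻¹ * (v * x * v⁻¹) = v * (x * x) * v⁻¹ by group,
          mem_center_iff.1 (hsq x hx) v]
        group
      rw [show x * d x * (x * d x) = x * (d x * x) * d x by group, ← hxd2.eq,
        show x * (x * d x) * d x = x * x * (d x * d x) by group] at h1
      exact mul_eq_left.1 h1
    have hfix : Commute v (d x) := by
      refine mul_inv_eq_iff_eq_mul.1 ?_
      calc v * d x * v⁻¹ = (v * x * v⁻¹)⁻¹ * (v * v * x * (v * v)⁻¹) := by simp [d, mul_assoc]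
        _ = (v * x * v⁻¹)⁻¹ * x := by rw [hvvx.eq]; group
        _ = (d x)⁻¹ := by simp only [d]; group
        _ = d x := inv_eq_of_mul_eq_one_right hd2
    have hvx : Commute v x := hm.commute D hab hdd.1 hc hvY (hvR (hm.le hx)) hfix hxd2
    refine hc ?_
    show x⁻¹ * (v * x * v⁻¹) ∈ center G
    rw [hvx.eq]; simp [one_mem]
  have hcW' : ∀ x ∈ A, (∀ w ∈ W, Commute x w) → x ∈ W := fun x hx h => hcW x hx (h _ hd0W)
  -- classes modulo `W`
  have hWdiff : ∀ x ∈ A, ∀ y ∈ A, (d x)⁻¹ * d y ∈ center G → x⁻¹ * y ∈ W := by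
    intro x hx y hy h
    refine ⟨mul_mem (inv_mem hx) hy, hπ1.1 ?_⟩
    have h' := hπ1.2 h
    rw [map_mul, map_inv] at h'
    have e : d (x⁻¹ * y) = y⁻¹ * x * ((d x)⁻¹ * x⁻¹) * (y * d y) := by simp [d, mul_assoc]
    rw [e, map_mul, map_mul, map_mul, map_mul, map_inv, map_mul, map_inv, map_inv]
    have c1 := hπc _ (hdA x hx) _ hx
    have c2 := hπc _ (hdA x hx) _ hy
    have hdd : π (d y) = π (d x) := (inv_mul_eq_one.1 h').symm
    rw [hdd, show (π (d x))⁻¹ * (π x)⁻¹ = (π x)⁻¹ * (π (d x))⁻¹ by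
      rw [← mul_inv_rev, ← mul_inv_rev, c1], ← c2]
    group
  have hY := D.hG.proper _ (D.ne_top_zpowers v)
  let Cen : G → Prop := fun k => ∀ y ∈ D.R ⊔ zpowers v, Commute y k
  have hclass : ∀ x ∈ A, ¬ Cen ((x * v) * (x * v)) →
      ∀ w ∈ W, x * w * x⁻¹ * d w = w := by
    intro x hx hk w hw
    set k := x * v * (x * v)
    have hk' : k = (x * x) * d x * (v * v) := by simp [k, d, mul_assoc]
    have hkw : Commute w k := by
      rw [hk']
      exact ((commute_of_mem_center (hsq x hx) w).mul_right (hWd w hw x hx)).mul_right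
        (hvW w hw).symm
    have hxv : x * v ∈ D.R ⊔ zpowers v := mul_mem (hvR (hm.le hx)) hvY
    simp only [Cen, not_forall] at hk
    obtain ⟨y, hy, hyk⟩ := hk
    have hcom : Commute (x * v) w := hY.commute (mul_mem hxv hxv) hy hyk hxv (hvR (hm.le hw.1))
      ((Commute.refl (x * v)).mul_right (Commute.refl (x * v))) hkw
    calc x * w * x⁻¹ * d w = x * w * (x⁻¹ * d w) := by group
      _ = x * w * (d w * x⁻¹) := by rw [mem_center_iff.1 hw.2]
      _ = (x * v) * w * (x * v)⁻¹ := by simp [d, mul_assoc]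
      _ = w := by rw [hcom.eq]; group
  have htwo : ∀ x ∈ A, ∀ y ∈ A, (Cen ((x * v) * (x * v)) ↔ Cen ((y * v) * (y * v))) →
      x⁻¹ * y ∈ W := by
    intro x hx y hy hiff
    by_cases hk : Cen ((x * v) * (x * v))
    · refine hWdiff x hx y hy (hπ1.1 ?_)
      have hcomm : ∀ b ∈ A, Commute b ((d x)⁻¹ * d y) := by
        intro b hb
        have h1 := hk b (hvR (hm.le hb))
        have h2 := hiff.1 hk b (hvR (hm.le hb))
        rw [show x * v * (x * v) = (x * x) * (d x * (v * v)) by simp [d, mul_assoc]] at h1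
        rw [show y * v * (y * v) = (y * y) * (d y * (v * v)) by simp [d, mul_assoc]] at h2
        have h1' : Commute b (d x * (v * v)) := by
          have := (commute_of_mem_center (inv_mem (hsq x hx)) b).mul_right h1
          rwa [inv_mul_cancel_left] at this
        have h2' : Commute b (d y * (v * v)) := by
          have := (commute_of_mem_center (inv_mem (hsq y hy)) b).mul_right h2
          rwa [inv_mul_cancel_left] at this
        have h12 : Commute b (d y * (d x)⁻¹) := by
          have := h2'.mul_right h1'.inv_right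
          rwa [show d y * (v * v) * (d x * (v * v))⁻¹ = d y * (d x)⁻¹ by group] at this
        rwa [show (d x)⁻¹ * d y = d y * (d x)⁻¹ from
          ((hWab _ (hdW x hx) _ (hdW y hy)).inv_left).eq]
      by_contra hne
      obtain ⟨b, hb, hbc⟩ := hm.exists_not_commute D hab
        (mul_mem (inv_mem (hdA x hx)) (hdA y hy)) (fun h => hne (hπ1.2 h))
      exact hbc (hcomm b hb)
    · refine hcW' _ (mul_mem (inv_mem hx) hy) fun w hw => ?_
      have e1 := hclass x hx hk w hw
      have e2 := hclass y hy (fun h => hk (hiff.2 h)) w hw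
      have e3 : x * w * x⁻¹ = y * w * y⁻¹ := mul_right_cancel (e1.trans e2.symm)
      show x⁻¹ * y * w = w * (x⁻¹ * y)
      calc x⁻¹ * y * w = x⁻¹ * (y * w * y⁻¹) * y := by group
        _ = x⁻¹ * (x * w * x⁻¹) * y := by rw [e3]
        _ = _ := by group
  have hhalf : ∀ x ∈ A, x ∉ W → ∀ y ∈ A, y ∉ W → x⁻¹ * y ∈ W := by
    intro x hx hxW y hy hyW
    -- among `1`, `x`, `y` two fall in the same class
    have h0 : ∀ z ∈ A, (Cen ((1 * v) * (1 * v)) ↔ Cen ((z * v) * (z * v))) → z ∈ W := by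
      intro z hz hiff
      have := htwo 1 (one_mem _) z hz hiff
      rwa [inv_one, one_mul] at this
    refine htwo x hx y hy ?_
    have n1 := mt (h0 x hx) hxW
    have n2 := mt (h0 y hy) hyW
    tauto
  -- a conjugate of `W` different from `W`
  obtain ⟨g, w1, hw1, hgw⟩ : ∃ g : G, ∃ w ∈ W, g * w * g⁻¹ ∉ W := by
    by_contra hall
    push Not at hall
    let Wg : Subgroup G :=
      { carrier := W
        one_mem' := ⟨one_mem _, by simp [d, one_mem]⟩
        mul_mem' := fun {a b} ha hb => ⟨mul_mem ha.1 hb.1, by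
          have : d (a * b) = b⁻¹ * d a * b * d b := by simp [d, mul_assoc]
          rw [this, mul_assoc b⁻¹, ← mem_center_iff.1 ha.2 b, inv_mul_cancel_left]
          exact mul_mem ha.2 hb.2⟩
        inv_mem' := fun {a} ha => ⟨inv_mem ha.1, by
          have : d a⁻¹ = a * (d a)⁻¹ * a⁻¹ := by simp [d, mul_assoc]
          rw [this]
          exact (inferInstance : (center G).Normal).conj_mem _ (inv_mem ha.2) a⟩ }
    haveI : Wg.Normal := ⟨fun w hw g => hall g w hw⟩
    have hne : Wg ≠ A := fun e => hab fun a ha b hb =>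
      hWab a (show a ∈ Wg from e ▸ ha) b (show b ∈ Wg from e ▸ hb)
    exact hd0 (hm.min Wg inferInstance (fun w hw => hw.1) hne hd0W)
  set e1 := g * w1 * g⁻¹
  have he1A : e1 ∈ A := hm.conj_mem D hw1.1 g
  have hsplit : ∀ a ∈ A, a ∈ W ∨ ∃ w ∈ W, a = e1 * w := fun a ha => by
    by_cases haW : a ∈ W
    · exact Or.inl haW
    · exact Or.inr ⟨_, hhalf e1 he1A hgw a ha haW, by group⟩
  -- elements of `W` in the conjugate are central
  have hinter : ∀ w ∈ W, g⁻¹ * w * g ∈ W → w ∈ center G := by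
    intro w hw hgW
    by_contra hwc
    obtain ⟨b, hb, hbw⟩ := hm.exists_not_commute D hab hw.1 hwc
    refine hbw ?_
    have hc1 : Commute e1 w := by
      have := (hWab w1 hw1 _ hgW).map (MulAut.conj g)
      simpa [e1, mul_assoc] using this
    rcases hsplit b hb with h | ⟨w', hw', rfl⟩
    · exact hWab b h w hw
    · exact hc1.mul_left (hWab w' hw' w hw)
  have hpairs : ∀ w ∈ W, w ∉ center G → π w = π (d x0) := by
    intro w hw hwc
    have hgA : ∀ u ∈ A, g⁻¹ * u * g ∈ A := fun u hu => by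
      have := hm.conj_mem D hu g⁻¹
      rwa [inv_inv] at this
    have n1 : g⁻¹ * w * g ∉ W := fun h => hwc (hinter w hw h)
    have n2 : g⁻¹ * d x0 * g ∉ W := fun h => hd0 (hinter _ hd0W h)
    have h12 := hhalf _ (hgA w hw.1) n1 _ (hgA _ hd0W.1) n2
    rw [show (g⁻¹ * w * g)⁻¹ * (g⁻¹ * d x0 * g) = g⁻¹ * (w⁻¹ * d x0) * g by group] at h12
    have hWinv : w⁻¹ * d x0 ∈ W := by
      refine hcW' _ (mul_mem (inv_mem hw.1) hd0W.1) fun w' hw' =>
        (hWab w hw w' hw').inv_left.mul_left (hWab _ hd0W w' hw')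
    have := hπ1.2 (hinter _ hWinv h12)
    rwa [map_mul, map_inv, inv_mul_eq_one] at this
  -- the image of `A` has at most four elements
  set V := A.map π
  have hcard : Nat.card V ≤ 4 := by
    let T : Finset (G ⧸ center G) := {1, π (d x0), π e1, π e1 * π (d x0)}
    have hsub : (V : Set (G ⧸ center G)) ⊆ T := by
      rintro _ ⟨a, ha, rfl⟩
      have hW2 : ∀ w ∈ W, π w = 1 ∨ π w = π (d x0) := fun w hw =>
        (em (w ∈ center G)).imp (fun h => hπ1.2 h) (hpairs w hw)
      rcases hsplit a ha with h | ⟨w, hw, rfl⟩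
      · rcases hW2 a h with e | e <;> simp [T, e]
      · rcases hW2 w hw with e | e <;> simp [T, e]
    calc Nat.card V ≤ Nat.card (T : Set (G ⧸ center G)) := Nat.card_mono T.finite_toSet hsub
      _ = T.card := Nat.card_eq_finsetCard T
      _ ≤ 4 := Finset.card_le_four
  -- so `G` acts trivially
  haveI : V.Normal := Subgroup.Normal.map hm.normal _ (QuotientGroup.mk'_surjective _)
  haveI hsol4 : Group.IsSolvable (Equiv.Perm (Fin 4)) :=
    CfsgLib.Char.isSolvable_of_card_eq 2 3 3 1 Nat.prime_two Nat.prime_three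
      (by rw [Nat.card_perm, Nat.card_fin]; rfl)
  obtain ⟨i⟩ : Nonempty (V ↪ Fin 4) := by
    haveI := Fintype.ofFinite V
    refine Function.Embedding.nonempty_of_card_le ?_
    rw [Fintype.card_fin, ← Nat.card_eq_fintype_card]
    exact hcard
  haveI : Group.IsSolvable (MulAut V) := by
    refine Group.isSolvable_of_isSolvable_injective
      (f := (Equiv.Perm.viaEmbeddingHom i).comp (MulAut.toPerm V)) ?_
    exact (Equiv.Perm.viaEmbeddingHom_injective i).comp fun σ τ h =>
      MulEquiv.ext fun a => Equiv.ext_iff.1 h a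
  refine hm.nc fun a ha => mem_center_of_cmod D.perf fun y => hπ1.1 ?_
  have h1 := hom_eq_one D.perf ((MulAut.conjNormal (H := V)).comp π) y
  have h2 := congrArg (fun σ : MulAut V => ((σ ⟨π a, mem_map_of_mem π ha⟩ : V) : G ⧸ center G)) h1
  simp only [MonoidHom.comp_apply, MulAut.conjNormal_apply, MulAut.one_apply] at h2
  rw [map_mul, map_mul, map_mul, map_inv, map_inv, h2, mul_inv_cancel]

/-- Normal `2`-subgroups are central. -/
theorem two_central {P : Subgroup G} [P.Normal] (hP : IsPGroup 2 P) : P ≤ center G := by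
  haveI : Fact (Nat.Prime 2) := ⟨Nat.prime_two⟩
  by_contra hc
  have hne : P ≠ ⊤ := fun e => D.hG.ns (by
    subst e
    haveI := hP.isNilpotent
    exact Group.isSolvable_of_surjective (G := (⊤ : Subgroup G)) (f := (⊤ : Subgroup G).subtype)
      fun q => ⟨⟨q, mem_top q⟩, rfl⟩)
  obtain ⟨A, p, hAP, hm⟩ := D.exists_mini (D.le_of_normal inferInstance hne) hc
  obtain rfl : p = 2 := by
    haveI := Fact.mk hm.prime
    haveI : Nontrivial A := (nontrivial_iff_ne_bot A).2 fun e => hm.nc (e ▸ bot_le)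
    obtain ⟨m, hm0, hcard⟩ := (hP.to_le hAP).nontrivial_iff_card.1 inferInstance
    obtain ⟨n, hn0, hcard'⟩ := hm.pgrp.nontrivial_iff_card.1 inferInstance
    exact (Nat.prime_dvd_prime_iff_eq hm.prime Nat.prime_two).1 (hm.prime.dvd_of_dvd_pow
      (n := m) (hcard ▸ hcard' ▸ dvd_pow_self p hn0.ne'))
  by_cases hab : ∀ a ∈ A, ∀ b ∈ A, Commute a b
  · exact D.false_two_abelian hm hab
  · exact D.false_two_nonabelian hm hab

theorem false_odd (hm : D.Mini A p) (hp2 : p ≠ 2) : False := by
  classical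
  haveI : Fact (Nat.Prime 2) := ⟨Nat.prime_two⟩
  haveI := Fact.mk hm.prime
  haveI := hm.normal
  haveI := hm.normal_K
  have hKR := hm.K_le D
  have hcop : ∀ c : G, c ^ p = 1 → ∀ k, c ^ 2 ^ k = 1 → c = 1 := fun c hc k hk => by
    have := Nat.eq_one_of_dvd_coprimes
      (((Nat.coprime_primes hm.prime Nat.prime_two).2 hp2).pow_right k)
      (orderOf_dvd_of_pow_eq_one hc) (orderOf_dvd_of_pow_eq_one hk)
    exact orderOf_eq_one_iff.1 this
  have hpc : ∀ x ∈ A, ∀ g : G, g * x ^ p * g⁻¹ = x ^ p := fun x hx g => by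
    rw [mem_center_iff.1 (hm.pow_mem x hx) g]; group
  -- `2`-elements trivial on `A` modulo the centre centralise it
  have hexact : ∀ v : G, v ∈ hm.K → (∃ k, v ^ 2 ^ k = 1) → ∀ x ∈ A, Commute v x := by
    intro v hv ⟨k, hk⟩ x hx
    set c := v * x * v⁻¹ * x⁻¹
    have hc := hv x hx
    have hvx : v * x * v⁻¹ = c * x := by simp only [c]; group
    have hpow : ∀ n, v ^ n * x * (v ^ n)⁻¹ = c ^ n * x := by
      intro n
      induction n with
      | zero => simp
      | succ n ih =>
        calc v ^ (n + 1) * x * (v ^ (n + 1))⁻¹ = v * (v ^ n * x * (v ^ n)⁻¹) * v⁻¹ := by group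
          _ = v * c ^ n * (x * v⁻¹) := by rw [ih]; group
          _ = c ^ n * v * (x * v⁻¹) := by rw [mem_center_iff.1 (pow_mem hc n) v]
          _ = c ^ n * (v * x * v⁻¹) := by group
          _ = c ^ (n + 1) * x := by rw [hvx, pow_succ]; group
    have h1 := hpow (2 ^ k)
    rw [hk, one_mul, inv_one, mul_one] at h1
    have h2 : c ^ p = 1 := by
      have h3 : (c * x) ^ p = x ^ p := by rw [← hvx, conj_pow, hpc x hx v]
      rw [Commute.mul_pow (commute_of_mem_center hc x).symm] at h3
      exact mul_eq_right.1 h3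
    exact commute_iff_comm.2 (hcop c h2 k (mul_eq_right.1 h1.symm))
  -- involutory `2`-elements invert `A` modulo the centre
  have hinv : ∀ v : G, v ∉ hm.K → v * v ∈ hm.K → (∃ k, v ^ 2 ^ k = 1) →
      ∀ x ∈ A, v * x * v⁻¹ * x ∈ center G := by
    intro v hv hvv ⟨k, hk⟩ x hx
    have hsq : ∀ y ∈ A, v * (v * y * v⁻¹) * v⁻¹ = y := fun y hy => by
      have := (hexact (v * v) hvv ⟨k, by
        rw [(Commute.refl v).mul_pow, hk, mul_one]⟩ y hy).eq
      calc v * (v * y * v⁻¹) * v⁻¹ = v * v * y * (v * v)⁻¹ := by group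
        _ = y * (v * v) * (v * v)⁻¹ := by rw [this]
        _ = y := by group
    by_contra hc
    set y := v * x * v⁻¹ * x with hy
    have hyA : y ∈ A := mul_mem (hm.conj_mem D hx v) hx
    have hyv : v * y * v⁻¹ = x * (v * x * v⁻¹) := by
      rw [show v * y * v⁻¹ = v * (v * x * v⁻¹) * v⁻¹ * (v * x * v⁻¹) by rw [hy]; group, hsq x hx]
    set c := v * y * v⁻¹ * y⁻¹
    have hcc : c ∈ center G := by
      have := hm.comm x hx _ (hm.conj_mem D hx v)
      simp only [c]
      rw [hyv, hy]
      rwa [show x * (v * x * v⁻¹) * (v * x * v⁻¹ * x)⁻¹ =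
        x * (v * x * v⁻¹) * x⁻¹ * (v * x * v⁻¹)⁻¹ by group]
    have hvy : v * y * v⁻¹ = c * y := by simp only [c]; group
    have hc2 : c ^ 2 ^ 1 = 1 := by
      have := hsq y hyA
      rw [hvy, show v * (c * y) * v⁻¹ = (v * c) * y * v⁻¹ by group, mem_center_iff.1 hcc v,
        show c * v * y * v⁻¹ = c * (v * y * v⁻¹) by group, hvy, ← mul_assoc, ← pow_two] at this
      rw [pow_one]
      exact mul_eq_right.1 this
    have hcp : c ^ p = 1 := by
      have h3 : (c * y) ^ p = y ^ p := by rw [← hvy, conj_pow, hpc y hyA v]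
      rw [Commute.mul_pow (commute_of_mem_center hcc y).symm] at h3
      exact mul_eq_right.1 h3
    have hfix : Commute v y := commute_iff_comm.2 (hcop c hcp 1 hc2)
    by_cases hab : ∀ a ∈ A, ∀ b ∈ A, Commute a b
    · exact hv fun b hb => by
        rw [commute_iff_comm.1 (hm.no_fixed D hab hyA hc (hKR hvv) hfix hb)]
        exact one_mem _
    refine hv fun b hb => ?_
    set e := b⁻¹ * (v * b * v⁻¹) with he
    have heA : e ∈ A := mul_mem (inv_mem hb) (hm.conj_mem D hb v)
    have hev : v * e * v⁻¹ = e⁻¹ := by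
      rw [show v * e * v⁻¹ = (v * b * v⁻¹)⁻¹ * (v * (v * b * v⁻¹) * v⁻¹) by rw [he]; group,
        hsq b hb, he]
      group
    have hye : Commute y e := by
      set f := y * e * y⁻¹ * e⁻¹
      have hf := hm.comm y hyA e heA
      have h1 : f * f = 1 := by
        have h2 : f = y * e⁻¹ * y⁻¹ * e := by
          calc f = v * f * v⁻¹ := by rw [mem_center_iff.1 hf v, mul_inv_cancel_right]
            _ = v * y * v⁻¹ * (v * e * v⁻¹) * (v * y * v⁻¹)⁻¹ * (v * e * v⁻¹)⁻¹ := by
              simp only [f]; group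
            _ = _ := by rw [hev, show v * y * v⁻¹ = y by rw [hfix.eq]; group]; group
        have h5 : y * e⁻¹ * y⁻¹ * e = f⁻¹ := by
          calc y * e⁻¹ * y⁻¹ * e = (f * e)⁻¹ * e := by simp only [f]; group
            _ = e⁻¹ * (f⁻¹ * e) := by group
            _ = e⁻¹ * (e * f⁻¹) := by rw [mem_center_iff.1 (inv_mem hf) e]
            _ = f⁻¹ := by group
        exact eq_inv_iff_mul_eq_one.1 (h2.trans h5)
      have h3 : f ^ p = 1 := by
        have hye' : y * e * y⁻¹ = f * e := by simp only [f]; group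
        have h4 : (f * e) ^ p = e ^ p := by rw [← hye', conj_pow, hpc e heA y]
        rw [Commute.mul_pow (commute_of_mem_center hf e).symm] at h4
        exact mul_eq_right.1 h4
      exact commute_iff_comm.2 (hcop f h3 1 (by rw [pow_one, pow_two]; exact h1))
    have hve : Commute v e := hm.commute D hab hyA hc (le_sup_right (a := D.R) (mem_zpowers v))
      (le_sup_left (b := zpowers v) (hm.le heA)) hfix hye.symm
    have he2 : e ^ 2 ^ 1 = 1 := by
      have : e = e⁻¹ := by rw [← hev, hve.eq]; group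
      rw [pow_one, pow_two]
      nth_rw 2 [this]
      exact mul_inv_cancel e
    obtain ⟨j, hj⟩ := hm.pgrp ⟨e, heA⟩
    have he1 : e = 1 := orderOf_eq_one_iff.1 (Nat.eq_one_of_dvd_coprimes
      (((Nat.coprime_primes hm.prime Nat.prime_two).2 hp2).pow j 1)
      (orderOf_dvd_of_pow_eq_one (congrArg Subtype.val hj)) (orderOf_dvd_of_pow_eq_one he2))
    rw [he, inv_mul_eq_one] at he1
    rw [← he1, mul_inv_cancel]
    exact one_mem _
  -- the Sylow subgroup
  obtain ⟨S⟩ := (inferInstance : Nonempty (Sylow 2 G))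
  have hS2 : ∀ s ∈ (S : Subgroup G), ∃ k, s ^ 2 ^ k = 1 := fun s hs => by
    obtain ⟨k, hk⟩ := S.2 ⟨s, hs⟩
    exact ⟨k, congrArg Subtype.val hk⟩
  obtain ⟨v, hvS, hvK, hvv, -⟩ :=
    exists_central_mod D S.2 fun h => D.sylow_not_le S (h.trans hKR)
  have hcomb : ∀ s t : G, (∀ x ∈ A, s * x * s⁻¹ * x ∈ center G) →
      (∀ x ∈ A, t * x * t⁻¹ * x ∈ center G) → s * t ∈ hm.K := by
    intro s t hs ht x hx
    set y := t * x * t⁻¹
    have e1 := (QuotientGroup.eq_one_iff _).2 (hs y (hm.conj_mem D hx t))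
    have e2 := (QuotientGroup.eq_one_iff _).2 (ht x hx)
    rw [show s * t * x * (s * t)⁻¹ * x⁻¹ = (s * y * s⁻¹ * y) * (y⁻¹ * x⁻¹) by simp only [y]; group,
      ← QuotientGroup.eq_one_iff, QuotientGroup.mk_mul, e1, one_mul, ← mul_inv_rev,
      QuotientGroup.mk_inv, inv_eq_one, QuotientGroup.eq_one_iff]
    have h := (inferInstance : (center G).Normal).conj_mem _ (ht x hx) x
    rwa [show x * (y * x) * x⁻¹ = x * y by group] at h
  have hvI := hinv v hvK hvv (hS2 v hvS)
  have hcentral : ∀ g : G, g⁻¹ * v * g * v⁻¹ ∈ hm.K := by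
    intro g
    have hgI : ∀ x ∈ A, g⁻¹ * v * g * x * (g⁻¹ * v * g)⁻¹ * x ∈ center G := fun x hx => by
      have := (inferInstance : (center G).Normal).conj_mem _ (hvI _ (hm.conj_mem D hx g)) g⁻¹
      rwa [show g⁻¹ * (v * (g * x * g⁻¹) * v⁻¹ * (g * x * g⁻¹)) * g⁻¹⁻¹ =
        g⁻¹ * v * g * x * (g⁻¹ * v * g)⁻¹ * x by group] at this
    have := mul_mem (hcomb _ v hgI hvI) (inv_mem hvv)
    rwa [show g⁻¹ * v * g * v * (v * v)⁻¹ = g⁻¹ * v * g * v⁻¹ by group] at this
  have hvR : v ∈ D.R := by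
    have hn : (hm.K ⊔ zpowers v).Normal := by
      refine ⟨fun n hn g => ?_⟩
      suffices hle : (hm.K ⊔ zpowers v).map (MulAut.conj g).toMonoidHom ≤ hm.K ⊔ zpowers v from
        hle ⟨n, hn, rfl⟩
      rw [Subgroup.map_sup, MonoidHom.map_zpowers]
      refine sup_le ?_ (zpowers_le.2 ?_)
      · rintro _ ⟨k, hk, rfl⟩
        exact mem_sup_left (hm.normal_K.conj_mem k hk g)
      · show g * v * g⁻¹ ∈ _
        rw [show g * v * g⁻¹ = g⁻¹⁻¹ * v * g⁻¹ * v⁻¹ * v by group]
        exact mul_mem (mem_sup_left (hcentral g⁻¹)) (mem_sup_right (mem_zpowers v))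
    refine D.le_of_normal hn (fun e => ?_) (mem_sup_right (mem_zpowers v))
    exact D.ne_top_zpowers v (eq_top_iff.2 (e ▸ sup_le_sup_right hKR _))
  -- `v` centralises a Sylow subgroup
  obtain ⟨T, hT⟩ := CfsgLib.Partition.exists_sylow_le S D.R
  set T' := (T : Subgroup D.R).map D.R.subtype
  set N := normalizer (T' : Set G)
  have hSN : (S : Subgroup G) ≤ N := by
    have key : ∀ s ∈ (S : Subgroup G), ∀ t ∈ T', s * t * s⁻¹ ∈ T' := by
      rintro s hs _ ⟨t, ht, rfl⟩
      exact ⟨⟨s * t * s⁻¹, D.normal.conj_mem _ t.2 s⟩,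
        (hT _).2 (mul_mem (mul_mem hs ((hT t).1 ht)) (inv_mem hs)), rfl⟩
    intro s hs
    refine mem_normalizer_iff.2 fun t => ⟨key s hs t, fun h => ?_⟩
    have := key s⁻¹ (inv_mem hs) _ h
    simpa [mul_assoc] using this
  have hvT : v ∈ T' := ⟨⟨v, hvR⟩, (hT _).2 hvS, rfl⟩
  have hNtop : N ≠ ⊤ := fun e => by
    haveI : T'.Normal := normalizer_eq_top_iff.1 e
    exact hvK fun x _ => by
      rw [commute_iff_comm.1 (commute_of_mem_center (D.two_central (T.2.map _) hvT) x).symm]
      exact one_mem _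
  have hvN : ∀ y ∈ N, Commute y v := by
    have hns : ¬ Group.IsSolvable N := fun hs => D.quot_not_solvable (by
      haveI := hs
      refine Group.isSolvable_of_surjective (f := (QuotientGroup.mk' D.R).comp N.subtype) fun q => ?_
      obtain ⟨g, rfl⟩ := QuotientGroup.mk'_surjective D.R q
      obtain ⟨y, hy, m, hm', rfl⟩ := mem_sup_of_normal_right.1
        (T.normalizer_sup_eq_top ▸ mem_top g : g ∈ N ⊔ D.R)
      exact ⟨⟨y, hy⟩, by
        show QuotientGroup.mk' D.R y = QuotientGroup.mk' D.R (y * m)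
        rw [map_mul, show QuotientGroup.mk' D.R m = 1 from (QuotientGroup.eq_one_iff m).2 hm',
          mul_one]⟩)
    haveI := D.solv
    haveI : Group.IsSolvable (D.R.subgroupOf N) :=
      Group.isSolvable_of_isSolvable_injective
        (f := (N.subtype.comp (D.R.subgroupOf N).subtype).codRestrict D.R fun x => x.2)
        fun a b e => Subtype.ext (Subtype.ext (congrArg Subtype.val e :))
    have hcen := (D.hG.ca hNtop).radical hns (D.R.subgroupOf N) inferInstance
      (show (⟨v, hSN hvS⟩ : N) ∈ D.R.subgroupOf N from hvR)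
    exact fun y hy => congrArg Subtype.val (mem_center_iff.1 hcen ⟨y, hy⟩)
  -- the Sylow subgroup is abelian with one involution modulo `K`
  obtain ⟨x, hx, hxv⟩ : ∃ x ∈ A, ¬ Commute x v := by
    by_contra hall
    push Not at hall
    exact hvK fun x hx => by rw [commute_iff_comm.1 (hall x hx).symm]; exact one_mem _
  have hSab : ∀ s ∈ (S : Subgroup G), ∀ t ∈ (S : Subgroup G), Commute s t := fun s hs t ht =>
    (D.hG.proper _ (D.ne_top_pgroup S.2)).commute (le_sup_right (a := D.R) hvS)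
      (le_sup_left (b := (S : Subgroup G)) (hm.le hx)) hxv (le_sup_right (a := D.R) hs)
      (le_sup_right (a := D.R) ht) (hvN s (hSN hs)) (hvN t (hSN ht))
  set Q := (S : Subgroup G).map (QuotientGroup.mk' hm.K)
  haveI hQ : IsCyclic Q := by
    refine CfsgLib.Criterion.Semilinear.isCyclic_of_unique (fun a b => ?_) (S.2.map _) fun a b ha hb => ?_
    · obtain ⟨a, s, hs, rfl⟩ := a
      obtain ⟨b, t, ht, rfl⟩ := b
      exact Subtype.ext ((hSab s hs t ht).map (QuotientGroup.mk' hm.K)).eq
    · have key : ∀ c : Q, orderOf c = 2 → ∃ s, (∀ x ∈ A, s * x * s⁻¹ * x ∈ center G) ∧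
          QuotientGroup.mk' hm.K s = c ∧ s * s ∈ hm.K := by
        rintro ⟨c, s, hs, rfl⟩ hc
        have hsK : s ∉ hm.K := fun h => by
          rw [show (⟨_, ⟨s, hs, rfl⟩⟩ : Q) = 1 from
            Subtype.ext ((QuotientGroup.eq_one_iff s).2 h), orderOf_one] at hc
          omega
        have hss : s * s ∈ hm.K := by
          rw [← QuotientGroup.eq_one_iff, ← pow_two, QuotientGroup.mk_pow, ← hc]
          exact congrArg Subtype.val (pow_orderOf_eq_one (⟨_, ⟨s, hs, rfl⟩⟩ : Q))
        exact ⟨s, hinv s hsK hss (hS2 s hs), rfl, hss⟩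
      obtain ⟨s, hsI, hsa, hss⟩ := key a ha
      obtain ⟨t, htI, htb, htt⟩ := key b hb
      apply Subtype.ext
      rw [← hsa, ← htb]
      refine QuotientGroup.eq.2 ?_
      have := mul_mem (inv_mem hss) (hcomb s t hsI htI)
      rw [show (s * s)⁻¹ * (s * t) = s⁻¹ * t by group] at this
      exact this
  -- hence the quotient by `R` has cyclic Sylow subgroups
  refine D.quot_not_solvable (CfsgLib.GWApps.isSolvable_of_cyclic_sylow
    (S.mapSurjective (QuotientGroup.mk'_surjective D.R)) ?_)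
  let f := QuotientGroup.map hm.K D.R (MonoidHom.id G) hKR
  have heq : Q.map f = (S : Subgroup G).map (QuotientGroup.mk' D.R) := by
    rw [map_map]; rfl
  rw [Sylow.coe_mapSurjective, ← heq]
  exact isCyclic_of_surjective _ (f.subgroupMap_surjective Q)

/-- All of `R` is central. -/
theorem le_center : D.R ≤ center G := by
  by_contra hc
  obtain ⟨A, p, -, hm⟩ := D.exists_mini (B := D.R) le_rfl hc
  by_cases hp : p = 2
  · subst hp
    by_cases hab : ∀ a ∈ A, ∀ b ∈ A, Commute a b
    · exact D.false_two_abelian hm hab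
    · exact D.false_two_nonabelian hm hab
  · exact D.false_odd hm hp

end Top

/-- A quasisimple minimal group. -/
structure Quasi (G : Type u) [Group G] : Prop extends Hyp G where
  perf : commutator G = ⊤
  simple : IsSimpleGroup (G ⧸ center G)
  nonab : ¬ IsMulCommutative (G ⧸ center G)
  normal_le : ∀ N : Subgroup G, N.Normal → N ≠ ⊤ → N ≤ center G

theorem Hyp.quasi (hG : Hyp G) (hp : commutator G = ⊤) : Quasi G := by
  obtain ⟨D⟩ := hG.exists_top hp
  have hle : ∀ N : Subgroup G, N.Normal → N ≠ ⊤ → N ≤ center G := fun N hN hne =>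
    (D.le_of_normal hN hne).trans D.le_center
  have hZ : center G ≠ ⊤ := fun e => hG.ns (Group.isSolvable_of_comm fun a b =>
    mem_center_iff.1 (e ▸ mem_top b) a)
  refine ⟨hG, hp, ?_, fun hc => hG.ns (solvable_of_quot
    (Group.isSolvable_of_comm fun a b => hc.is_comm.comm a b)), hle⟩
  haveI : Nontrivial (G ⧸ center G) := by
    obtain ⟨g, hg⟩ : ∃ g, g ∉ center G := by
      by_contra hall
      push Not at hall
      exact hZ ((eq_top_iff' _).2 hall)
    exact ⟨⟨g, 1, fun e => hg ((QuotientGroup.eq_one_iff g).1 e)⟩⟩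
  refine ⟨fun N hN => ?_⟩
  set π := QuotientGroup.mk' (center G)
  by_cases htop : N.comap π = ⊤
  · right
    rw [← map_comap_eq_self_of_surjective (QuotientGroup.mk'_surjective (center G)) N, htop,
      map_top_of_surjective _ (QuotientGroup.mk'_surjective _)]
  · left
    rw [← map_comap_eq_self_of_surjective (QuotientGroup.mk'_surjective (center G)) N,
      Subgroup.map_eq_bot_iff, QuotientGroup.ker_mk']
    exact hle _ inferInstance htop

end CfsgLib.MinNonCA
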