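import Cfsg.Agent.MinNonCA.Quasi
import Cfsg.Agent.MinNonCA.PSLMore
import Cfsg.Agent.MinNonCA.Exclude
import Cfsg.Agent.S3214
import Cfsg.Agent.S0252
import Cfsg.Agent.S0253

/-!
# The perfect minimal groups are `PSL₂(q)`
-/

set_option autoImplicit false
set_option linter.unusedSectionVars false
set_option linter.style.haveILetI false

namespace CfsgLib.MinNonCA

open Subgroup
open scoped Pointwise
open CfsgLib.Linear.SmallSub (P2)
open CfsgLib.PSLBinary (upper)

universe u

variable {G : Type u} [Group G]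

theorem ca_of_injective {K : Type*} [Group K] (j : K →* G) (hj : Function.Injective j)
    (h : CA j.range) : CA K := ca_of_mulEquiv (MonoidHom.ofInjective hj).symm h

theorem exists_sylow_map [Finite G] {X : Type*} [Group X] [Finite X] (π : G →* X)
    (hπ : Function.Surjective π) (T : Sylow 2 X) :
    ∃ S : Sylow 2 G, (S : Subgroup G).map π = (T : Subgroup X) := by
  haveI : Fact (Nat.Prime 2) := ⟨Nat.prime_two⟩
  obtain ⟨S⟩ := (inferInstance : Nonempty (Sylow 2 G))
  obtain ⟨c, hc⟩ := MulAction.exists_smul_eq X (S.mapSurjective hπ) T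
  obtain ⟨g, rfl⟩ := hπ c
  refine ⟨g • S, ?_⟩
  rw [← hc, Sylow.smul_def, Sylow.pointwise_smul_def, Sylow.smul_def, Sylow.pointwise_smul_def,
    Sylow.coe_mapSurjective]
  ext x
  constructor
  · rintro ⟨_, ⟨s, hs, rfl⟩, rfl⟩
    exact ⟨π s, mem_map_of_mem _ hs, by simp⟩
  · rintro ⟨_, ⟨s, hs, rfl⟩, rfl⟩
    exact ⟨g * s * g⁻¹, ⟨s, hs, rfl⟩, by simp⟩

namespace Quasi

variable [Finite G] (Q : Quasi G)

include Q

theorem center_bot_of_simple {X : Type*} [Group X] (π : G →* X) (hπ : Function.Surjective π)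
    [IsSimpleGroup X] : center X = ⊥ := by
  rcases (inferInstance : (center X).Normal).eq_bot_or_eq_top with h | h
  · exact h
  exfalso
  haveI : Group.IsSolvable X := Group.isSolvable_of_comm fun a b =>
    mem_center_iff.1 (h ▸ mem_top b) a
  obtain ⟨x, hx⟩ := exists_ne (1 : X)
  obtain ⟨g, rfl⟩ := hπ x
  exact hx (hom_eq_one Q.perf π g)

/-- A non-abelian `2`-subgroup of the quotient gives non-abelian Sylow subgroups. -/
theorem sylow_nonabelian {X : Type*} [Group X] [Finite X] (π : G →* X) (hπ : Function.Surjective π)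
    {K : Subgroup X} (hK : IsPGroup 2 K) (hab : ∃ a ∈ K, ∃ b ∈ K, ¬ Commute a b) (S : Sylow 2 G) :
    ¬ ∀ s ∈ (S : Subgroup G), ∀ t ∈ (S : Subgroup G), Commute s t := by
  haveI : Fact (Nat.Prime 2) := ⟨Nat.prime_two⟩
  intro hS
  obtain ⟨a, ha, b, hb, hne⟩ := hab
  obtain ⟨T, hT⟩ := hK.exists_le_sylow
  obtain ⟨S', hS'⟩ := exists_sylow_map π hπ T
  obtain ⟨c, hc⟩ := MulAction.exists_smul_eq G S S'
  obtain ⟨a', ha', rfl⟩ : a ∈ (S' : Subgroup G).map π := hS' ▸ hT ha
  obtain ⟨b', hb', rfl⟩ : b ∈ (S' : Subgroup G).map π := hS' ▸ hT hb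
  rw [← hc, Sylow.smul_def, Sylow.pointwise_smul_def] at ha' hb'
  obtain ⟨s, hs, rfl⟩ := ha'
  obtain ⟨t, ht, rfl⟩ := hb'
  exact hne (((hS s hs t ht).map _).map π)

/-- With non-abelian Sylow `2`-subgroups the centre has even order. -/
theorem two_dvd_center (S : Sylow 2 G)
    (hS : ¬ ∀ s ∈ (S : Subgroup G), ∀ t ∈ (S : Subgroup G), Commute s t) :
    2 ∣ Nat.card (center G) := by
  haveI : Fact (Nat.Prime 2) := ⟨Nat.prime_two⟩
  haveI : Nontrivial (S : Subgroup G) := by
    refine (nontrivial_iff_ne_bot _).2 fun e => hS fun s hs t _ => ?_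
    rw [e, mem_bot] at hs
    rw [hs]; exact Commute.one_left t
  haveI := S.2.center_nontrivial
  obtain ⟨⟨⟨z, hzS⟩, hz⟩, hz1⟩ := exists_ne (1 : center (S : Subgroup G))
  have hzc : z ∈ center G := Q.sylow_center_le S hS hzS fun s hs =>
    congrArg Subtype.val (mem_center_iff.1 hz ⟨s, hs⟩)
  obtain ⟨k, hk⟩ := S.2 ⟨z, hzS⟩
  have hzk : (⟨z, hzc⟩ : center G) ^ 2 ^ k = 1 := by
    have h := congrArg Subtype.val hk
    rw [SubgroupClass.coe_pow] at h
    exact Subtype.ext (by rw [SubgroupClass.coe_pow]; exact h)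
  obtain ⟨i, -, hi⟩ := (Nat.dvd_prime_pow Nat.prime_two).1 (orderOf_dvd_of_pow_eq_one hzk)
  have hne : orderOf (⟨z, hzc⟩ : center G) ≠ 1 := fun e => hz1 (by
    rw [orderOf_eq_one_iff] at e
    have e' : z = 1 := congrArg (fun a : center G => (a : G)) e
    exact Subtype.ext (Subtype.ext e'))
  rw [hi] at hne
  have hdvd : orderOf (⟨z, hzc⟩ : center G) ∣ Nat.card (center G) := _root_.orderOf_dvd_natCard _
  rw [hi] at hdvd
  have hi0 : i ≠ 0 := by rintro rfl; exact hne (pow_zero 2)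
  exact (dvd_pow_self 2 hi0).trans hdvd

variable {F : Type} [Field F] [Fintype F]

/-- With non-abelian Sylow `2`-subgroups, a cover of `PSL₂(q)` has abelian centralisers. -/
theorem ca_of_nonabelian (h4 : 4 ≤ Fintype.card F) (hodd : Odd (Fintype.card F)) (π : G →* P2 F)
    (hπ : Function.Surjective π) (hker : π.ker = center G)
    (hS : ∀ S : Sylow 2 G, ¬ ∀ s ∈ (S : Subgroup G), ∀ t ∈ (S : Subgroup G), Commute s t) :
    CA G := by
  haveI : Fact (Nat.Prime 2) := ⟨Nat.prime_two⟩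
  intro x a b ha hb hab
  by_contra hx
  have hx1 : π x ≠ 1 := fun e => hx (hker ▸ MonoidHom.mem_ker.2 e)
  by_cases hxx : π x * π x = 1
  · have hzp : IsPGroup 2 (zpowers (π x)) := IsPGroup.of_card (n := 1) (by
      rw [Nat.card_zpowers, pow_one]; exact orderOf_eq_prime (by rw [pow_two, hxx]) hx1)
    obtain ⟨T, hT⟩ := hzp.exists_le_sylow
    haveI : Nontrivial (T : Subgroup (P2 F)) := (nontrivial_iff_ne_bot _).2 fun e => hx1 (by
      have := hT (mem_zpowers (π x))
      rwa [e, mem_bot] at this)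
    haveI := T.2.center_nontrivial
    obtain ⟨j, hj⟩ := (T.2.to_subgroup (center (T : Subgroup (P2 F)))).exists_card_eq
    obtain ⟨⟨⟨v, hvT⟩, hvc⟩, hvo⟩ := exists_prime_orderOf_dvd_card'
      (G := center (T : Subgroup (P2 F))) 2 (hj ▸ dvd_pow_self 2 (fun e => by
        rw [e, pow_zero] at hj
        exact absurd (Finite.one_lt_card (α := center (T : Subgroup (P2 F)))) (by omega)))
    rw [← orderOf_coe, ← orderOf_coe] at hvo
    change orderOf v = 2 at hvo
    have hv2 : v * v = 1 := by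
      have := pow_orderOf_eq_one v
      rwa [hvo, pow_two] at this
    have hv1 : v ≠ 1 := fun e => by rw [e, orderOf_one] at hvo; omega
    obtain ⟨c, hcv⟩ := isConj_iff.1
      (CfsgLib.Linear.FourGroups.involutions_conj hodd hv2 hv1 hxx hx1)
    obtain ⟨S, hSm⟩ := exists_sylow_map π hπ (c • T)
    have hsc : ∀ s ∈ (S : Subgroup G), s ∈ cmod x := by
      intro s hs
      have h1 : π s ∈ ((c • T : Sylow 2 (P2 F)) : Subgroup (P2 F)) := hSm ▸ mem_map_of_mem _ hs
      rw [Sylow.smul_def, Sylow.pointwise_smul_def] at h1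
      obtain ⟨t, ht, hts⟩ := h1
      have h2 : Commute t v := congrArg Subtype.val (mem_center_iff.1 hvc ⟨t, ht⟩)
      have h3 := h2.map (MulAut.conj c).toMonoidHom
      have hts' : (MulAut.conj c).toMonoidHom t = π s := hts
      have hcv' : (MulAut.conj c).toMonoidHom v = π x := hcv
      rw [hts', hcv'] at h3
      rw [mem_cmod, ← hker, MonoidHom.mem_ker, map_mul, map_mul, map_mul, map_inv, map_inv]
      exact commute_iff_comm.1 h3
    by_cases hmove : ∃ y ∈ cmod x, ¬ Commute y x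
    · obtain ⟨y, hy, hyx⟩ := hmove
      have hYtop : cmod x ≠ ⊤ := fun e => hx (mem_center_of_cmod Q.perf fun g =>
        mem_cmod.1 (e ▸ mem_top g))
      have hmem : ∀ {g : G}, Commute g x → g ∈ cmod x := fun hg => by
        rw [mem_cmod, commute_iff_comm.1 hg]; exact one_mem _
      exact hab ((Q.proper _ hYtop).commute (hmem (Commute.refl x)) hy hyx (hmem ha) (hmem hb) ha hb)
    push Not at hmove
    obtain ⟨k, d, hd, hkd⟩ := Nat.exists_eq_two_pow_mul_odd (orderOf_pos x).ne'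
    set w := x ^ d
    have hw : π w = π x := by
      obtain ⟨i, rfl⟩ := hd
      rw [map_pow, pow_succ, pow_mul, pow_two, hxx, one_pow, one_mul]
    have hwk : w ^ 2 ^ k = 1 := by rw [← pow_mul, mul_comm, ← hkd, pow_orderOf_eq_one]
    have hwS : ∀ s ∈ (S : Subgroup G), Commute s w := fun s hs => (hmove s (hsc s hs)).pow_right d
    have hmemS : w ∈ (S : Subgroup G) := by
      have hzw : IsPGroup 2 (zpowers w) := by
        rintro ⟨y, hy⟩
        obtain ⟨i, rfl⟩ := mem_zpowers_iff.1 hy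
        refine ⟨k, Subtype.ext ?_⟩
        show (w ^ i) ^ 2 ^ k = 1
        rw [← zpow_natCast, ← zpow_mul, mul_comm, zpow_mul, zpow_natCast, hwk, one_zpow]
      have hnorm : zpowers w ≤ normalizer ((S : Subgroup G) : Set G) := by
        rw [zpowers_le]
        refine mem_normalizer_fintype fun s hs => ?_
        rw [SetLike.mem_coe, ← (hwS s hs).eq, mul_inv_cancel_right]
        exact hs
      have := S.3 (hzw.to_sup_of_normal_right' S.2 hnorm) le_sup_right
      exact this ▸ mem_sup_left (mem_zpowers w)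
    have := Q.sylow_center_le S (hS S) hmemS hwS
    rw [← hker, MonoidHom.mem_ker, hw] at this
    exact hx1 this
  · rcases PSL.cent_cases (Or.inr hxx) hx1 with ⟨c, hc⟩ | ⟨-, hT⟩
    · obtain ⟨Y₀, hY₀, hle, n, hn, hnx⟩ := PSL.upper_moved h4 c hx1 ((hc _).1 (Commute.refl _))
      obtain ⟨n, rfl⟩ := hπ n
      have hY : Y₀.comap π ≠ ⊤ := fun e => hY₀ (by
        rw [← map_comap_eq_self_of_surjective hπ Y₀, e, map_top_of_surjective _ hπ])
      have hmem : ∀ {g : G}, Commute g x → g ∈ Y₀.comap π := fun hg =>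
        hle _ ((hc _).1 (hg.map π))
      exact hab ((Q.proper _ hY).commute (hmem (Commute.refl x)) hn (fun e => hnx (e.map π))
        (hmem ha) (hmem hb) ha hb)
    · exact hab (commute_of_cyclic π hπ hker.le hT.cyc
        (mem_centralizer_singleton_iff.2 (ha.map π).eq) (mem_centralizer_singleton_iff.2 (hb.map π).eq))

/-- The covers of `PSL₂(q)`. -/
theorem psl_case (h5 : 5 ≤ Fintype.card F) (hnca : ¬ CA G) (π : G →* P2 F)
    (hπ : Function.Surjective π) (hker : π.ker = center G) :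
    Nonempty (G ≃* P2 F) ∧
      (((Fintype.card F).Prime ∧ 5 < Fintype.card F ∧ ¬ 16 ∣ Fintype.card F ^ 2 - 1) ∨
       (∃ p : ℕ, p.Prime ∧ p ≠ 2 ∧ (Fintype.card F = 3 ^ p ∨ Fintype.card F = 5 ^ p))) := by
  haveI : Fact (Nat.Prime 2) := ⟨Nat.prime_two⟩
  have hmult : Fintype.card F ≠ 9 →
      Nat.card (center G) ∣ Nat.gcd 2 (Fintype.card F - 1) := by
    intro h9
    haveI : NeZero (Nat.gcd 2 (Fintype.card F - 1)) :=
      ⟨(Nat.gcd_pos_of_pos_left _ two_pos).ne'⟩
    have h := CentralMeet.card_ker_dvd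
      (Cfsg.Agent.S2086.result (F := F) rfl 2 le_rfl (fun _ => by omega) (by
        simp only [Set.mem_insert_iff, Set.mem_singleton_iff, Prod.mk.injEq]
        omega)) Q.perf π hπ hker.le
    rw [hker] at h
    simpa using h
  have hiso : Nat.card (center G) = 1 → Nonempty (G ≃* P2 F) := fun h1 =>
    ⟨MulEquiv.ofBijective π ⟨(MonoidHom.ker_eq_bot_iff π).1 (by
      rw [hker]; exact Subgroup.card_eq_one.1 h1), hπ⟩⟩
  rcases PSL.two_or_odd (F := F) with h2 | hodd
  · exfalso
    have hev := PSL.even_card h2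
    have hd := hmult (by omega)
    rw [Nat.Coprime.gcd_eq_one (Nat.prime_two.coprime_iff_not_dvd.2 (by omega)), Nat.dvd_one] at hd
    obtain ⟨e⟩ := hiso hd
    exact hnca (ca_of_mulEquiv e.symm (PSL.ca_small (Or.inr h2)))
  obtain ⟨S⟩ := (inferInstance : Nonempty (Sylow 2 G))
  have hab : ∀ s ∈ (S : Subgroup G), ∀ t ∈ (S : Subgroup G), Commute s t := by
    by_contra hS
    refine hnca (Q.ca_of_nonabelian (by omega) hodd π hπ hker fun T hT => hS ?_)
    obtain ⟨c, hc⟩ := MulAction.exists_smul_eq G T S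
    intro s hs t ht
    rw [← hc, Sylow.smul_def, Sylow.pointwise_smul_def] at hs ht
    obtain ⟨s', hs', rfl⟩ := hs
    obtain ⟨t', ht', rfl⟩ := ht
    exact (hT s' hs' t' ht').map _
  have h16 : ¬ 16 ∣ Fintype.card F ^ 2 - 1 := fun h16 => by
    obtain ⟨K, hK, hne⟩ := PSL.exists_two_nonabelian hodd h16
    exact Q.sylow_nonabelian π hπ hK hne S hab
  have hcard : Nat.card (center G) = 1 := by
    have hd := hmult fun e => h16 (by rw [e]; norm_num)
    have hodd' := Q.center_odd S hab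
    have h2d : Nat.card (center G) ∣ 2 := hd.trans (Nat.gcd_dvd_left _ _)
    rcases (Nat.dvd_prime Nat.prime_two).1 h2d with h | h
    · exact h
    · rw [h] at hodd'; exact absurd hodd' (by decide)
  obtain ⟨e⟩ := hiso hcard
  refine ⟨⟨e⟩, ?_⟩
  have hne5 : Fintype.card F ≠ 5 := fun h =>
    hnca (ca_of_mulEquiv e.symm (PSL.ca_three_five (Or.inr h)))
  obtain ⟨p, hp⟩ := CharP.exists F
  obtain ⟨n, hpp, hn⟩ := FiniteField.card F p
  haveI := Fact.mk hpp
  have hnd : ∀ d : ℕ, d ≠ 0 → d ∣ (n : ℕ) → d < n → p ^ d < 7 := by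
    intro d hd0 hdvd hlt
    by_contra h7
    obtain ⟨ι⟩ := CfsgLib.Linear.PSLTwo.exists_hom_galois (F := F) p d n
      (by rw [Nat.card_eq_fintype_card, hn]) hd0 hdvd
    letI : Fintype (GaloisField p d) := Fintype.ofFinite _
    obtain ⟨f, hf⟩ := PSL.exists_embedding ι
    have hK : Fintype.card (GaloisField p d) = p ^ d := by
      rw [← Nat.card_eq_fintype_card, GaloisField.card p d hd0]
    have hKodd : Odd (Fintype.card (GaloisField p d)) := by
      rw [hK]
      rw [hn] at hodd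
      exact (Nat.odd_pow_iff n.ne_zero).1 hodd |>.pow
    set j := e.symm.toMonoidHom.comp f
    have hj : Function.Injective j := e.symm.injective.comp hf
    have hjtop : j.range ≠ ⊤ := fun htop => by
      have h1 : Nat.card (P2 (GaloisField p d)) = Nat.card (P2 F) := by
        rw [← Nat.card_congr e.toEquiv]
        exact Nat.card_congr (Equiv.ofBijective j ⟨hj, MonoidHom.range_eq_top.1 htop⟩)
      have h2 := CfsgLib.PSL2Classes.card_P2_mul hKodd
      rw [h1, CfsgLib.PSL2Classes.card_P2_mul hodd, hK, hn] at h2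
      have hlt' : p ^ d < p ^ (n : ℕ) := Nat.pow_lt_pow_right hpp.one_lt hlt
      have : p ^ d * ((p ^ d) ^ 2 - 1) < p ^ (n : ℕ) * ((p ^ (n : ℕ)) ^ 2 - 1) :=
        Nat.mul_lt_mul_of_lt_of_le' hlt' (Nat.sub_le_sub_right (Nat.pow_le_pow_left hlt'.le 2) 1)
          (Nat.sub_pos_of_lt (Nat.one_lt_pow two_ne_zero (Nat.one_lt_pow hd0 hpp.one_lt)))
      omega
    have hKca := ca_of_injective j hj (Q.ca hjtop)
    obtain ⟨v, hv, hv1⟩ := PSL.exists_invol (F := GaloisField p d) hKodd
    obtain ⟨a, b, ha, hb, hne⟩ := PSL.invol_not_comm hKodd (by omega) hv hv1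
    have hvc := hKca v a b ha hb hne
    obtain ⟨hs, hns⟩ := simple_psl (F := GaloisField p d) (by omega)
    haveI := hs
    rcases (inferInstance : (center (P2 (GaloisField p d))).Normal).eq_bot_or_eq_top with h | h
    · rw [h, mem_bot] at hvc; exact hv1 hvc
    · exact hns (Group.isSolvable_of_comm fun a b => mem_center_iff.1 (h ▸ mem_top b) a)
  by_cases h1 : (n : ℕ) = 1
  · left
    rw [hn, h1, pow_one] at h5 hne5 h16 ⊢
    exact ⟨hpp, lt_of_le_of_ne h5 (Ne.symm hne5), h16⟩
  right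
  have hn2 : 2 ≤ (n : ℕ) := by have := n.pos; omega
  have hp7 : p < 7 := by simpa using hnd 1 one_ne_zero (one_dvd _) (by omega)
  have hp3 : p = 3 ∨ p = 5 := by
    have h2' : p ≠ 2 := fun e => by
      subst e
      rw [hn, Nat.odd_pow_iff n.ne_zero] at hodd
      exact absurd hodd (by decide)
    interval_cases p <;> simp_all (config := { decide := true })
  have hnp : (n : ℕ).Prime := by
    rw [Nat.prime_def_lt]
    refine ⟨hn2, fun d hlt hdvd => ?_⟩
    by_contra hd1
    have hd0 : d ≠ 0 := by rintro rfl; rw [zero_dvd_iff] at hdvd; omega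
    have := hnd d hd0 hdvd hlt
    have : p ^ 2 ≤ p ^ d := Nat.pow_le_pow_right hpp.pos (by omega)
    rcases hp3 with rfl | rfl <;> omega
  refine ⟨n, hnp, fun e => h16 ?_, ?_⟩
  · rw [hn, e]
    rcases hp3 with rfl | rfl <;> norm_num
  · rcases hp3 with rfl | rfl
    · exact Or.inl hn
    · exact Or.inr hn

/-- A perfect minimal group is one of the listed `PSL₂(q)`. -/
theorem classify (hnca : ¬ CA G) :
    ∃ (F : Type) (_ : Field F) (_ : Fintype F), Nonempty (G ≃* P2 F) ∧
      (((Fintype.card F).Prime ∧ 5 < Fintype.card F ∧ ¬ 16 ∣ Fintype.card F ^ 2 - 1) ∨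
       (∃ p : ℕ, p.Prime ∧ p ≠ 2 ∧ (Fintype.card F = 3 ^ p ∨ Fintype.card F = 5 ^ p))) := by
  haveI := Q.simple
  set π := QuotientGroup.mk' (center G)
  have hπ : Function.Surjective π := QuotientGroup.mk'_surjective _
  have hker : π.ker = center G := QuotientGroup.ker_mk' _
  rcases Cfsg.Agent.S3214.result Q.nonab Q.involution_centralizer with
    ⟨F, iF, iF', hq, ⟨e⟩⟩ | hS | ⟨⟨e⟩⟩ | ⟨F, _, _, hF, ⟨e⟩⟩
  · by_cases h4 : Fintype.card F = 4
    · haveI : Fact (Nat.Prime 5) := ⟨Nat.prime_five⟩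
      obtain ⟨e₁⟩ := Cfsg.Agent.S0252.result h4
      obtain ⟨e₂⟩ := Cfsg.Agent.S0253.result (F := ZMod 5) (ZMod.card 5)
      let e' := e.trans (e₁.trans e₂.symm)
      exact ⟨ZMod 5, inferInstance, inferInstance, Q.psl_case (by rw [ZMod.card]) hnca
        (e'.toMonoidHom.comp π) (e'.surjective.comp hπ)
        ((MonoidHom.ker_mulEquiv_comp π e').trans hker)⟩
    · exact ⟨F, iF, iF', Q.psl_case (by omega) hnca (e.toMonoidHom.comp π)
        (e.surjective.comp hπ) ((MonoidHom.ker_mulEquiv_comp π e).trans hker)⟩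
  · exact (Q.not_suzuki hS π hπ hker.le).elim
  · exact (Q.not_alt_seven e π hπ hker.le).elim
  · exact (Q.not_psl_three hF e π hπ hker.le).elim

end Quasi

end CfsgLib.MinNonCA
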