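import Cfsg.Agent.MinNonCA.Basic
import Cfsg.Agent.S0042
import Cfsg.Agent.S4248
import Cfsg.Agent.S4249
import Cfsg.Agent.S1162
import Cfsg.Agent.Frobenius.Fpf
import Cfsg.Agent.Dickson.Torus
import Cfsg.Agent.Classical.SmallPSL
import Cfsg.Agent.Suzuki.SubfieldConj
import Cfsg.Agent.Char.Burnside

/-!
# Non-solvable groups with abelian centralisers of non-central elements

Modulo the centre such a group is `PSL₂(q)`, `PGL₂(q)` or a Suzuki group.
-/

set_option autoImplicit false
set_option linter.unusedSectionVars false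
set_option linter.style.haveILetI false

namespace CfsgLib.MinNonCA

open Subgroup
open scoped Pointwise

universe u

variable {G : Type u} [Group G] [Finite G]

theorem CA.cent_eq (h : CA G) {x y : G} (hx : x ∉ center G) (hy : y ∉ center G) (hyx : Commute y x)
    (g : G) : Commute g x ↔ Commute g y :=
  ⟨fun hg => h.commute hx hg hyx, fun hg => h.commute hy hg hyx.symm⟩

theorem solvable_of_quot (hq : Group.IsSolvable (G ⧸ center G)) : Group.IsSolvable G :=
  (Group.isSolvable_iff_subgroup_quotient (center G)).2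
    ⟨Group.isSolvable_of_comm fun x y => Subtype.ext (mem_center_iff.1 y.2 x), hq⟩

/-- The quotient by the centre is not a Frobenius group. -/
theorem CA.not_frobenius (h : CA G) (hns : ¬ Group.IsSolvable G) (H : Subgroup (G ⧸ center G)) :
    ¬ Cfsg.IsFrobeniusComplement H := by
  intro hH
  haveI : Fact (Nat.Prime 2) := ⟨Nat.prime_two⟩
  obtain ⟨K, hKeq, hKn, hKnil⟩ := Cfsg.Agent.S0042.result H hH
  have hTI : ∀ g : G ⧸ center G, g ∉ H → ∀ a ∈ H, g * a * g⁻¹ ∈ H → a = 1 := by
    intro g hg a ha hga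
    have h1 : g * a * g⁻¹ ∈ H ⊓ MulAut.conj g • H :=
      ⟨hga, Subgroup.smul_mem_pointwise_smul a (MulAut.conj g) H ha⟩
    rw [hH.2.2 g hg, Subgroup.mem_bot, conj_eq_one_iff] at h1
    exact h1
  obtain ⟨K', hK'n, hK'H, hK'sup, -, hK'⟩ := CfsgLib.Char.exists_frobenius_kernel H hTI
  obtain rfl : K = K' := by
    ext g
    rw [← SetLike.mem_coe, hKeq, hK']
    refine or_congr Iff.rfl (forall_congr' fun x => not_congr ?_)
    rw [Subgroup.mem_pointwise_smul_iff_inv_smul_mem]
    simp
  haveI := hKn
  haveI : Group.IsSolvable K := by haveI := hKnil; infer_instance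
  -- the complement is not solvable
  have hHns : ¬ Group.IsSolvable H := fun hs => hns (solvable_of_quot (by
    haveI := hs
    haveI : Group.IsSolvable ((G ⧸ center G) ⧸ K) := by
      refine Group.isSolvable_of_surjective (f := (QuotientGroup.mk' K).comp H.subtype) fun q => ?_
      obtain ⟨g, rfl⟩ := QuotientGroup.mk'_surjective K q
      obtain ⟨a, ha, b, hb, rfl⟩ := mem_sup_of_normal_left.1 (hK'sup ▸ mem_top g : g ∈ K ⊔ H)
      exact ⟨⟨b, hb⟩, by
        show QuotientGroup.mk' K b = QuotientGroup.mk' K (a * b)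
        rw [map_mul, show QuotientGroup.mk' K a = 1 from (QuotientGroup.eq_one_iff a).2 ha, one_mul]⟩
    exact (Group.isSolvable_iff_subgroup_quotient K).2 ⟨inferInstance, inferInstance⟩))
  have h2 : 2 ∣ Nat.card H := by
    by_contra h2
    exact hHns (CfsgLib.OddEnd.odd_solvable _ (Nat.odd_iff.2 (Nat.two_dvd_ne_zero.1 h2)))
  obtain ⟨t, ht⟩ := exists_prime_orderOf_dvd_card' (G := H) 2 h2
  -- the complement acts without fixed points
  let φ : H →* MulAut K := (MulAut.conjNormal).comp H.subtype
  have hfpf : CfsgLib.Frobenius.IsFpf φ := by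
    intro e he k hk
    have hk' : (e : G ⧸ center G) * k * (e : G ⧸ center G)⁻¹ = k := by
      simpa [φ] using congrArg Subtype.val hk
    by_contra hk1
    have hkH : (k : G ⧸ center G) ∉ H := fun hmem => hk1 (Subtype.ext
      (Subgroup.mem_bot.1 (hK'H ▸ (⟨k.2, hmem⟩ : (k : G ⧸ center G) ∈ K ⊓ H))))
    have hke : (k : G ⧸ center G) * e * (k : G ⧸ center G)⁻¹ = e :=
      mul_inv_eq_iff_eq_mul.2 (mul_inv_eq_iff_eq_mul.1 hk').symm
    exact he (Subtype.ext (hTI _ hkH e e.2 (by rw [hke]; exact e.2)))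
  haveI : Nontrivial K := (nontrivial_iff_ne_bot K).2 fun e => hH.2.1 (by
    rw [e, bot_sup_eq] at hK'sup; exact hK'sup)
  have hcen : ∀ c : H, c * t = t * c := fun c => mul_inv_eq_iff_eq_mul.1
    (hfpf.unique_involution (s := c * t * c⁻¹) (t := t)
      (by rw [← MulAut.conj_apply, MulEquiv.orderOf_eq, ht]) ht)
  obtain ⟨a, hat⟩ := QuotientGroup.mk'_surjective (center G) (t : G ⧸ center G)
  have ha : a ∉ center G := fun hac => by
    have : t = 1 := Subtype.ext (by rw [← hat]; exact (QuotientGroup.eq_one_iff a).2 hac)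
    rw [this, orderOf_one] at ht; omega
  have hle : H.comap (QuotientGroup.mk' (center G)) ≤ cmod a := fun g hg => by
    rw [cmod, mem_comap, mem_centralizer_singleton_iff, hat]
    exact congrArg Subtype.val (hcen ⟨_, hg⟩)
  haveI := solvable_of_le hle (h.isSolvable_cmod ha)
  exact hHns (Group.isSolvable_of_surjective (G := H.comap (QuotientGroup.mk' (center G)))
    (f := (QuotientGroup.mk' (center G)).subgroupComap H)
    (MonoidHom.subgroupComap_surjective_of_surjective _ _ (QuotientGroup.mk'_surjective _)))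

/-- Some element normalising the centraliser of a non-central element moves it. -/
theorem CA.moved (h : CA G) (hns : ¬ Group.IsSolvable G) {x : G} (hx : x ∉ center G) :
    ∃ g : G, (∀ c, Commute c x → Commute (g * c * g⁻¹) x) ∧ ¬ Commute g x := by
  by_contra hno
  push Not at hno
  set π := QuotientGroup.mk' (center G)
  set A := centralizer ({x} : Set G)
  refine h.not_frobenius hns (A.map π) ⟨?_, ?_, ?_⟩
  · intro e
    have : π x ∈ A.map π := mem_map_of_mem _ (mem_centralizer_singleton_iff.2 rfl)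
    rw [e, mem_bot] at this
    exact hx ((QuotientGroup.eq_one_iff x).1 this)
  · intro e
    refine hx (mem_center_iff.2 fun g => ?_)
    obtain ⟨c, hc, hcg⟩ : π g ∈ A.map π := e ▸ mem_top _
    have hz : g⁻¹ * c ∈ center G := (QuotientGroup.eq_iff_div_mem (N := center G)).1 hcg.symm |> fun _ =>
      QuotientGroup.eq.1 hcg.symm
    have h1 : Commute (c * (g⁻¹ * c)⁻¹) x :=
      (show Commute c x from mem_centralizer_singleton_iff.1 hc).mul_left
        (commute_of_mem_center (inv_mem hz) x).symm
    rwa [mul_inv_rev, inv_inv, mul_inv_cancel_left] at h1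
  · intro gb hgb
    rw [eq_bot_iff]
    rintro u ⟨hu1, hu2⟩
    rw [mem_bot]
    by_contra hne
    obtain ⟨g, rfl⟩ := QuotientGroup.mk'_surjective _ gb
    obtain ⟨c, hc, rfl⟩ := hu1
    replace hu2 : (π g)⁻¹ * π c * π g ∈ A.map π := by
      have h2 : π c ∈ MulAut.conj (π g) • A.map π := hu2
      rwa [mem_pointwise_smul_iff_inv_smul_mem, MulAut.smul_def, MulAut.conj_inv_apply] at h2
    obtain ⟨d, hd, hdc⟩ := hu2
    have hcn : c ∉ center G := fun e => hne ((QuotientGroup.eq_one_iff c).2 e)
    have hcx : Commute c x := mem_centralizer_singleton_iff.1 hc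
    have hgc : Commute (g⁻¹ * c * g) x := by
      have hz : d⁻¹ * (g⁻¹ * c * g) ∈ center G := QuotientGroup.eq.1
        (show π d = π (g⁻¹ * c * g) by rw [hdc, map_mul, map_mul, map_inv])
      have := (show Commute d x from mem_centralizer_singleton_iff.1 hd).mul_left
        (commute_of_mem_center hz x).symm
      rwa [mul_inv_cancel_left] at this
    have hgcn : g⁻¹ * c * g ∉ center G := fun e => hcn (by
      have h1 := (inferInstance : (center G).Normal).conj_mem _ e g
      rwa [show g * (g⁻¹ * c * g) * g⁻¹ = c by group] at h1)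
    refine hgb (mem_map_of_mem _ (mem_centralizer_singleton_iff.2 ?_))
    refine (hno g fun e he => ?_).eq
    rw [h.cent_eq hx hcn hcx]
    have h1 := ((h.cent_eq hx hgcn hgc e).1 he).map (MulAut.conj g)
    simp only [MulEquiv.coe_toMonoidHom, MulAut.conj_apply] at h1
    rwa [show g * (g⁻¹ * c * g) * g⁻¹ = c by group] at h1

theorem simple_psl {F : Type} [Field F] [Fintype F] (h4 : 4 ≤ Fintype.card F) :
    IsSimpleGroup (Matrix.ProjectiveSpecialLinearGroup (Fin 2) F) ∧
      ¬ Group.IsSolvable (Matrix.ProjectiveSpecialLinearGroup (Fin 2) F) := by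
  have hsq := CfsgLib.Linear.Small.exists_sq_ne_one (F := F) (by omega)
  haveI : IsSimpleGroup (Matrix.ProjectiveSpecialLinearGroup (Fin 2) F) :=
    CfsgLib.Linear.isSimpleGroup_PSL (Or.inr hsq)
  refine ⟨inferInstance, fun hs => ?_⟩
  haveI := hs
  have h1 := CfsgLib.Linear.commutator_SL_eq_top (F := F) (ι := Fin 2) (Or.inr hsq)
  have h2 : commutator (Matrix.ProjectiveSpecialLinearGroup (Fin 2) F) = ⊤ := by
    rw [commutator_def, ← Subgroup.map_top_of_surjective _
      (QuotientGroup.mk'_surjective (center (Matrix.SpecialLinearGroup (Fin 2) F))),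
      ← map_commutator, ← commutator_def, h1]
  exact (Group.IsSolvable.commutator_lt_top_of_nontrivial
    (Matrix.ProjectiveSpecialLinearGroup (Fin 2) F)).ne h2

/-- In `PGL₂`, a normal copy of `PSL₂` of index two containing the commutators. -/
theorem pgl_half {F : Type} [Field F] [Fintype F] (h5 : 5 ≤ Fintype.card F)
    (hodd : Odd (Fintype.card F)) {X : Type u} [Group X]
    (e : X ≃* (GL (Fin 2) F ⧸ center (GL (Fin 2) F))) :
    ∃ S : Subgroup X, S.index = 2 ∧ commutator X ≤ S ∧
      Nonempty (S ≃* Matrix.ProjectiveSpecialLinearGroup (Fin 2) F) := by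
  have hidx : (CfsgLib.Dickson.Torus.pslTop F).index = 2 := by
    rw [CfsgLib.Dickson.Torus.index_pslTop, Nat.card_eq_fintype_card]
    exact Nat.gcd_eq_left (by obtain ⟨k, hk⟩ := hodd; omega)
  let e' : X ≃* CfsgLib.Dickson.PGL2 F := e
  refine ⟨(CfsgLib.Dickson.Torus.pslTop F).comap e'.toMonoidHom, ?_, ?_, ?_⟩
  · rw [index_comap_of_surjective _ e'.surjective, hidx]
  · rw [← map_le_iff_le_comap, commutator_def, map_commutator,
      map_top_of_surjective _ e'.surjective, ← commutator_def]
    haveI := normal_of_index_eq_two hidx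
    refine (Subgroup.Normal.quotient_commutative_iff_commutator_le).1 ?_
    haveI : Fact (Nat.Prime 2) := ⟨Nat.prime_two⟩
    haveI : IsCyclic (CfsgLib.Dickson.PGL2 F ⧸ CfsgLib.Dickson.Torus.pslTop F) :=
      isCyclic_of_prime_card (p := 2) (by rw [← index_eq_card, hidx])
    exact ⟨⟨fun a b => (IsCyclic.commutative (α := CfsgLib.Dickson.PGL2 F ⧸ CfsgLib.Dickson.Torus.pslTop F)
      ).is_comm.comm a b⟩⟩
  · refine ⟨((MulEquiv.subgroupMap e' _).trans (MulEquiv.subgroupCongr
      (map_comap_eq_self_of_surjective e'.surjective _))).trans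
      (MonoidHom.ofInjective Matrix.ProjectiveSpecialLinearGroup.toPGL_injective).symm⟩

/-- The three possibilities for the quotient by the centre. -/
def Types (X : Type u) [Group X] : Prop :=
  (∃ (F : Type) (_ : Field F) (_ : Fintype F), 4 ≤ Fintype.card F ∧
    Nonempty (X ≃* Matrix.ProjectiveSpecialLinearGroup (Fin 2) F)) ∨
  (∃ (F : Type) (_ : Field F) (_ : Fintype F), 5 ≤ Fintype.card F ∧ Odd (Fintype.card F) ∧
    Nonempty (X ≃* (GL (Fin 2) F ⧸ center (GL (Fin 2) F)))) ∨
  Cfsg.Lie.IsoSuzuki X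

theorem CA.types (h : CA G) (hns : ¬ Group.IsSolvable G) : Types (G ⧸ center G) := by
  classical
  set π := QuotientGroup.mk' (center G)
  have hZ : ∀ x : G, center G ≤ centralizer ({x} : Set G) := fun x => center_le_centralizer _
  obtain ⟨x₀, hx₀⟩ : ∃ x : G, x ∉ center G := by
    by_contra hall
    push Not at hall
    exact hns (Group.isSolvable_of_comm fun a b => mem_center_iff.1 (hall b) a)
  have hback : ∀ {x g : G}, π g ∈ (centralizer ({x} : Set G)).map π → Commute g x := by
    intro x g hg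
    obtain ⟨c, hc, hcg⟩ := hg
    have hz : c⁻¹ * g ∈ center G := QuotientGroup.eq.1 hcg
    have := (show Commute c x from mem_centralizer_singleton_iff.1 hc).mul_left
      (commute_of_mem_center hz x).symm
    rwa [mul_inv_cancel_left] at this
  have hmem : ∀ {g x : G}, Commute g x → π g ∈ (centralizer ({x} : Set G)).map π :=
    fun hg => mem_map_of_mem _ (mem_centralizer_singleton_iff.2 hg.eq)
  set S : Set (Subgroup (G ⧸ center G)) :=
    {K | ∃ x : G, x ∉ center G ∧ K = (centralizer ({x} : Set G)).map π}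
  have hS2 : ∃ H ∈ S, ∃ K ∈ S, H ≠ K := by
    by_contra hall
    push Not at hall
    refine hx₀ (mem_center_iff.2 fun g => ?_)
    by_cases hg : g ∈ center G
    · exact (commute_of_mem_center hg x₀).eq.symm
    · refine (hback ?_ : Commute g x₀).eq
      rw [hall _ ⟨x₀, hx₀, rfl⟩ _ ⟨g, hg, rfl⟩]
      exact hmem (Commute.refl g)
  have hS1 : ∀ H ∈ S, H ≠ ⊥ := by
    rintro _ ⟨x, hx, rfl⟩ e
    have := hmem (Commute.refl x)
    rw [e, mem_bot] at this
    exact hx ((QuotientGroup.eq_one_iff x).1 this)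
  have hpart : ∀ u : G ⧸ center G, u ≠ 1 → ∃! H : Subgroup (G ⧸ center G), H ∈ S ∧ u ∈ H := by
    intro u hu
    obtain ⟨g, rfl⟩ := QuotientGroup.mk'_surjective _ u
    have hg : g ∉ center G := fun e => hu ((QuotientGroup.eq_one_iff g).2 e)
    refine ⟨_, ⟨⟨g, hg, rfl⟩, hmem (Commute.refl g)⟩, ?_⟩
    rintro _ ⟨⟨x, hx, rfl⟩, hgx⟩
    ext v
    obtain ⟨w, rfl⟩ := QuotientGroup.mk'_surjective _ v
    have hiff := h.cent_eq hx hg (hback hgx)
    exact ⟨fun hw => hmem ((hiff w).1 (hback hw)), fun hw => hmem ((hiff w).2 (hback hw))⟩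
  rcases Cfsg.Agent.S4248.result S hS2 hS1 hpart with ⟨⟨e⟩⟩ | ⟨p, hp, hne⟩ | ⟨H, hH⟩ | h' | h' | h'
  · exfalso
    haveI : Group.IsSolvable (Equiv.Perm (Fin 4)) :=
      CfsgLib.Char.isSolvable_of_card_eq 2 3 3 1 Nat.prime_two Nat.prime_three
        (by rw [Nat.card_perm, Nat.card_fin]; rfl)
    exact hns (solvable_of_quot (Group.isSolvable_of_isSolvable_injective (f := e.toMonoidHom)
      e.injective))
  · exfalso
    haveI := Fact.mk hp
    by_cases hP : IsPGroup p (G ⧸ center G)
    · haveI := hP.isNilpotent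
      exact hns (solvable_of_quot inferInstance)
    obtain ⟨hnil, hidx⟩ := Cfsg.Agent.S4249.result p hp hP hne
    set K := Subgroup.closure {g : G ⧸ center G | g ^ p ≠ 1}
    haveI : K.Normal := by
      refine Subgroup.Normal.mk fun n hn g => ?_
      suffices hle : K.map (MulAut.conj g).toMonoidHom ≤ K from hle ⟨n, hn, rfl⟩
      rw [MonoidHom.map_closure, closure_le]
      rintro _ ⟨a, ha, rfl⟩
      refine subset_closure ?_
      simp only [Set.mem_setOf_eq, MulEquiv.coe_toMonoidHom, MulAut.conj_apply, conj_pow]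
      exact fun e => ha (conj_eq_one_iff.1 e)
    haveI := hnil
    haveI : IsCyclic ((G ⧸ center G) ⧸ K) := isCyclic_of_prime_card (by rw [← index_eq_card, hidx])
    haveI : Group.IsSolvable ((G ⧸ center G) ⧸ K) := Group.isSolvable_of_comm fun a b =>
      (IsCyclic.commutative (α := (G ⧸ center G) ⧸ K)).is_comm.comm a b
    exact hns (solvable_of_quot ((Group.isSolvable_iff_subgroup_quotient K).2
      ⟨inferInstance, inferInstance⟩))
  · exact absurd hH (h.not_frobenius hns H)
  · exact Or.inl h'
  · exact Or.inr (Or.inl h')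
  · exact Or.inr (Or.inr h')

/-- There is a normal non-solvable simple subgroup modulo the centre. -/
theorem Types.exists_simple {X : Type u} [Group X] (h : Types X) :
    ∃ S : Subgroup X, S.Normal ∧ IsSimpleGroup S ∧ ¬ Group.IsSolvable S := by
  rcases h with ⟨F, _, _, hq, ⟨e⟩⟩ | ⟨F, _, _, hq, hodd, ⟨e⟩⟩ | ⟨F, _, _, m, hm, hF, ⟨e⟩⟩
  · obtain ⟨hs, hn⟩ := simple_psl hq
    refine ⟨⊤, inferInstance, (topEquiv.trans e).isSimpleGroup, fun hsol => hn ?_⟩
    haveI := hsol
    exact Group.isSolvable_of_surjective (f := (topEquiv.trans e).toMonoidHom)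
      (topEquiv.trans e).surjective
  · obtain ⟨S, hidx, -, ⟨f⟩⟩ := pgl_half hq hodd e
    obtain ⟨hs, hn⟩ := simple_psl (F := F) (by omega)
    refine ⟨S, normal_of_index_eq_two hidx, f.isSimpleGroup, fun hsol => hn ?_⟩
    haveI := hsol
    exact Group.isSolvable_of_surjective (f := f.toMonoidHom) f.surjective
  · haveI := Cfsg.Agent.S1162.result hm hF
    refine ⟨⊤, inferInstance, (topEquiv.trans e).isSimpleGroup, fun hsol => ?_⟩
    haveI := hsol
    haveI : Group.IsSolvable (Cfsg.Lie.Sz F (2 ^ (m + 1))) :=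
      Group.isSolvable_of_surjective (f := (topEquiv.trans e).toMonoidHom)
        (topEquiv.trans e).surjective
    refine CfsgLib.Suzuki.not_solvable_Sz (CfsgLib.Suzuki.isSzField_of_card hm hF) ?_
    exact Group.isSolvable_of_surjective
      (f := (CfsgLib.Suzuki.lieEquiv (CfsgLib.Suzuki.isSzField_of_card hm hF)).symm.toMonoidHom)
      (CfsgLib.Suzuki.lieEquiv (CfsgLib.Suzuki.isSzField_of_card hm hF)).symm.surjective

/-- The solvable normal subgroups are central. -/
theorem CA.radical (h : CA G) (hns : ¬ Group.IsSolvable G) (N : Subgroup G) [N.Normal]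
    (hN : Group.IsSolvable N) : N ≤ center G := by
  obtain ⟨S, hSn, hSs, hSns⟩ := (h.types hns).exists_simple
  set π := QuotientGroup.mk' (center G)
  intro a ha
  by_contra hac
  haveI : (N.map π).Normal := Subgroup.Normal.map inferInstance _ (QuotientGroup.mk'_surjective _)
  haveI := hN
  haveI : Group.IsSolvable (N.map π) := Group.isSolvable_of_surjective (f := π.subgroupMap N)
    (π.subgroupMap_surjective N)
  have hinf : S ⊓ N.map π = ⊥ := by
    rcases (inferInstance : ((N.map π).subgroupOf S).Normal).eq_bot_or_eq_top with e | e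
    · rwa [subgroupOf_eq_bot, disjoint_comm, disjoint_iff] at e
    · exact absurd (solvable_of_le (subgroupOf_eq_top.1 e) inferInstance) hSns
  have hle : S.comap π ≤ cmod a := fun g hg => by
    rw [cmod, mem_comap, mem_centralizer_singleton_iff]
    exact (Subgroup.commute_of_normal_of_disjoint _ _ hSn inferInstance (disjoint_iff.2 hinf)
      _ _ hg (mem_map_of_mem _ ha)).eq
  haveI := solvable_of_le hle (h.isSolvable_cmod hac)
  exact hSns (Group.isSolvable_of_surjective (G := S.comap π) (f := π.subgroupComap S)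
    (MonoidHom.subgroupComap_surjective_of_surjective _ _ (QuotientGroup.mk'_surjective _)))

end CfsgLib.MinNonCA
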